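import Mathlib
import Cfsg.Agent.BF.Base
import Cfsg.Agent.PLocal.CFBasic
import Cfsg.Agent.SylT.L5E
import Cfsg.Agent.Inv.StrongEmb
import Cfsg.Agent.Lyons.Tools

/-! Alperin's fusion theorem for a model `ι : K →* G` of a Sylow 2-subgroup, as an induction
principle over critical subgroups. -/

set_option autoImplicit false
set_option linter.unusedSectionVars false

namespace Cfsg.Agent.L4F

open Subgroup Cfsg Cfsg.Agent.BF Cfsg.Agent.TT Cfsg.Agent.PLocal.Amb Cfsg.Agent.Lyons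

variable {G : Type*} [Group G] {K : Type} [Group K] {ι : K →* G} {L : Subgroup G}
  {P P' P'' : Subgroup K} {g h : G} {x y : K} {Good : Subgroup K → G → Prop}

/-- `g` conjugates `ι P` into `ι P'` -/
def Mp (ι : K →* G) (g : G) (P P' : Subgroup K) : Prop := ∀ x ∈ P, ∃ y ∈ P', Cj ι g x y

theorem Mp.mono (a : Mp ι g P P') {Q Q' : Subgroup K} (h1 : Q ≤ P) (h2 : P' ≤ Q') : Mp ι g Q Q' :=
  fun x hx => (a x (h1 hx)).imp fun _ r => ⟨h2 r.1, r.2⟩
theorem Mp.top (a : Mp ι g P P') : Mp ι g P ⊤ := a.mono le_rfl le_top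
theorem Mp.trans (a : Mp ι g P P') (b : Mp ι h P' P'') : Mp ι (h * g) P P'' := fun x hx => by
  obtain ⟨y, hy, e⟩ := a x hx
  obtain ⟨y', hy', e'⟩ := b y hy
  exact ⟨y', hy', e.trans e'⟩
theorem Mp.refl : Mp ι 1 P P := fun x hx => ⟨x, hx, Cj.refl x⟩
theorem Mp.of {k : K} (a : ∀ x ∈ P, k * x * k⁻¹ ∈ P') : Mp ι (ι k) P P' :=
  fun x hx => ⟨_, a x hx, Cj.of k x⟩
theorem Mp.mem (i : Function.Injective ι) (a : Mp ι g P P') (hx : x ∈ P) (e : Cj ι g x y) :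
    y ∈ P' := by
  obtain ⟨y', hy, e'⟩ := a x hx
  rwa [(e.eq_iff i e').1 rfl]
theorem mp_iff : Mp ι g P P' ↔ cj(g, P.map ι) ≤ P'.map ι :=
  ⟨cj_map_le, fun a _ hx => exists_cj_of_le a hx⟩
theorem mp_top_iff : Mp ι g P ⊤ ↔ cj(g, P.map ι) ≤ ι.range := by
  rw [mp_iff, ← MonoidHom.range_eq_map]
theorem Mp.pow (a : Mp ι g P P) (n : ℕ) : Mp ι (g ^ n) P P := by
  induction n with
  | zero => simpa using Mp.refl
  | succ n ih => rw [pow_succ']; exact ih.trans a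
theorem _root_.Cfsg.Agent.BF.Cj.pow (a : Cj ι g x y) (n : ℕ) : Cj ι g (x ^ n) (y ^ n) := by
  induction n with
  | zero => simpa using Cj.one
  | succ n ih => rw [pow_succ, pow_succ]; exact ih.mul a
theorem _root_.Cfsg.Agent.BF.Cj.uq (i : Function.Injective ι) {y' : K} (a : Cj ι g x y)
    (b : Cj ι g x y') : y = y' := (a.eq_iff i b).1 rfl
theorem _root_.Cfsg.Agent.BF.Cj.gpow (a : Cj ι g x x) (n : ℕ) : Cj ι (g ^ n) x x := by
  induction n with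
  | zero => simpa using Cj.refl x
  | succ n ih => rw [pow_succ']; exact ih.trans a

/-- the image of `P` under `g` -/
def im (ι : K →* G) (g : G) (P : Subgroup K) : Subgroup K := (cj(g, P.map ι)).comap ι

theorem mem_im : y ∈ im ι g P ↔ ∃ x ∈ P, Cj ι g x y :=
  ⟨by rintro ⟨_, ⟨x, hx, rfl⟩, e⟩; exact ⟨x, hx, e⟩, fun ⟨x, hx, e⟩ => ⟨_, ⟨x, hx, rfl⟩, e⟩⟩
theorem Mp.to_im (a : Mp ι g P P') : Mp ι g P (im ι g P) :=
  fun x hx => (a x hx).imp fun _ r => ⟨mem_im.2 ⟨x, hx, r.2⟩, r.2⟩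
theorem mp_im_inv : Mp ι g⁻¹ (im ι g P) P := fun _ hy =>
  (mem_im.1 hy).imp fun _ r => ⟨r.1, r.2.symm⟩
theorem Mp.im_le (i : Function.Injective ι) (a : Mp ι g P P') : im ι g P ≤ P' := fun _ hy =>
  (mem_im.1 hy).elim fun _ r => a.mem i r.1 r.2
theorem Mp.map_im (a : Mp ι g P P') : (im ι g P).map ι = cj(g, P.map ι) :=
  map_comap_eq_self (mp_top_iff.1 a.top)

/-- closure properties of the predicate `Good` -/
structure GC (ι : K →* G) (Good : Subgroup K → G → Prop) : Prop where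
  mono : ∀ {P P' g}, P' ≤ P → Good P g → Good P' g
  mul : ∀ {P P' g h}, Mp ι g P P' → Good P g → Good P' h → Good P (h * g)
  inv : ∀ {P P' g}, Mp ι g⁻¹ P' P → Good P g → Good P' g⁻¹
  syl : ∀ P k, Good P (ι k)
  cen : ∀ {P c}, (∀ x ∈ P, Cj ι c x x) → Good P c

/-- if `g` acts on `P` as a good element, it is good -/
theorem GC.congr (c : GC ι Good) (a : Mp ι g P ⊤) (e : ∀ x ∈ P, ∀ y, Cj ι g x y → Cj ι h x y)
    (b : Good P h) : Good P g := by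
  have := c.mul (P := P) (P' := P) (g := h⁻¹ * g) (h := h) (fun x hx => by
    obtain ⟨y, -, r⟩ := a x hx
    exact ⟨x, hx, r.trans (e x hx y r).symm⟩) (c.cen fun x hx => by
    obtain ⟨y, -, r⟩ := a x hx
    exact r.trans (e x hx y r).symm) b
  simpa using this

theorem GC.cancel (c : GC ι Good) (a : Mp ι g P P') (a' : Mp ι h P' ⊤) (b : Good P' h)
    (b' : Good P (h * g)) : Good P g := by
  have := c.mul (a.trans a'.to_im) b' (c.inv mp_im_inv b)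
  simpa using this

/-- the conjugation is realized in a second group -/
def Re (ι : K →* G) {G₀ : Type*} [Group G₀] (ι₀ : K →* G₀) (P : Subgroup K) (g : G) : Prop :=
  ∃ g₀, ∀ x ∈ P, ∀ y, Cj ι g x y → Cj ι₀ g₀ x y

theorem gc_re (i : Function.Injective ι) {G₀ : Type*} [Group G₀] (ι₀ : K →* G₀) :
    GC ι (Re ι ι₀) where
  mono := fun a ⟨g₀, b⟩ => ⟨g₀, fun x hx => b x (a hx)⟩
  mul := fun a ⟨g₀, b⟩ ⟨h₀, c⟩ => ⟨h₀ * g₀, fun x hx y e => by
    obtain ⟨u, hu, r⟩ := a x hx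
    refine (b x hx u r).trans (c u hu y ?_)
    simpa using r.symm.trans e⟩
  inv := fun a ⟨g₀, b⟩ => ⟨g₀⁻¹, fun x hx y e =>
    (b y (a.mem i hx e) x (by simpa using e.symm)).symm⟩
  syl := fun _ k => ⟨ι₀ k, fun x _ _ e => Cj.of' ((Cj.of k x).uq i e)⟩
  cen := fun a => ⟨1, fun x hx _ e => (a x hx).uq i e ▸ Cj.refl x⟩

/-- the conjugation preserves the function `f` -/
def Fn (ι : K →* G) {α : Type*} (f : K → α) (P : Subgroup K) (g : G) : Prop :=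
  ∀ x ∈ P, ∀ y, Cj ι g x y → f y = f x

theorem gc_fn (i : Function.Injective ι) {α : Type*} {f : K → α}
    (hf : ∀ k x, f (k * x * k⁻¹) = f x) : GC ι (Fn ι f) where
  mono := fun a b x hx => b x (a hx)
  mul := fun a b c x hx y e => by
    obtain ⟨u, hu, r⟩ := a x hx
    exact (c u hu y (by simpa using r.symm.trans e)).trans (b x hx u r)
  inv := fun a b x hx y e => (b y (a.mem i hx e) x (by simpa using e.symm)).symm
  syl := fun _ k x _ _ e => (Cj.of k x).uq i e ▸ hf k x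
  cen := fun a x hx _ e => by rw [← (a x hx).uq i e]

/-- the conjugation is that by an element of the Sylow subgroup -/
def Sc (ι : K →* G) (P : Subgroup K) (g : G) : Prop :=
  ∃ k, ∀ x ∈ P, ∀ y, Cj ι g x y → k * x * k⁻¹ = y

theorem gc_sc (i : Function.Injective ι) : GC ι (Sc ι) := gc_re i (MonoidHom.id K)

theorem GC.of_sc (c : GC ι Good) (a : Mp ι g P ⊤) (b : Sc ι P g) : Good P g :=
  b.elim fun k r => c.congr a (fun x hx y e => Cj.of' (r x hx y e)) (c.syl P k)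

/-- the induction hypothesis -/
def Big (ι : K →* G) (L : Subgroup G) (Good : Subgroup K → G → Prop) (n : ℕ) : Prop :=
  ∀ P g, g ∈ L → Mp ι g P ⊤ → n < Nat.card P → Good P g

/-- `P` is fully normalized -/
def FN (ι : K →* G) (L : Subgroup G) (P : Subgroup K) : Prop :=
  IsSyl 2 ((𝐍[P]).map ι) (L ⊓ 𝐍[P.map ι])

/-- critical subgroups -/
structure Cr (ι : K →* G) (L : Subgroup G) (P : Subgroup K) : Prop where
  syl : FN ι L P
  rad : ∀ P₁ P₂ : Subgroup K, P₂ ≤ P₁ → P₁ ≤ P →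
    (∀ g ∈ L, Mp ι g P P → Mp ι g P₁ P₁ ∧ Mp ι g P₂ P₂) → ∀ s, (∀ x ∈ P, s * x * s⁻¹ * x⁻¹ ∈ P₁) →
    (∀ x ∈ P₁, s * x * s⁻¹ * x⁻¹ ∈ P₂) → (∀ x ∈ P₂, s * x = x * s) → s ∈ P
  conj : ∀ s t, s ∈ 𝐍[P] → t ∈ 𝐍[P] → s ∉ P → t ∉ P → s * s ∈ P → t * t ∈ P →
    ∃ g ∈ L, Mp ι g P P ∧ ∃ p ∈ P, ∀ x ∈ P, ∀ y, Cj ι g x y →
      Cj ι g (s * x * s⁻¹) (p * t * y * (p * t)⁻¹)
  comm : ∀ s t, s ∈ 𝐍[P] → t ∈ 𝐍[P] → s * s ∈ P → t * t ∈ P → s * t * s⁻¹ * t⁻¹ ∈ P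

variable [Finite G]

theorem MS.fin (d : MS ι L) : Finite K := Finite.of_injective _ d.inj

theorem MS.two (d : MS ι L) (x : K) : ∃ n, x ^ 2 ^ n = 1 := by
  obtain ⟨n, hn⟩ := isPGroup_iff.1 d.syl.pgrp _ ⟨x, rfl⟩
  exact ⟨n, d.inj (by rw [map_pow, hn, map_one])⟩

theorem MS.isP (d : MS ι L) : IsPGroup 2 K := fun x => MS.two d x

theorem mp_self_iff : Mp ι g P P ↔ g ∈ 𝐍[P.map ι] :=
  ⟨fun a => mem_normalizer_of_cj_le (mp_iff.1 a), fun a _ hx => exists_cj_of_norm a hx⟩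

theorem Mp.inv (a : Mp ι g P P) : Mp ι g⁻¹ P P := mp_self_iff.2 (inv_mem (mp_self_iff.1 a))

/-- preimages -/
theorem Mp.surj (a : Mp ι g P P) (hy : y ∈ P) : ∃ x ∈ P, Cj ι g x y :=
  (a.inv y hy).imp fun _ r => ⟨r.1, by simpa using r.2.symm⟩

theorem Mp.card_im (i : Function.Injective ι) (a : Mp ι g P P') :
    Nat.card (im ι g P) = Nat.card P := by
  rw [← card_map_of_injective i, a.map_im, card_cj, card_map_of_injective i]

theorem _root_.Cfsg.Agent.BF.Cj.of_odd {n : ℕ} (o : Odd (orderOf g)) (a : Cj ι (g ^ 2 ^ n) x x) :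
    Cj ι g x x := cj_self.2 (mem_of_odd_of_pow o (cj_self.1 a))

theorem _root_.Cfsg.Agent.BF.Cj.of_sq (o : Odd (orderOf g)) (a : Cj ι (g * g) x x) : Cj ι g x x :=
  Cj.of_odd (n := 1) o (by simpa [pow_two] using a)

/-- an element of odd order which multiplies `x` by a fixed 2-element fixes `x` -/
theorem _root_.Cfsg.Agent.BF.Cj.chain (d : MS ι L) (o : Odd (orderOf g)) {c : K}
    (a : Cj ι g x (c * x)) (b : Cj ι g c c) : Cj ι g x x := by
  have key : ∀ n : ℕ, Cj ι (g ^ n) x (c ^ n * x) := fun n => by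
    induction n with
    | zero => simpa using Cj.refl x
    | succ n ih =>
      rw [pow_succ', pow_succ, mul_assoc]
      exact ih.trans ((b.pow n).mul a)
  obtain ⟨n, hn⟩ := MS.two d c
  exact Cj.of_odd (n := n) o (by simpa [hn] using key (2 ^ n))

theorem map_norm (d : MS ι L) (P : Subgroup K) : (𝐍[P]).map ι = ι.range ⊓ 𝐍[P.map ι] := by
  have := MS.fin d
  refine le_antisymm (le_inf (map_le_range _ _) (le_normalizer_map ι)) ?_
  rintro _ ⟨⟨k, rfl⟩, hk⟩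
  exact mem_map_of_mem ι (mem_normalizer_of_cj_le (cj_le_iff_forall.2 fun x hx =>
    (Cj.of k x).mem_of_norm d.inj hk hx))

/-- a subgroup between `C` and `T C` meets `T` in a Sylow subgroup -/
theorem syl_between {T H C Y : Subgroup G} (hT : IsSyl 2 T H) (hC : C ≤ H) (hn : H ≤ 𝐍[C])
    (h1 : C ≤ Y) (h2 : Y ≤ T ⊔ C) : IsSyl 2 (T ⊓ Y) Y := by
  refine ⟨inf_le_right, hT.pgrp.to_le inf_le_left, fun R hR a b r hr => ⟨?_, b hr⟩⟩
  obtain ⟨t, ht, c, hc, rfl⟩ := (mem_sup_of_le_normalizer_right (hT.le.trans hn)).1 (h2 (b hr))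
  have h3 : t ∈ R := a ⟨ht, by simpa using mul_mem (b hr) (inv_mem (h1 hc))⟩
  have h4 := (hT.inf_of_le hC hn).max (R ⊓ C) (hR.to_le inf_le_left)
    (le_inf (fun x hx => a ⟨hx.1, h1 hx.2⟩) inf_le_right) inf_le_right
    (show c ∈ R ⊓ C from ⟨by simpa using mul_mem (inv_mem h3) hr, hc⟩)
  exact mul_mem ht h4.1

section cr

variable (d : MS ι L) (c : GC ι Good) (s : FN ι L P) (big : Big ι L Good (Nat.card P))

/-- the good elements of `N_L(P)` -/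
def GS (c : GC ι Good) (L : Subgroup G) (P : Subgroup K) : Subgroup G where
  carrier := {g | g ∈ L ⊓ 𝐍[P.map ι] ∧ Good P g}
  one_mem' := ⟨one_mem _, c.cen fun x _ => Cj.refl x⟩
  mul_mem' := fun a b => ⟨mul_mem a.1 b.1, c.mul (mp_self_iff.2 b.1.2) b.2 a.2⟩
  inv_mem' := fun a => ⟨inv_mem a.1, c.inv (mp_self_iff.2 (inv_mem a.1.2)) a.2⟩

include d s in
theorem syl_le_GS : (𝐍[P]).map ι ≤ GS c L P := fun g hg =>
  ⟨s.le hg, by obtain ⟨k, -, rfl⟩ := hg; exact c.syl P k⟩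

include d big in
theorem norm_le_GS {R : Subgroup G} (h1 : R ≤ ι.range) (h2 : ¬ R ≤ P.map ι) :
    L ⊓ 𝐍[P.map ι] ⊓ 𝐍[R] ≤ GS c L P := fun g hg => ⟨hg.1, by
  have := MS.fin d
  have e : (P ⊔ R.comap ι).map ι = P.map ι ⊔ R := by rw [Subgroup.map_sup, map_comap_eq_self h1]
  refine c.mono le_sup_left (big (P ⊔ R.comap ι) g hg.1.1 (Mp.top (mp_self_iff.2 ?_))
    (PLocal.CF.card_lt_of_lt' (left_lt_sup.2 fun r => h2 ?_)))
  · rw [e]; exact le_normalizer_sup (L := 𝐍[P.map ι] ⊓ 𝐍[R]) inf_le_left inf_le_right ⟨hg.1.2, hg.2⟩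
  · rw [← map_comap_eq_self h1]; exact map_mono r⟩

include d s big in
theorem cr_ker {N : Subgroup G} (h1 : N ≤ L ⊓ 𝐍[P.map ι]) (h2 : L ⊓ 𝐍[P.map ι] ≤ 𝐍[N])
    (h3 : N ≤ GS c L P) (bad : ¬ L ⊓ 𝐍[P.map ι] ≤ GS c L P) : (𝐍[P]).map ι ⊓ N ≤ P.map ι := by
  by_contra r
  refine bad fun g hg => ?_
  obtain ⟨n, hn, x, hx, rfl⟩ := (IsSyl.inf_of_le s h1 h2).frattini (h2 hg)
  exact mul_mem (h3 hn) (norm_le_GS d c big (inf_le_left.trans (map_le_range _ _)) r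
    ⟨by simpa using mul_mem (inv_mem (h1 hn)) hg, hx⟩)

include d s in
theorem le_GS_of_odd {N : Subgroup G} (h1 : N ≤ L ⊓ 𝐍[P.map ι]) (h2 : L ⊓ 𝐍[P.map ι] ≤ 𝐍[N])
    (h3 : ∀ g ∈ N, Odd (orderOf g) → Good P g) : N ≤ GS c L P := by
  rw [← (IsSyl.inf_of_le s h1 h2).pRes_sup]
  exact sup_le (pRes_le_iff.2 fun g hg o => ⟨h1 hg, h3 g hg (Nat.coprime_two_right.1 o)⟩)
    (inf_le_left.trans (syl_le_GS d c s))

include d s big in
theorem cr_rad (bad : ¬ L ⊓ 𝐍[P.map ι] ≤ GS c L P) (P₁ P₂ : Subgroup K) (a : P₂ ≤ P₁) (b : P₁ ≤ P)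
    (inv : ∀ g ∈ L, Mp ι g P P → Mp ι g P₁ P₁ ∧ Mp ι g P₂ P₂) (k : K)
    (h1 : ∀ x ∈ P, k * x * k⁻¹ * x⁻¹ ∈ P₁) (h2 : ∀ x ∈ P₁, k * x * k⁻¹ * x⁻¹ ∈ P₂)
    (h3 : ∀ x ∈ P₂, k * x = x * k) : k ∈ P := by
  have := MS.fin d
  let St : G → Subgroup K → Subgroup K → Prop := fun g A B =>
    ∀ x ∈ A, ∃ u ∈ B, Cj ι g x (u * x)
  have st1 : ∀ A B, St 1 A B := fun A B x _ => ⟨1, one_mem _, by simpa using Cj.refl x⟩
  have stm : ∀ {g h A B}, Mp ι g B B → St g A B → St h A B → St (g * h) A B :=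
    fun {g h A B} m p q x hx => by
      obtain ⟨u, hu, e⟩ := q x hx
      obtain ⟨v, hv, e'⟩ := p x hx
      obtain ⟨w, hw, e''⟩ := m u hu
      exact ⟨w * v, mul_mem hw hv, by rw [mul_assoc]; exact e.trans (e''.mul e')⟩
  have sti : ∀ {g A B}, Mp ι g B B → St g A B → St g⁻¹ A B := fun {g A B} m p x hx => by
    obtain ⟨v, hv, e⟩ := p x hx
    obtain ⟨w, hw, e'⟩ := m.inv v hv
    exact ⟨w⁻¹, inv_mem hw, by simpa using e'.inv.mul e.symm⟩
  have stc : ∀ {g m A B}, Mp ι m A A → Mp ι m B B → St g A B → St (m * g * m⁻¹) A B :=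
    fun {g m A B} m1 m2 p x hx => by
      obtain ⟨y, hy, e⟩ := m1.surj hx
      obtain ⟨v, hv, e'⟩ := p y hy
      obtain ⟨w, hw, e''⟩ := m2 v hv
      exact ⟨w, hw, by rw [mul_assoc]; exact (e.symm.trans e').trans (e''.mul e)⟩
  have mb : ∀ g, Mp ι g (⊥ : Subgroup K) ⊥ := fun g x hx =>
    ⟨1, one_mem _, by rw [mem_bot.1 hx]; exact Cj.one⟩
  have iv := fun g (hg : g ∈ L ⊓ 𝐍[P.map ι]) => inv g hg.1 (mp_self_iff.2 hg.2)
  let N : Subgroup G :=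
    { carrier := {g | g ∈ L ⊓ 𝐍[P.map ι] ∧ St g P P₁ ∧ St g P₁ P₂ ∧ St g P₂ ⊥}
      one_mem' := ⟨one_mem _, st1 _ _, st1 _ _, st1 _ _⟩
      mul_mem' := fun p q => ⟨mul_mem p.1 q.1, stm (iv _ p.1).1 p.2.1 q.2.1,
        stm (iv _ p.1).2 p.2.2.1 q.2.2.1, stm (mb _) p.2.2.2 q.2.2.2⟩
      inv_mem' := fun p => ⟨inv_mem p.1, sti (iv _ p.1).1 p.2.1, sti (iv _ p.1).2 p.2.2.1,
        sti (mb _) p.2.2.2⟩ }
  have hN : L ⊓ 𝐍[P.map ι] ≤ 𝐍[N] := fun m hm => mem_normalizer_of_cj_le (cj_le_iff_forall.2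
    fun g p => ⟨mul_mem (mul_mem hm p.1) (inv_mem hm),
      stc (mp_self_iff.2 hm.2) (iv _ hm).1 p.2.1, stc (iv _ hm).1 (iv _ hm).2 p.2.2.1,
      stc (iv _ hm).2 (mb _) p.2.2.2⟩)
  have hk : k ∈ 𝐍[P] := mem_normalizer_of_cj_le (cj_le_iff_forall.2 fun x hx => by
    simpa using mul_mem (b (h1 x hx)) hx)
  have := cr_ker d c s big (N := N) (fun g p => p.1) hN (le_GS_of_odd d c s (fun g p => p.1) hN
    fun g p o => c.cen fun x hx => by
      have q2 : ∀ x ∈ P₂, Cj ι g x x := fun x hx => by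
        obtain ⟨u, hu, e⟩ := p.2.2.2 x hx
        simpa [mem_bot.1 hu] using e
      have q1 : ∀ x ∈ P₁, Cj ι g x x := fun x hx => by
        obtain ⟨u, hu, e⟩ := p.2.2.1 x hx
        exact e.chain d o (q2 u hu)
      obtain ⟨u, hu, e⟩ := p.2.1 x hx
      exact e.chain d o (q1 u hu)) bad
    (show ι k ∈ _ ⊓ N from ⟨mem_map_of_mem ι hk, s.le (mem_map_of_mem ι hk),
      fun x hx => ⟨_, h1 x hx, Cj.of' (by simp)⟩, fun x hx => ⟨_, h2 x hx, Cj.of' (by simp)⟩,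
      fun x hx => ⟨1, one_mem _, Cj.of' (by simp [h3 x hx])⟩⟩)
  exact (mem_map_iff_mem d.inj).1 this

include d c s big in
theorem cr_of (bad : ∃ g ∈ L, Mp ι g P P ∧ ¬ Good P g) : Cr ι L P := by
  have := MS.fin d
  replace bad : ¬ L ⊓ 𝐍[P.map ι] ≤ GS c L P := fun r => by
    obtain ⟨g, h1, h2, h3⟩ := bad
    exact h3 (r ⟨h1, mp_self_iff.1 h2⟩).2
  have rad := cr_rad d c s big bad
  set H := L ⊓ 𝐍[P.map ι] with hH
  set T := (𝐍[P]).map ι with hT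
  have PT : P.map ι ≤ T := map_mono le_normalizer
  set C := P.map ι ⊔ (L ⊓ 𝐂[P.map ι]) with hC
  have CH : C ≤ H := sup_le (PT.trans s.le) (inf_le_inf_left _ (centralizer_le_normalizer' _))
  have n1 : H ≤ 𝐍[L ⊓ 𝐂[P.map ι]] := le_normalizer_inf (inf_le_left.trans le_normalizer)
    (le_normalizer_centralizer inf_le_right)
  have HC : H ≤ 𝐍[C] := le_normalizer_sup inf_le_right n1
  have CM : C ≤ GS c L P := sup_le (PT.trans (syl_le_GS d c s)) fun g hg =>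
    ⟨CH (mem_sup_right hg), c.cen fun x hx => mul_inv_eq_iff_eq_mul.2
      (hg.2 _ (mem_map_of_mem ι hx)).symm⟩
  have TC : T ⊓ C ≤ P.map ι := cr_ker d c s big CH HC CM bad
  have nC := normal_subgroupOf' HC
  let π := QuotientGroup.mk' (C.subgroupOf H)
  have p1 : ∀ {a : H}, π a = 1 ↔ a.1 ∈ C := QuotientGroup.eq_one_iff _
  let M := ((GS c L P).subgroupOf H).map π
  have mM : ∀ {a : H}, π a ∈ M ↔ a.1 ∈ GS c L P := fun {a} => ⟨fun ⟨b, hb, e⟩ => by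
    have : (b⁻¹ * a).1 ∈ C := p1.1 (by rw [map_mul, map_inv, e, inv_mul_cancel])
    simpa using mul_mem (show b.1 ∈ GS c L P from hb) (CM this), fun r => ⟨a, r, rfl⟩⟩
  have sT : IsSyl 2 ((T.subgroupOf H).map π) ⊤ := by
    obtain ⟨Q, hQ⟩ := IsSyl.exists_sylow s
    have := (isSyl_top Q).map π
    rwa [hQ, ← MonoidHom.range_eq_map, MonoidHom.range_eq_top.2 (QuotientGroup.mk'_surjective _)]
      at this
  have TM : (T.subgroupOf H).map π ≤ M := map_mono fun _ r => syl_le_GS d c s r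
  have hN : ∀ X : Subgroup (H ⧸ C.subgroupOf H), X ≤ M → IsPGroup 2 X → X ≠ ⊥ → 𝐍[X] ≤ M := by
    have key : ∀ X ≤ (T.subgroupOf H).map π, X ≠ ⊥ → 𝐍[X] ≤ M := fun X hX h1 g hg => by
      obtain ⟨g, rfl⟩ := QuotientGroup.mk'_surjective _ g
      let Y := (X.comap π).map H.subtype
      have CY : C ≤ Y := fun a ha => ⟨⟨a, CH ha⟩, by
        rw [SetLike.mem_coe, mem_comap, p1.2 ha]; exact one_mem _, rfl⟩
      have YT : Y ≤ T ⊔ C := by
        rintro _ ⟨a, ha, rfl⟩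
        obtain ⟨t, ht, e⟩ := hX ha
        have : (t⁻¹ * a).1 ∈ C := p1.1 (by rw [map_mul, map_inv, e, inv_mul_cancel])
        simpa using mul_mem (mem_sup_left (show t.1 ∈ T from ht)) (mem_sup_right this)
      have gY : g.1 ∈ 𝐍[Y] := mem_normalizer_of_cj_le (cj_le_iff_forall.2 (by
        rintro _ ⟨a, ha, rfl⟩
        exact ⟨g * a * g⁻¹, by
          rw [SetLike.mem_coe, mem_comap, map_mul, map_mul, map_inv]
          exact conj_mem_of_mem_normalizer hg ha, rfl⟩))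
      obtain ⟨y, hy, x, hx, e⟩ := (syl_between s CH HC CY YT).frattini gY
      have yM := sup_le (syl_le_GS d c s) CM (YT hy)
      refine mM.2 (e ▸ mul_mem yM (norm_le_GS d c big (R := T ⊓ Y)
        (inf_le_left.trans (map_le_range _ _)) (fun r => h1 (eq_bot_iff.2 fun a ha => ?_))
        ⟨by simpa [e] using mul_mem (inv_mem yM.1) g.2, hx⟩))
      obtain ⟨t, ht, rfl⟩ := hX ha
      exact p1.2 (mem_sup_left (r ⟨ht, t, ha, rfl⟩))
    intro X h1 h2 h3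
    obtain ⟨m, hm, e⟩ := (sT.mono TM le_top).exists_cj_le h2 h1
    have := key _ e (mt (map_eq_bot_iff_of_injective _ (MulAut.conj m).injective).1 h3)
    rwa [normalizer_cj, cj_le_iff, cj_of_mem (inv_mem hm)] at this
  have ho : ∀ {a : K} (ha : a ∈ 𝐍[P]), a ∉ P → a * a ∈ P →
      orderOf (π ⟨ι a, s.le (mem_map_of_mem ι ha)⟩) = 2 := fun {a} ha h1 h2 =>
    Inv.orderOf_two_of_mul_self (by
      rw [← map_mul]; exact p1.2 (mem_sup_left ⟨_, h2, map_mul ι a a⟩)) fun r =>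
      h1 ((mem_map_iff_mem d.inj).1 (TC ⟨mem_map_of_mem ι ha, p1.1 r⟩))
  have se : ∀ {a : K}, a ∈ 𝐍[P] → a ∉ P → a * a ∈ P → IsStronglyEmbedded M := fun {a} ha h1 h2 =>
    Inv.isStronglyEmbedded_iff.2 ⟨fun r => bad fun g hg => (mM (a := ⟨g, hg⟩)).1 (by rw [r]; exact mem_top _),
      even_iff_two_dvd.2 (ho ha h1 h2 ▸ orderOf_dvd_natCard M
        (TM (mem_map_of_mem π (mem_map_of_mem ι ha)))), fun t ht o g hg =>
      Inv.mem_of_normalizers_le hN (Inv.isPGroup_zpowers_of_orderOf_two o)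
        (fun r => Inv.ne_one_of_orderOf_two o (zpowers_eq_bot.1 r)) (zpowers_le.2 ht)
        (by rw [MonoidHom.map_zpowers]; exact zpowers_le.2 hg)⟩
  refine ⟨s, rad, fun a b ha hb a1 b1 a2 b2 => ?_, fun a b ha hb a2 b2 => ?_⟩
  · obtain ⟨g, e⟩ := isConj_iff.1 (Inv.SE.isConj (se ha a1 a2) (ho ha a1 a2) (ho hb b1 b2))
    obtain ⟨g, rfl⟩ := QuotientGroup.mk'_surjective _ g
    have h1 := (p1 (a := g * ⟨ι a, s.le (mem_map_of_mem ι ha)⟩ * g⁻¹ *
      (⟨ι b, s.le (mem_map_of_mem ι hb)⟩ : H)⁻¹)).1 (by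
        rw [map_mul, map_mul, map_mul, map_inv, map_inv]; exact mul_inv_eq_one.2 e)
    obtain ⟨_, ⟨p, hp, rfl⟩, u, hu, e'⟩ :=
      (mem_sup_of_le_normalizer_right (PT.trans (s.le.trans n1))).1 h1
    refine ⟨g, g.2.1, mp_self_iff.2 g.2.2, p, hp, fun x hx y r => ?_⟩
    have hy := (mp_self_iff.2 g.2.2).mem d.inj hx r
    have h2 : g.1 * ι a * g.1⁻¹ = ι p * u * ι b := by rw [← e']; simp
    have h3 := hu.2 _ (mem_map_of_mem ι (conj_mem_of_mem_normalizer hb hy))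
    simp only [Cj, map_mul, map_inv] at r h3 ⊢
    calc _ = g.1 * ι a * g.1⁻¹ * (g.1 * ι x * g.1⁻¹) * (g.1 * ι a * g.1⁻¹)⁻¹ := by group
      _ = ι p * (u * (ι b * ι y * (ι b)⁻¹)) * u⁻¹ * (ι p)⁻¹ := by rw [h2, r]; group
      _ = _ := by rw [← h3]; group
  · by_cases a1 : a ∈ P
    · simpa [mul_assoc] using mul_mem a1 (conj_mem_of_mem_normalizer hb (inv_mem a1))
    by_cases b1 : b ∈ P
    · exact mul_mem (conj_mem_of_mem_normalizer ha b1) (inv_mem b1)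
    have e := SylT.se_comm (se ha a1 a2) sT.pgrp (mem_map_of_mem π (mem_map_of_mem ι ha))
      (mem_map_of_mem π (mem_map_of_mem ι hb)) (ho ha a1 a2) (ho hb b1 b2)
    have hm := mul_mem (mul_mem (mul_mem ha hb) (inv_mem ha)) (inv_mem hb)
    refine (mem_map_iff_mem d.inj).1 (TC ⟨mem_map_of_mem ι hm, ?_⟩)
    have h1 := (p1 (a := ⟨ι a, s.le (mem_map_of_mem ι ha)⟩ * ⟨ι b, s.le (mem_map_of_mem ι hb)⟩ *
      (⟨ι a, s.le (mem_map_of_mem ι ha)⟩ : H)⁻¹ * (⟨ι b, s.le (mem_map_of_mem ι hb)⟩ : H)⁻¹)).1 (by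
        rw [map_mul, map_mul, map_mul, e, map_inv, map_inv]; simp)
    rw [map_mul, map_mul, map_mul, map_inv, map_inv]; exact h1

end cr

theorem alp0 (d : MS ι L) (c : GC ι Good)
    (step : ∀ P, FN ι L P → Big ι L Good (Nat.card P) → ∀ g ∈ L, Mp ι g P P → Odd (orderOf g) →
      Good P g) (P : Subgroup K) (hg : g ∈ L) (a : Mp ι g P ⊤) : Good P g := by
  have hS : PLocal.CF.Syl 2 ι.range L := ⟨d.syl.le, d.syl.pgrp, d.syl.not_dvd_relIndex⟩
  have := PLocal.CF.alperin_ind hS _ (PLocal.CF.univ_family hS) (fun T g => Good (T.comap ι) g)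
    (fun T T' g a _ _ _ r => c.mono (comap_mono a) r)
    (fun T g h _ a _ _ _ r r' => c.mul (fun x hx => by
      obtain ⟨y, e⟩ := a (conj_mem_cj g hx)
      exact ⟨y, by rw [mem_comap, e]; exact conj_mem_cj g hx, e.symm⟩) r r')
    (fun T g a _ _ r => c.inv (fun x hx => by
      obtain ⟨y, e⟩ := a (mem_cj.1 hx)
      exact ⟨y, by rw [mem_comap, e]; exact mem_cj.1 hx, by simpa [Cj] using e.symm⟩) r)
    (fun U _ hU hs ih x hx => by
      obtain ⟨P, rfl⟩ : ∃ P : Subgroup K, P.map ι = U := ⟨_, map_comap_eq_self hU⟩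
      rw [comap_map_eq_self_of_injective d.inj]
      have s : FN ι L P := by
        rw [FN, map_norm d]; exact isSyl_of_not_dvd_relIndex hs.pg hs.le hs.nd
      refine (le_GS_of_odd d c s le_rfl le_normalizer (fun g hg o => step P s
        (fun R g h1 h2 h3 => ?_) g hg.1 (mp_self_iff.2 hg.2) o) hx).2
      have := ih (R.map ι) g h1 (map_le_range _ _) (mp_top_iff.1 h2)
        (by rwa [card_map_of_injective d.inj, card_map_of_injective d.inj])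
      rwa [comap_map_eq_self_of_injective d.inj] at this)
    (P.map ι) g hg (map_le_range _ _) (mp_top_iff.1 a)
  rwa [comap_map_eq_self_of_injective d.inj] at this

/-- Alperin's fusion theorem -/
theorem alp (d : MS ι L) (c : GC ι Good)
    (step : ∀ P, Cr ι L P → Big ι L Good (Nat.card P) → ∀ g ∈ L, Mp ι g P P → Odd (orderOf g) →
      Good P g) (P : Subgroup K) (hg : g ∈ L) (a : Mp ι g P ⊤) : Good P g :=
  alp0 d c (fun P s big g h1 h2 o => by_contra fun r =>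
    r (step P (cr_of d c s big ⟨g, h1, h2, r⟩) big g h1 h2 o)) P hg a

/-- a normal subgroup whose elements normalizing `P` lie in `P` is contained in `P` -/
theorem le_of_norm (d : MS ι L) {X : Subgroup K} (hX : ∀ k, ∀ x ∈ X, k * x * k⁻¹ ∈ X)
    (h : ∀ x ∈ X, (∀ p ∈ P, x * p * x⁻¹ ∈ P) → x ∈ P) : X ≤ P := by
  have := MS.fin d
  have nX : X.Normal := ⟨fun x hx k => hX k x hx⟩
  by_contra r
  obtain ⟨y, hy, hy'⟩ := SetLike.exists_of_lt (lt_inf_normalizer (p := 2) (T := P ⊔ X)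
    ((MS.isP d).to_subgroup _) (left_lt_sup.2 r))
  obtain ⟨p, hp, x, hx, rfl⟩ := (mem_sup_of_le_normalizer_right le_normalizer_of_normal).1 hy.1
  refine hy' (mul_mem hp (h x hx fun q hq => conj_mem_of_mem_normalizer ?_ hq))
  simpa using mul_mem (inv_mem (le_normalizer hp)) hy.2

end Cfsg.Agent.L4F
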