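import Mathlib
import Cfsg.Agent.L4F.Alp

/-! The tower argument: the fusion in `L` is generated by the stabilizer of `w` modulo `z` and one
mover for each conjugate of `w`. -/

set_option autoImplicit false
set_option linter.unusedSectionVars false

namespace Cfsg.Agent.L4F

open Subgroup Cfsg Cfsg.Agent.BF Cfsg.Agent.TT Cfsg.Agent.PLocal.Amb Cfsg.Agent.Lyons Cfsg.Agent.Gold

variable {G : Type*} [Group G] {K : Type} [Group K] {ι : K →* G} {L : Subgroup G}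
  {P P' A : Subgroup K} {g h m : G} {x y x' z w : K} {Good : Subgroup K → G → Prop}

/-- `z` is central and `z² = 1` -/
structure Zc (z : K) : Prop where
  c : ∀ k, k * z = z * k
  sq : z * z = 1

theorem zc_one : Zc (1 : K) := ⟨by simp, by simp⟩

theorem eqv_one : Eqv 1 x y ↔ x = y := by simp [Eqv]

/-- the centralizer of `x` modulo `z` -/
def Cm (h : Zc z) (x : K) : Subgroup K where
  carrier := {y | Eqv z (y * x * y⁻¹) x}
  one_mem' := .inl (by simp)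
  mul_mem' := fun {a b} ha hb => Eqv.trans h.sq (by
    simpa only [mul_assoc, mul_inv_rev] using Eqv.conj (h.c a) hb) ha
  inv_mem' := fun {a} ha => by
    have := Eqv.symm h.sq (Eqv.conj (h.c a⁻¹) ha)
    simpa [mul_assoc] using this

theorem mem_Cm {hz : Zc z} : y ∈ Cm hz x ↔ y * x * y⁻¹ = x ∨ y * x * y⁻¹ = x * z := Iff.rfl

theorem mem_Cm_one : y ∈ Cm zc_one x ↔ y * x = x * y := by
  rw [mem_Cm, mul_one, or_self, mul_inv_eq_iff_eq_mul]

theorem self_mem_Cm {hz : Zc z} : x ∈ Cm hz x := .inl (by simp)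

theorem Cm_mul {hz : Zc z} : Cm hz (x * z) = Cm hz x := by
  ext y
  have : y * (x * z) * y⁻¹ = y * x * y⁻¹ * z := by rw [mul_assoc, mul_assoc, ← hz.c y⁻¹]; group
  rw [mem_Cm, mem_Cm, this, mul_left_inj, mul_left_inj]

theorem Cm_eqv {hz : Zc z} (e : Eqv z x' x) : Cm hz x' = Cm hz x := by
  rcases e with rfl | rfl
  exacts [rfl, Cm_mul]

/-- `g` conjugates `x` to `w` modulo `z` -/
def To (ι : K →* G) (z : K) (g : G) (x w : K) : Prop := ∃ w', Eqv z w' w ∧ Cj ι g x w'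

theorem to_one : To ι 1 g x w ↔ Cj ι g x w :=
  ⟨fun ⟨_, a, b⟩ => eqv_one.1 a ▸ b, fun b => ⟨_, .inl rfl, b⟩⟩

theorem To.of (e : Cj ι g x w) : To ι z g x w := ⟨_, .inl rfl, e⟩
theorem To.of' (e : Cj ι g x (w * z)) : To ι z g x w := ⟨_, .inr rfl, e⟩
theorem To.cases (e : To ι z g x w) : Cj ι g x w ∨ Cj ι g x (w * z) := by
  obtain ⟨_, rfl | rfl, e⟩ := e
  exacts [.inl e, .inr e]
theorem To.pre (a : Cj ι g x y) (e : To ι z h y w) : To ι z (h * g) x w :=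
  e.imp fun _ r => ⟨r.1, a.trans r.2⟩

theorem To.trans (hz : Zc z) (c : Cj ι h z z) (a : To ι z g x y) (e : To ι z h y w) :
    To ι z (h * g) x w := by
  obtain ⟨w', e1, e2⟩ := e
  rcases a.cases with a | a
  · exact ⟨w', e1, a.trans e2⟩
  · exact ⟨w' * z, Eqv.trans hz.sq (.inr rfl) e1, a.trans (e2.mul c)⟩

theorem To.symm (hz : Zc z) (c : Cj ι g z z) (a : To ι z g x y) : To ι z g⁻¹ y x := by
  rcases a.cases with a | a
  · exact .of a.symm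
  · exact .of' (by simpa [mul_assoc, hz.sq] using (a.mul c).symm)

theorem To.left (hz : Zc z) (c : Cj ι g z z) (e : Eqv z x' x) (a : To ι z g x y) : To ι z g x' y := by
  simpa using To.trans hz c (g := 1) (x := x') ⟨x', e, Cj.refl _⟩ a

theorem Mp.cm (i : Function.Injective ι) {hz : Zc z} (c : Cj ι g z z) (a : Mp ι g P ⊤)
    (hP : P ≤ Cm hz x) (e : Cj ι g x y) : Mp ι g P (Cm hz y) := fun p hp => by
  obtain ⟨q, -, r⟩ := a p hp
  exact ⟨q, (((r.mul e).mul r.inv).eqv i c e).1 (hP hp), r⟩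

/-- all conjugations by elements of `L` are good -/
def All (ι : K →* G) (L : Subgroup G) (Good : Subgroup K → G → Prop) : Prop :=
  ∀ P g, g ∈ L → Mp ι g P ⊤ → Good P g

/-- a level of the tower -/
structure Lv (ι : K →* G) (L : Subgroup G) (z w : K) : Prop extends MS ι L, Zc z where
  Lz : ∀ g ∈ L, Cj ι g z z
  ww : ∀ k, Eqv z (k * w * k⁻¹) w

/-- the stabilizer of `w` modulo `z` -/
def Lv.St (l : Lv ι L z w) : Subgroup G where
  carrier := {g | g ∈ L ∧ To ι z g w w}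
  one_mem' := ⟨one_mem _, .of (Cj.refl _)⟩
  mul_mem' := fun a b => ⟨mul_mem a.1 b.1, b.2.trans l.toZc (l.Lz _ a.1) a.2⟩
  inv_mem' := fun a => ⟨inv_mem a.1, a.2.symm l.toZc (l.Lz _ a.1)⟩

theorem lv_one (d : MS ι ⊤) (hz : Zc z) : Lv ι ⊤ 1 z :=
  ⟨d, zc_one, fun _ _ => Cj.one, fun k => .inl (by rw [hz.c, mul_inv_cancel_right])⟩

/-- a good mover for `x` -/
def Mv (l : Lv ι L z w) (Good : Subgroup K → G → Prop) (x : K) : Prop :=
  ∃ m ∈ L, Mp ι m (Cm l.toZc x) ⊤ ∧ Good (Cm l.toZc x) m ∧ To ι z m x w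

/-- the candidate `x` is harmless -/
def Ex (l : Lv ι L z w) (Good : Subgroup K → G → Prop) (x : K) : Prop :=
  ∀ g ∈ L, Odd (orderOf g) → Cr ι L (Cm l.toZc x) → Mp ι g (Cm l.toZc x) (Cm l.toZc x) →
    To ι z g x w → Good (Cm l.toZc x) g

/-- no element normalizing the centralizer of `x` maps `x` to `w` -/
def No (l : Lv ι L z w) (x : K) : Prop :=
  ∀ g ∈ L, Mp ι g (Cm l.toZc x) (Cm l.toZc x) → ¬ To ι z g x w

variable {l : Lv ι L z w}

theorem No.ex (n : No l x) : Ex l Good x := fun g hg _ _ a b => (n g hg a b).elim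

theorem Mv.of (c : GC ι Good) (hm : m ∈ L) (a : Mp ι m (Cm l.toZc x) ⊤) (b : Good (Cm l.toZc x) m)
    (e : Cj ι m x y) (v : Mv l Good y) : Mv l Good x := by
  obtain ⟨n, hn, a', b', e'⟩ := v
  have := a.cm l.inj (hz := l.toZc) (l.Lz m hm) le_rfl e
  exact ⟨n * m, mul_mem hn hm, this.trans a', c.mul this b b', .pre e e'⟩

theorem Mv.of_le (c : GC ι Good) (hm : m ∈ L) (hP : Cm l.toZc x ≤ P) (a : Mp ι m P ⊤) (b : Good P m)
    (e : Cj ι m x y) (v : Mv l Good y) : Mv l Good x :=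
  v.of c hm (a.mono hP le_rfl) (c.mono hP b) e

theorem Mv.conj [Finite G] (c : GC ι Good) (k : K) (e : k * x * k⁻¹ = y) (v : Mv l Good y) : Mv l Good x :=
  v.of c (l.mem k) (Mp.of fun _ _ => trivial) (c.syl _ k) (Cj.of' e)

theorem Mv.eqv (e : Eqv z x y) (v : Mv l Good y) : Mv l Good x := by
  obtain ⟨n, hn, a', b', e'⟩ := v
  rw [← Cm_eqv e] at a' b'
  exact ⟨n, hn, a', b', e'.left l.toZc (l.Lz n hn) e⟩

theorem mv_self (c : GC ι Good) : Mv l Good w :=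
  ⟨1, one_mem _, Mp.refl.top, c.cen fun _ _ => Cj.refl _, .of (Cj.refl _)⟩

theorem No.conj [Finite G] (k : K) (e : k * x * k⁻¹ = y) (n : No l y) : No l x := fun g hg a b => by
  have c := fun k => l.Lz _ (l.mem k)
  have a1 : Mp ι (ι k) (Cm l.toZc x) (Cm l.toZc y) :=
    (Mp.of fun _ _ => mem_top _).cm l.inj (c k) le_rfl (Cj.of' e)
  have a2 : Mp ι (ι k⁻¹) (Cm l.toZc y) (Cm l.toZc x) :=
    (Mp.of fun _ _ => mem_top _).cm l.inj (c _) le_rfl (Cj.of' (by rw [← e]; group))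
  refine n _ (mul_mem (l.mem k) (mul_mem hg (l.mem k⁻¹))) ((a2.trans a).trans a1) ?_
  exact To.trans l.toZc (c k) (.pre (Cj.of' (by rw [← e]; group)) b) ⟨_, l.ww k, Cj.of k w⟩

theorem No.eqv (e : Eqv z x y) (n : No l y) : No l x := fun g hg a b => by
  rw [Cm_eqv e] at a
  exact n g hg a (b.left l.toZc (l.Lz g hg) (e.symm l.sq))

section gen

/-- `g` realizes the list of pairs -/
def Rz (ι : K →* G) (g : G) (s : List (K × K)) : Prop := ∀ p ∈ s, Cj ι g p.1 p.2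

/-- `P` is contained in the subgroup generated by the first components -/
def Gen (P : Subgroup K) (s : List (K × K)) : Prop := ∀ H : Subgroup K, (∀ p ∈ s, p.1 ∈ H) → P ≤ H

variable {s : List (K × K)}

theorem Rz.mp (r : Rz ι g s) (n : Gen P s) (h : ∀ p ∈ s, p.2 ∈ P') : Mp ι g P P' :=
  n { carrier := {x | ∃ y ∈ P', Cj ι g x y}
      one_mem' := ⟨1, one_mem _, Cj.one⟩
      mul_mem' := fun ⟨_, a, b⟩ ⟨_, c, d⟩ => ⟨_, mul_mem a c, b.mul d⟩
      inv_mem' := fun ⟨_, a, b⟩ => ⟨_, inv_mem a, b.inv⟩ } fun p hp => ⟨_, h p hp, r p hp⟩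

theorem Rz.top (r : Rz ι g s) (n : Gen P s) : Mp ι g P ⊤ := r.mp n fun _ _ => trivial

theorem Rz.re (i : Function.Injective ι) {G₀ : Type*} [Group G₀] {ι₀ : K →* G₀} {g₀ : G₀}
    (r : Rz ι g s) (r₀ : Rz ι₀ g₀ s) (n : Gen P s) : Re ι ι₀ P g := ⟨g₀, fun _ hx _ e => by
  obtain ⟨_, a, b⟩ := n
    { carrier := {x | ∃ y, Cj ι g x y ∧ Cj ι₀ g₀ x y}
      one_mem' := ⟨1, Cj.one, Cj.one⟩
      mul_mem' := fun ⟨_, a, b⟩ ⟨_, c, d⟩ => ⟨_, a.mul c, b.mul d⟩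
      inv_mem' := fun ⟨_, a, b⟩ => ⟨_, a.inv, b.inv⟩ } (fun p hp => ⟨_, r p hp, r₀ p hp⟩) hx
  exact a.uq i e ▸ b⟩

theorem Rz.fn (i : Function.Injective ι) {M : Type*} [Group M] (f : K →* M) (r : Rz ι g s)
    (h : ∀ p ∈ s, f p.2 = f p.1) (n : Gen P s) : Fn ι f P g := fun _ hx _ e => by
  obtain ⟨_, a, b⟩ := n
    { carrier := {x | ∃ y, Cj ι g x y ∧ f y = f x}
      one_mem' := ⟨1, Cj.one, rfl⟩
      mul_mem' := fun ⟨_, a, b⟩ ⟨_, c, d⟩ => ⟨_, a.mul c, by rw [map_mul, map_mul, b, d]⟩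
      inv_mem' := fun ⟨_, a, b⟩ => ⟨_, a.inv, by rw [map_inv, map_inv, b]⟩ }
    (fun p hp => ⟨_, r p hp, h p hp⟩) hx
  exact a.uq i e ▸ b

/-- the elements fixed by `g` -/
def Fix (ι : K →* G) (g : G) : Subgroup K where
  carrier := {x | Cj ι g x x}
  one_mem' := Cj.one
  mul_mem' := Cj.mul
  inv_mem' := Cj.inv

/-- some good element realizes the list -/
def Gd (ι : K →* G) (Good : Subgroup K → G → Prop) (P : Subgroup K) (s : List (K × K)) : Prop :=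
  ∃ g, Rz ι g s ∧ Good P g

theorem gd_re (i : Function.Injective ι) {G₀ : Type*} [Group G₀] {ι₀ : K →* G₀}
    (r : ∃ g, Rz ι g s) (r₀ : ∃ g, Rz ι₀ g s) (n : Gen P s) : Gd ι (Re ι ι₀) P s :=
  r.imp fun _ a => ⟨a, r₀.elim fun _ b => a.re i b n⟩

theorem gd_fn (i : Function.Injective ι) {M : Type*} [Group M] (f : K →* M) (r : ∃ g, Rz ι g s)
    (h : ∀ p ∈ s, f p.2 = f p.1) (n : Gen P s) : Gd ι (Fn ι f) P s :=
  r.imp fun _ a => ⟨a, a.fn i f h n⟩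

end gen

theorem cj_comp {θ : K →* K} : Cj (ι.comp θ) g x y ↔ Cj ι g (θ x) (θ y) := Iff.rfl

/-- `G` and `G₀` induce the same fusion -/
def Sim (ι : K →* G) {G₀ : Type*} [Group G₀] (ι₀ : K →* G₀) : Prop :=
  ∀ g, ∃ g₀, ∀ x y, Cj ι g x y → Cj ι₀ g₀ x y

theorem All.sim {G₀ : Type*} [Group G₀] {ι₀ : K →* G₀} (a : All ι ⊤ (Re ι ι₀)) : Sim ι ι₀ := fun g => by
  obtain ⟨g₀, r⟩ := a (ι.range.comap ((MulAut.conj g).toMonoidHom.comp ι)) g trivial
    fun x ⟨y, e⟩ => ⟨y, trivial, e.symm⟩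
  exact ⟨g₀, fun x y e => r x ⟨y, Eq.symm e⟩ y e⟩

theorem All.fn {α : Type*} {f : K → α} (a : All ι L (Fn ι f)) (hg : g ∈ L) (e : Cj ι g x y) :
    f y = f x := a (zpowers x) g hg (fun _ ⟨n, r⟩ => ⟨y ^ n, trivial, by
      rw [← r]; simp only [Cj, map_zpow] at e ⊢; rw [← e, conj_zpow]⟩) x (mem_zpowers x) y e

theorem _root_.Cfsg.Agent.BF.Cj.conj {k k' : K} (a : Cj ι g k k') (b : Cj ι g x y) :
    Cj ι g (k * x * k⁻¹) (k' * y * k'⁻¹) := (a.mul b).mul a.inv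

theorem _root_.Cfsg.Agent.BF.Cj.cast {x' y' : K} (a : Cj ι g x y) (h1 : x = x') (h2 : y = y') :
    Cj ι g x' y' := h1 ▸ h2 ▸ a

theorem _root_.Cfsg.Agent.BF.Cj.pow4 (a : Cj ι g x y) (b : Cj ι (g * g * g) y y) (n : ℕ) :
    Cj ι (g ^ 4 ^ n) x y := by
  obtain ⟨t, ht⟩ : ∃ t, 4 ^ n = 3 * t + 1 := ⟨4 ^ n / 3, by
    have := Nat.div_add_mod (4 ^ n) 3
    rw [Nat.pow_mod, show 4 % 3 = 1 from rfl, one_pow] at this
    exact this.symm⟩
  rw [ht, pow_succ, pow_mul, pow_three']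
  exact a.trans (b.gpow t)

/-- `g` fixes `A`, so `x⁻¹ g(x)` centralizes `A` -/
theorem _root_.Cfsg.Agent.BF.Cj.comm_fix (i : Function.Injective ι) (e : Cj ι g x y) {a : K}
    (h1 : Cj ι g (x⁻¹ * a * x) (x⁻¹ * a * x)) (h2 : Cj ι g a a) : y * x⁻¹ * a = a * (y * x⁻¹) := by
  have := (e.conj h1).uq i (h2.cast (by group) rfl)
  rw [← mul_inv_eq_iff_eq_mul]
  exact Eq.trans (by group) this

variable [Finite G]

theorem exists_odd_pow (g : G) : ∃ n, Odd (orderOf (g ^ 4 ^ n)) := by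
  obtain ⟨n, u, hu, e⟩ := Nat.exists_eq_two_pow_mul_odd (orderOf_pos g).ne'
  refine ⟨n, hu.of_dvd_nat (orderOf_dvd_of_pow_eq_one ?_)⟩
  rw [← pow_mul, show 4 ^ n * u = 2 ^ n * u * 2 ^ n by
    rw [show (4 : ℕ) = 2 * 2 from rfl, mul_pow]; ring, ← e, pow_mul, pow_orderOf_eq_one, one_pow]

theorem lv_cent (d : MS ι ⊤) (hz : Zc z) (h : ∀ k, Eqv z (k * w * k⁻¹) w) : Lv ι 𝐜[ι z] z w :=
  ⟨d.mono (range_le_c' ι hz.c) le_top, hz, fun _ => cj_self.2, h⟩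

theorem Lv.ms (l : Lv ι L z w) : MS ι l.St :=
  l.toMS.mono (by rintro _ ⟨k, rfl⟩; exact ⟨l.mem k, _, l.ww k, Cj.of k w⟩) fun _ a => a.1

theorem All.one {d : MS ι ⊤} {hz : Zc z} (a : All ι 𝐜[ι z] Good) : All ι (lv_one d hz).St Good :=
  fun P g hg => a P g (cj_self.1 (to_one.1 hg.2))

/-- extremal conjugation -/
theorem Lv.extr (l : Lv ι L z w) (hg : g ∈ L) (e : To ι z g x w) :
    ∃ c ∈ l.St, Mp ι (c * g) (Cm l.toZc x) ⊤ := by
  have k : cj(g, (Cm l.toZc x).map ι) ≤ l.St := cj_le_iff_forall.2 (by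
    rintro _ ⟨y, hy, rfl⟩
    refine ⟨mul_mem (mul_mem hg (l.mem y)) (inv_mem hg), ?_⟩
    rw [mul_assoc]
    exact To.trans l.toZc (l.Lz g hg) (To.trans l.toZc (l.Lz _ (l.mem y)) (e.symm l.toZc (l.Lz g hg))
      ⟨_, hy, Cj.of y x⟩) e)
  obtain ⟨c, hc, k1⟩ := l.ms.syl.exists_cj_le (isPGroup_cj g (l.pg _)) k
  exact ⟨c, hc, mp_top_iff.2 (by rwa [cj_mul])⟩

theorem Lv.extr' (l : Lv ι L z w) (hg : g ∈ L) (e : To ι z g x w) :
    ∃ m ∈ L, To ι z m x w ∧ Mp ι m (Cm l.toZc x) ⊤ := by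
  obtain ⟨c, hc, a⟩ := l.extr hg e
  exact ⟨_, mul_mem hc.1 hg, e.trans l.toZc (l.Lz c hc.1) hc.2, a⟩

/-- a conjugation moving `x` to `w` extends to the centralizer of `x` -/
theorem Lv.ext (l : Lv ι L z w) (b : All ι l.St (Sc ι)) (hm : m ∈ L) (e : To ι z m x w)
    (hP : P ≤ Cm l.toZc x) (a : Mp ι m P ⊤) :
    ∃ n ∈ L, Mp ι n (Cm l.toZc x) ⊤ ∧ ∀ p ∈ P, ∀ y, Cj ι m p y → Cj ι n p y := by
  obtain ⟨c, hc, a'⟩ := l.extr hm e
  obtain ⟨k, r⟩ := b (im ι m P) c hc (by simpa using ((mp_im_inv (g := m)).mono le_rfl hP).trans a')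
  refine ⟨ι k⁻¹ * (c * m), mul_mem (l.mem _) (mul_mem hc.1 hm), a'.trans (Mp.of fun _ _ => trivial),
    fun p hp y e => ?_⟩
  obtain ⟨q, -, e'⟩ := a' p (hP hp)
  refine e'.trans (Cj.of' ?_)
  rw [← r y (mem_im.2 ⟨p, hp, e⟩) q (by simpa using e.symm.trans e')]; group

theorem Mv.good (c : GC ι Good) (b : All ι l.St Good) (v : Mv l Good x) (hg : g ∈ L) (e : To ι z g x w)
    (hP : P ≤ Cm l.toZc x) (a : Mp ι g P ⊤) : Good P g := by
  obtain ⟨m, hm, a', b', e'⟩ := v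
  have := c.mul (a'.mono hP le_rfl).to_im (c.mono hP b') (b (im ι m P) (g * m⁻¹)
    ⟨mul_mem hg (inv_mem hm), (e'.symm l.toZc (l.Lz m hm)).trans l.toZc (l.Lz g hg) e⟩
    (mp_im_inv.trans a))
  simpa using this

theorem Cr.mem_of_comm (r : Cr ι L P) (h : ∀ x ∈ P, y * x = x * y) : y ∈ P :=
  have mb : ∀ g, Mp ι g (⊥ : Subgroup K) ⊥ := fun g x hx =>
    ⟨1, one_mem _, by rw [mem_bot.1 hx]; exact Cj.one⟩
  r.rad ⊥ ⊥ le_rfl bot_le (fun g _ _ => ⟨mb g, mb g⟩) y (fun x hx => by simp [h x hx])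
    (fun x hx => by simp [mem_bot.1 hx]) fun x hx => by simp [mem_bot.1 hx]

/-- the two step version of `Cr.rad` -/
theorem Cr.rad2 (r : Cr ι L P) (hA : A ≤ P) (inv : ∀ g ∈ L, Mp ι g P P → Mp ι g A A)
    (h1 : ∀ x ∈ P, y * x * y⁻¹ * x⁻¹ ∈ A) (h2 : ∀ x ∈ A, y * x = x * y) : y ∈ P :=
  r.rad A A le_rfl hA (fun g hg a => ⟨inv g hg a, inv g hg a⟩) y h1
    (fun x hx => by simp [h2 x hx]) h2

theorem Lv.mem_cr (l : Lv ι L z w) (r : Cr ι L P) : z ∈ P ∧ w ∈ P := by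
  have hz : z ∈ P := r.mem_of_comm fun x _ => (l.c x).symm
  refine ⟨hz, r.rad2 (zpowers_le.2 hz) (fun g hg _ _ ⟨n, e⟩ => ⟨_, ⟨n, e⟩, e ▸ (Fix ι g).zpow_mem
    (l.Lz g hg) n⟩) (fun x _ => ?_) fun _ ⟨n, e⟩ => e ▸ (Commute.zpow_right (l.c w) n).eq⟩
  have : w * x * w⁻¹ * x⁻¹ = w * (x * w * x⁻¹)⁻¹ := by group
  rcases l.ww x with e | e <;> rw [this, e]
  · simp
  · rw [mul_inv_rev, ← mul_assoc, (Commute.inv_right (l.c w)).eq]; simp

/-- the tower step -/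
theorem Lv.trick (l : Lv ι L z w) (c : GC ι Good) (b : All ι l.St Good)
    (cand : ∀ x, ∀ g ∈ L, To ι z g x w → Mv l Good x ∨ Ex l Good x) : All ι L Good :=
  fun P g hg a => alp l.toMS c (fun P r big g hg a o => by
    obtain ⟨x, hx, e⟩ := a.surj (l.mem_cr r).2
    have hP : P ≤ Cm l.toZc x := fun p hp => by
      obtain ⟨q, -, e'⟩ := a p hp
      exact ((e'.conj e).eqv l.inj (l.Lz g hg) e).2 (l.ww q)
    rcases cand x g hg (.of e) with v | v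
    · exact v.good c b hg (.of e) hP a.top
    rcases hP.eq_or_lt with rfl | h
    · exact v g hg o r a (.of e)
    have := MS.fin l.toMS
    obtain ⟨u, hu, a'⟩ := l.extr hg (.of e)
    exact Mv.good (l := l) c b ⟨_, mul_mem hu.1 hg, a', big _ _ (mul_mem hu.1 hg) a'
      (PLocal.CF.card_lt_of_lt' h), .pre e hu.2⟩ hg (.of e) hP a.top) P hg a

/-- an element of odd order centralizing the involutions of an abelian 2-group centralizes it -/
theorem cen_ab (d : MS ι L) (o : Odd (orderOf g)) (a : Mp ι g A A) (hA : ∀ x ∈ A, ∀ y ∈ A, x * y = y * x)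
    (h : ∀ x ∈ A, x * x = 1 → Cj ι g x x) (hx : x ∈ A) : Cj ι g x x := by
  obtain ⟨n, hn⟩ := MS.two d x
  induction n generalizing x with
  | zero => rw [pow_zero, pow_one] at hn; exact hn ▸ Cj.one
  | succ n ih =>
    obtain ⟨y, hy, e⟩ := a x hx
    have h1 := (e.mul e).uq d.inj (ih (mul_mem hx hx) (by rwa [← sq, ← pow_mul, ← pow_succ']))
    refine Cj.chain d o (c := y * x⁻¹) (by simpa using e) (h _ (mul_mem hy (inv_mem hx)) ?_)
    rw [mul_assoc, ← mul_assoc x⁻¹, hA _ (inv_mem hx) y hy, mul_assoc, ← mul_assoc, h1]; group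

/-- an element of odd order centralizing a self-centralizing normal subgroup -/
theorem cen_sc (d : MS ι L) (o : Odd (orderOf g)) (h : ∀ a ∈ A, Cj ι g a a)
    (hA : ∀ y, (∀ a ∈ A, y * a = a * y) → y ∈ A) (e : Cj ι g x y)
    (hx : ∀ a ∈ A, x⁻¹ * a * x ∈ A) : Cj ι g x x :=
  Cj.chain d o (c := y * x⁻¹) (by simpa using e)
    (h _ (hA _ fun a ha => e.comm_fix d.inj (h _ (hx a ha)) (h a ha)))

/-- an element of odd order normalizing a cyclic 2-group centralizes it -/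
theorem cen_cyc (d : MS ι L) (o : Odd (orderOf g)) {n : ℕ} (e : Cj ι g x (x ^ n))
    (h : ∀ y ∈ zpowers x, y * y = 1 → Cj ι g y y) : Cj ι g x x :=
  cen_ab d o (A := zpowers x) (fun _ ⟨i, r⟩ => ⟨(x ^ n) ^ i, zpow_mem (pow_mem (mem_zpowers x) n) i, by
    rw [← r]; simp only [Cj, map_zpow] at e ⊢; rw [← e, conj_zpow]⟩)
    (fun _ ⟨i, r⟩ _ ⟨j, r'⟩ => r ▸ r' ▸ zpow_mul_comm x i j) h (mem_zpowers x)

theorem idx_two [IsSimpleGroup G] (d : MS ι ⊤) (h : x * y ≠ y * x) (M : Subgroup G) : M.index ≠ 2 :=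
  fun hM => by
  rcases (normal_of_index_eq_two hM).eq_bot_or_eq_top with r | r
  · have k : ∀ g : G, g * g = 1 := fun g => by
      rw [← mem_bot, ← r]; exact M.mul_self_mem_of_index_two hM g
    have i : ∀ g : G, g⁻¹ = g := fun g => inv_eq_of_mul_eq_one_right (k g)
    exact h (d.inj (by rw [map_mul, map_mul, ← i (ι x * ι y), mul_inv_rev, i, i]))
  · rw [r, index_top] at hM; omega

theorem zstar [IsSimpleGroup G] (d : MS ι ⊤) (h : x * y ≠ y * x) (z1 : z ≠ 1) (z2 : z * z = 1) :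
    ∃ g y, Cj ι g y z ∧ y ≠ z := by
  obtain ⟨P, hP⟩ := d.syl.exists_sylow_top
  by_contra! r
  refine h (d.inj ?_)
  rw [map_mul, map_mul]
  refine Inv.ZStar.comm_of_simple P (order_two d.inj z1 z2) (hP.ge ⟨_, rfl⟩) (fun g hg => ?_) _ _
  obtain ⟨y, e⟩ := exists_cj' (hP.le hg)
  exact Eq.trans e (congrArg ι (r _ y e.symm))

/-- Thompson transfer for the kernel of a character -/
theorem thompson (d : MS ι ⊤) (h2 : ∀ M : Subgroup G, M.index ≠ 2) (M : Subgroup K) (t : K)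
    (hM : ∀ a, Xor' (a * t ∈ M) (a ∈ M)) (hx : x * x = 1) :
    ∃ g, ∃ y ∈ M, Cj ι g x y ∧ Mp ι g (Cm zc_one x) ⊤ := by
  obtain ⟨g, y, hy, e, r⟩ := d.thompson h2 (M := M) (by
    rw [← index_eq_two_iff.2 ⟨t, hM⟩, card_mul_index]) hx
  exact ⟨g, y, hy, e, fun k hk => (r k (mem_Cm_one.1 hk)).imp fun _ r => ⟨trivial, r⟩⟩

theorem MS.comp (d : MS ι L) {θ : K →* K} (h : Function.Injective θ) : MS (ι.comp θ) L := by
  have := MS.fin d
  exact ⟨d.inj.comp h, by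
    rw [MonoidHom.range_comp, MonoidHom.range_eq_top.2 (Finite.injective_iff_surjective.1 h),
      ← MonoidHom.range_eq_map]; exact d.syl⟩

end Cfsg.Agent.L4F
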