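import Mathlib
import Cfsg.Agent.P4T.K
import Cfsg.Agent.L4F.Trk

/-! The model `D ≀ 2` of a Sylow 2-subgroup of `L₄(q)`, `q ≡ 3 (4)`, and the model
`{(a, b, c) : a + b + c even} ⋊ D₈ / ⟨(h, h, h)⟩` for `q ≡ 1 (4)`. -/

set_option autoImplicit false
set_option linter.unusedSectionVars false

namespace Cfsg.Agent.L4F

open Subgroup Cfsg.Agent.GHO Cfsg.Agent.P4T

/-- `r₁ ^ u r₂ ^ v u₁ ^ e u₂ ^ f t ^ s` -/
@[ext] structure WK (k : ℕ) : Type where
  u : R k
  v : R k
  e : Bool
  f : Bool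
  s : Bool

variable {k : ℕ}

namespace WK

instance instMul : Mul (WK k) :=
  ⟨fun a b => ⟨a.u + sg a.e (cond a.s b.v b.u), a.v + sg a.f (cond a.s b.u b.v),
    xor a.e (cond a.s b.f b.e), xor a.f (cond a.s b.e b.f), xor a.s b.s⟩⟩
instance instOne : One (WK k) := ⟨⟨0, 0, false, false, false⟩⟩
instance instInv : Inv (WK k) :=
  ⟨fun a => ⟨-sg (cond a.s a.f a.e) (cond a.s a.v a.u), -sg (cond a.s a.e a.f) (cond a.s a.u a.v),
    cond a.s a.f a.e, cond a.s a.e a.f, a.s⟩⟩

theorem mul_def (u v u' v' : R k) (e f s e' f' s' : Bool) :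
    (⟨u, v, e, f, s⟩ * ⟨u', v', e', f', s'⟩ : WK k) =
      ⟨u + sg e (cond s v' u'), v + sg f (cond s u' v'), xor e (cond s f' e'), xor f (cond s e' f'),
        xor s s'⟩ := rfl
theorem one_def : (1 : WK k) = ⟨0, 0, false, false, false⟩ := rfl
theorem inv_def (u v : R k) (e f s : Bool) : (⟨u, v, e, f, s⟩⁻¹ : WK k) =
    ⟨-sg (cond s f e) (cond s v u), -sg (cond s e f) (cond s u v), cond s f e, cond s e f, s⟩ := rfl

instance instGroup : Group (WK k) := Group.ofLeftAxioms
  (by
    rintro ⟨u, v, e, f, s⟩ ⟨u', v', e', f', s'⟩ ⟨u'', v'', e'', f'', s''⟩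
    cases e <;> cases f <;> cases s <;> cases e' <;> cases f' <;> cases s' <;>
      simp [mul_def] <;> constructor <;> ring)
  (by rintro ⟨u, v, e, f, s⟩; simp [mul_def, one_def])
  (by rintro ⟨u, v, e, f, s⟩; cases e <;> cases f <;> cases s <;> simp [mul_def, one_def, inv_def])

/-- coordinates -/
def eqv : WK k ≃ R k × R k × Bool × Bool × Bool :=
  ⟨fun p => (p.u, p.v, p.e, p.f, p.s), fun p => ⟨p.1, p.2.1, p.2.2.1, p.2.2.2.1, p.2.2.2.2⟩,
    fun _ => rfl, fun _ => rfl⟩

instance instFinite : Finite (WK k) := Finite.of_equiv _ eqv.symm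

theorem card_eq : Nat.card (WK k) = 2 ^ (2 * k + 7) := by
  rw [Nat.card_congr eqv]
  simp only [Nat.card_prod, Nat.card_zmod, Nat.card_eq_fintype_card (α := Bool), Fintype.card_bool]
  ring

theorem pw_mk (x y : R k) (n : ℕ) :
    (⟨x, y, false, false, false⟩ : WK k) ^ n = ⟨n * x, n * y, false, false, false⟩ := by
  induction n with
  | zero => simp [one_def]
  | succ n ih => rw [pow_succ, ih]; simp [mul_def, add_mul]

end WK

/-- `(a, b, c) ε₁ ^ e ε₂ ^ f σ ^ s`; `ε₁` negates `a, c`, `ε₂` negates `b, c`, `σ` swaps `a, b` -/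
@[ext] structure PT (k : ℕ) : Type where
  a : R k
  b : R k
  c : R k
  e : Bool
  f : Bool
  s : Bool
  ev : pr k (a + b + c) = 0

theorem pr_sg (b : Bool) (x : R k) : pr k (sg b x) = pr k x := by
  cases b <;> simp [ZMod.neg_eq_self_mod_two]

theorem ev_mul {a b c a' b' c' : R k} (h : pr k (a + b + c) = 0) (h' : pr k (a' + b' + c') = 0)
    (e f g s : Bool) : pr k (a + sg e (cond s b' a') + (b + sg f (cond s a' b')) + (c + sg g c')) = 0 := by
  simp only [map_add, pr_sg] at *
  cases s <;> simp only [cond_true, cond_false] <;> linear_combination h + h'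

theorem ev_inv {a b c : R k} (h : pr k (a + b + c) = 0) (e f g s : Bool) :
    pr k (-sg e (cond s b a) + -sg f (cond s a b) + -sg g c) = 0 := by
  simp only [map_add, map_neg, pr_sg] at *
  cases s <;> simp only [cond_true, cond_false] <;> linear_combination -h

@[simp] theorem pr_m2 : pr k (m2 k) = 0 := by
  rw [← two_q4, map_mul, map_ofNat]; exact mul_eq_zero_of_left rfl _

namespace PT

instance instMul : Mul (PT k) :=
  ⟨fun x y => ⟨x.a + sg x.e (cond x.s y.b y.a), x.b + sg x.f (cond x.s y.a y.b),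
    x.c + sg (xor x.e x.f) y.c, xor x.e (cond x.s y.f y.e), xor x.f (cond x.s y.e y.f), xor x.s y.s,
    ev_mul x.ev y.ev _ _ _ _⟩⟩
instance instOne : One (PT k) := ⟨⟨0, 0, 0, false, false, false, by simp⟩⟩
instance instInv : Inv (PT k) :=
  ⟨fun x => ⟨-sg (cond x.s x.f x.e) (cond x.s x.b x.a), -sg (cond x.s x.e x.f) (cond x.s x.a x.b),
    -sg (xor x.e x.f) x.c, cond x.s x.f x.e, cond x.s x.e x.f, x.s, ev_inv x.ev _ _ _ _⟩⟩

theorem mul_def (a b c a' b' c' : R k) (e f s e' f' s' : Bool) (h h') :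
    (⟨a, b, c, e, f, s, h⟩ * ⟨a', b', c', e', f', s', h'⟩ : PT k) =
      ⟨a + sg e (cond s b' a'), b + sg f (cond s a' b'), c + sg (xor e f) c', xor e (cond s f' e'),
        xor f (cond s e' f'), xor s s', ev_mul h h' _ _ _ _⟩ := rfl
theorem one_def : (1 : PT k) = ⟨0, 0, 0, false, false, false, by simp⟩ := rfl
theorem inv_def (a b c : R k) (e f s : Bool) (h) : (⟨a, b, c, e, f, s, h⟩⁻¹ : PT k) =
    ⟨-sg (cond s f e) (cond s b a), -sg (cond s e f) (cond s a b), -sg (xor e f) c, cond s f e,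
      cond s e f, s, ev_inv h _ _ _ _⟩ := rfl

instance instGroup : Group (PT k) := Group.ofLeftAxioms
  (by
    rintro ⟨a, b, c, e, f, s, h⟩ ⟨a', b', c', e', f', s', h'⟩ ⟨a'', b'', c'', e'', f'', s'', h''⟩
    cases e <;> cases f <;> cases s <;> cases e' <;> cases f' <;> cases s' <;>
      simp [mul_def] <;> refine ⟨?_, ?_, ?_⟩ <;> ring)
  (by rintro ⟨a, b, c, e, f, s, h⟩; simp [mul_def, one_def])
  (by rintro ⟨a, b, c, e, f, s, h⟩; cases e <;> cases f <;> cases s <;> simp [mul_def, one_def, inv_def])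

instance instFinite : Finite (PT k) :=
  Finite.of_injective (fun p : PT k => (p.a, p.b, p.c, p.e, p.f, p.s)) fun _ _ h => by
    simp only [Prod.mk.injEq] at h
    exact PT.ext h.1 h.2.1 h.2.2.1 h.2.2.2.1 h.2.2.2.2.1 h.2.2.2.2.2

/-- the scalar `-1` -/
def om (k : ℕ) : PT k := ⟨m2 k, m2 k, m2 k, false, false, false, by simp⟩

theorem om_comm (x : PT k) : x * om k = om k * x := by
  obtain ⟨a, b, c, e, f, s, h⟩ := x
  cases e <;> cases f <;> cases s <;> simp [mul_def, om, neg_m2, add_comm]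

theorem om_sq : om k * om k = 1 := by simp [mul_def, om, one_def, m2_add]

/-- the subgroup generated by `om` -/
def Om (k : ℕ) : Subgroup (PT k) where
  carrier := {x | x = 1 ∨ x = om k}
  one_mem' := .inl rfl
  mul_mem' := by rintro _ _ (rfl | rfl) (rfl | rfl) <;> simp [om_sq]
  inv_mem' := by rintro _ (rfl | rfl) <;> simp [inv_eq_of_mul_eq_one_right om_sq]

instance instNormal : (Om k).Normal := ⟨by
  rintro _ (rfl | rfl) g
  exacts [.inl (by simp), .inr (by rw [om_comm, mul_inv_cancel_right])]⟩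

theorem card_eq : Nat.card (PT k) = 2 ^ (3 * k + 8) := by
  have b : Function.Bijective fun p : PT k × Bool =>
      (p.1.a + cond p.2 1 0, p.1.b, p.1.c, p.1.e, p.1.f, p.1.s) := by
    constructor
    · rintro ⟨⟨a, b, c, e, f, s, h⟩, t⟩ ⟨⟨a', b', c', e', f', s', h'⟩, t'⟩ r
      simp only [Prod.mk.injEq] at r
      obtain ⟨r, rfl, rfl, rfl, rfl, rfl⟩ := r
      have r' := congrArg (pr k) r
      simp only [map_add] at h h' r'
      cases t <;> cases t' <;> simp only [cond_true, cond_false, add_zero, add_left_inj, map_one,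
        map_zero] at r r'
      · subst r; rfl
      · exact absurd (by linear_combination h - h' - r') (one_ne_zero (α := ZMod 2))
      · exact absurd (by linear_combination h' - h + r') (one_ne_zero (α := ZMod 2))
      · subst r; rfl
    · rintro ⟨a, b, c, e, f, s⟩
      rcases (by decide : ∀ x : ZMod 2, x = 0 ∨ x = 1) (pr k (a + b + c)) with h | h
      · exact ⟨⟨⟨a, b, c, e, f, s, h⟩, false⟩, by simp⟩
      · exact ⟨⟨⟨a - 1, b, c, e, f, s, by
          simp only [map_add, map_sub, map_one] at h ⊢; linear_combination h⟩, true⟩, by simp⟩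
  have := Nat.card_eq_of_bijective _ b
  simp only [Nat.card_prod, Nat.card_zmod, Nat.card_eq_fintype_card (α := Bool),
    Fintype.card_bool] at this
  have h : Nat.card (PT k) * 2 = 2 ^ (3 * k + 8) * 2 := by rw [this]; ring
  omega

end PT

/-- the model for `q ≡ 1 (4)` -/
abbrev PM (k : ℕ) : Type := PT k ⧸ PT.Om k

namespace PM

/-- the class of an element -/
def mk (a b c : R k) (e f s : Bool) (h : pr k (a + b + c) = 0) : PM k :=
  QuotientGroup.mk ⟨a, b, c, e, f, s, h⟩

theorem ind {p : PM k → Prop} (h : ∀ a b c e f s h, p (mk a b c e f s h)) (x : PM k) : p x := by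
  obtain ⟨⟨a, b, c, e, f, s, r⟩, rfl⟩ := QuotientGroup.mk_surjective x
  exact h a b c e f s r

theorem mul_def (a b c a' b' c' : R k) (e f s e' f' s' : Bool) (h h') :
    mk a b c e f s h * mk a' b' c' e' f' s' h' =
      mk (a + sg e (cond s b' a')) (b + sg f (cond s a' b')) (c + sg (xor e f) c') (xor e (cond s f' e'))
        (xor f (cond s e' f')) (xor s s') (ev_mul h h' _ _ _ _) := rfl
theorem one_def : (1 : PM k) = mk 0 0 0 false false false (by simp) := rfl
theorem inv_def (a b c : R k) (e f s : Bool) (h) : (mk a b c e f s h)⁻¹ =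
    mk (-sg (cond s f e) (cond s b a)) (-sg (cond s e f) (cond s a b)) (-sg (xor e f) c) (cond s f e)
      (cond s e f) s (ev_inv h _ _ _ _) := rfl

theorem mk_eq {a b c a' b' c' : R k} {e f s e' f' s' : Bool} {h h'} :
    mk a b c e f s h = mk a' b' c' e' f' s' h' ↔ (e = e' ∧ f = f' ∧ s = s') ∧
      ((a = a' ∧ b = b' ∧ c = c') ∨ (a = a' + m2 k ∧ b = b' + m2 k ∧ c = c' + m2 k)) := by
  rw [mk, mk, eq_comm, QuotientGroup.eq]
  change (_ = 1 ∨ _ = PT.om k) ↔ _
  rw [inv_mul_eq_one, inv_mul_eq_iff_eq_mul, PT.om_comm, PT.om, PT.mul_def]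
  simp only [PT.mk.injEq, sg_f, cond_false, Bool.false_xor, Bool.xor_false, add_comm (m2 k)]
  grind

theorem card_eq : Nat.card (PM k) = 2 ^ (3 * k + 7) := by
  have h1 := card_eq_card_quotient_mul_card_subgroup (PT.Om k)
  have h2 : Nat.card (PT.Om k) = 2 := by
    have : (1 : PT k) ≠ PT.om k := fun e => m2_ne (congrArg PT.a e).symm
    exact (Set.ncard_pair this ▸ Nat.card_coe_set_eq _ :)
  rw [h2, PT.card_eq, pow_succ] at h1
  exact (Nat.eq_of_mul_eq_mul_right two_pos h1).symm

theorem pw_mk (a b c : R k) (h) (n : ℕ) : mk a b c false false false h ^ n =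
    mk ((n : R k) * a) ((n : R k) * b) ((n : R k) * c) false false false (by
      rw [← mul_add, ← mul_add, map_mul, h, mul_zero]) := by
  induction n with
  | zero => simp [one_def]
  | succ n ih => rw [pow_succ, ih]; simp [mul_def, add_mul]

end PM

end Cfsg.Agent.L4F
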