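import Mathlib
import Cfsg.Agent.L4F.WK

/-! Definitions for the fusion analysis on `WK k = D ≀ 2` and on `PM k`, `k ≠ 0`. -/

set_option autoImplicit false
set_option linter.unusedSectionVars false

namespace Cfsg.Agent.L4F

open Subgroup Cfsg Cfsg.Agent.BF Cfsg.Agent.TT Cfsg.Agent.GHO Cfsg.Agent.P4T Cfsg.Agent.Gold

variable {k : ℕ}

section arith

theorem unit_of_odd {x : R k} (h : pr k x = 1) : ∃ y, y * x = 1 := by
  obtain ⟨b, rfl⟩ := pr_eq_one.1 h
  have : IsNilpotent (2 * b) := ⟨k + 2, by rw [mul_pow, Inv.Z2.two_pow_self, zero_mul]⟩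
  exact this.isUnit_add_one.exists_left_inv

theorem m2_mul {x : R k} : m2 k * x = if pr k x = 0 then 0 else m2 k := by
  rcases par x with ⟨b, rfl⟩ | ⟨b, rfl⟩
  · rw [if_pos (pr_two b), ← mul_assoc, mul_comm _ 2, two_m2, zero_mul]
  · rw [if_neg (by rw [pr_eq_one.2 ⟨b, rfl⟩]; decide), mul_add, ← mul_assoc, mul_comm _ 2, two_m2]; simp

theorem m2_mul_even {x : R k} (h : pr k x = 0) : m2 k * x = 0 := by rw [m2_mul, if_pos h]
theorem m2_mul_odd {x : R k} (h : pr k x = 1) : m2 k * x = m2 k := by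
  rw [m2_mul, if_neg (by rw [h]; decide)]
theorem pr_cases (x : R k) : pr k x = 0 ∨ pr k x = 1 := (by decide : ∀ x : ZMod 2, x = 0 ∨ x = 1) _
theorem cast_m2 : ((2 ^ (k + 1) : ℕ) : R k) = m2 k := by simp [m2]
theorem cast_q4 : ((2 ^ k : ℕ) : R k) = q4 k := by simp [q4]
theorem q4_ne : q4 k ≠ 0 := fun e => m2_ne (k := k) (by rw [← two_q4, e, mul_zero])
theorem q4_ne_m2 : q4 k ≠ m2 k := fun e => m2_ne (k := k) (by rw [← two_q4, e, two_m2])
theorem q4_ne_neg : q4 k ≠ -q4 k := fun e => m2_ne (k := k) (by linear_combination e - two_q4)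
theorem neg_q4 : -q4 k = q4 k + m2 k := by linear_combination -two_q4 - two_m2 (k := k)
@[simp] theorem pr_ofNat_two : pr k 2 = 0 := by simpa using pr_two (1 : R k)

variable [NeZero k]

/-- half of `q4` -/
theorem exists_c8 : ∃ c : R k, 2 * c = q4 k := by
  obtain ⟨j, hj⟩ := Nat.exists_eq_succ_of_ne_zero (NeZero.ne k)
  exact ⟨2 ^ j, by rw [q4, ← pow_succ']; congr 1; exact hj.symm⟩

@[simp] theorem pr_q4 : pr k (q4 k) = 0 := by
  obtain ⟨c, h⟩ := exists_c8 (k := k)
  rw [← h, pr_two]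

theorem even_of_two_eq_zero {x : R k} (h : 2 * x = 0) : pr k x = 0 := by
  rcases two_eq_zero.1 h with rfl | rfl <;> simp

theorem even_of_two_eq_m2 {x : R k} (h : 2 * x = m2 k) : pr k x = 0 := by
  rcases two_eq_m2.1 h with rfl | rfl <;> simp

theorem even_of_four {x : R k} (h : 2 * (2 * x) = 0) : pr k x = 0 :=
  (two_eq_zero.1 h).elim even_of_two_eq_zero even_of_two_eq_m2

theorem q4_mul_m2 : q4 k * m2 k = 0 := by rw [mul_comm, m2_mul_even pr_q4]

end arith

namespace W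

open WK

/-- the central involution -/
def z (k : ℕ) : WK k := ⟨m2 k, m2 k, false, false, false⟩
/-- centre of the first factor -/
def z1 (k : ℕ) : WK k := ⟨m2 k, 0, false, false, false⟩
/-- centre of the second factor -/
def z2 (k : ℕ) : WK k := ⟨0, m2 k, false, false, false⟩
/-- the swap -/
def t (k : ℕ) : WK k := ⟨0, 0, false, false, true⟩
/-- reflections of the first factor -/
def u (p : R k) : WK k := ⟨p, 0, true, false, false⟩
/-- reflections of the second factor -/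
def v (p : R k) : WK k := ⟨0, p, false, true, false⟩
/-- generator of the cyclic subgroup of `Q₁` -/
def a1 (k : ℕ) : WK k := ⟨1, 1, false, false, false⟩
/-- an element of `Q₁` -/
def j1 (k : ℕ) : WK k := ⟨m2 k, 0, true, true, true⟩
/-- the inverse of the element `I₁` of order 4 of `⟨a1⟩` -/
def I1' (k : ℕ) : WK k := ⟨-q4 k, -q4 k, false, false, false⟩
/-- element of order 4 in `Q₂` -/
def I2 (k : ℕ) : WK k := ⟨q4 k, -q4 k, false, false, false⟩
/-- element of order 4 in `Q₂`, `J2 = I₁ t` -/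
def J2 (k : ℕ) : WK k := ⟨q4 k, q4 k, false, false, true⟩
/-- `J2 * I2` -/
def K2 (k : ℕ) : WK k := ⟨0, m2 k, false, false, true⟩
/-- `u p * J2 * u p` -/
def J1 (p : R k) : WK k := ⟨p - q4 k, q4 k + p, true, true, true⟩
/-- `u p * K2 * u p` -/
def K1 (p : R k) : WK k := ⟨p, m2 k + p, true, true, true⟩
/-- `J1 p * J2` -/
def x4 (p : R k) : WK k := ⟨p + m2 k, p, true, true, false⟩
/-- `z1 * u p * v (p + 1)` -/
def x5 (p : R k) : WK k := ⟨p + m2 k, p + 1, true, true, false⟩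
/-- `z * u p` -/
def x6 (p : R k) : WK k := ⟨p + m2 k, m2 k, true, false, false⟩

theorem zc : Zc (z k) := ⟨by
  rintro ⟨u, v, e, f, s⟩
  cases e <;> cases f <;> cases s <;> simp [mul_def, z, neg_m2, add_comm], by
  simp [mul_def, z, one_def, m2_add]⟩

theorem z1_ww (y : WK k) : Eqv (z k) (y * z1 k * y⁻¹) (z1 k) := by
  obtain ⟨u, v, e, f, s⟩ := y
  cases e <;> cases f <;> cases s <;> simp [Eqv, mul_def, inv_def, z, z1, neg_m2, m2_add]

/-- the automorphism of order 3 of `Q₁ ∘ Q₈` -/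
def lφ (k : ℕ) : List (WK k × WK k) :=
  [(z k, z k), (a1 k, a1 k), (j1 k, j1 k), (J2 k, I2 k), (I2 k, K2 k)]
/-- the automorphism of order 3 of `(Q₈ ∘ Q₈) ⟨u p⟩` -/
def l4 (p : R k) : List (WK k × WK k) :=
  [(z k, z k), (J1 p, I1' k), (I1' k, K1 p), (J2 k, I2 k), (I2 k, K2 k), (u p, u p)]
/-- the transvection with centre `u p` on `⟨z1, u p⟩ × D₂` -/
def lδ (p : R k) : List (WK k × WK k) :=
  [(z1 k, z1 k * u p), (u p, u p), (v p, v p * u p), (v (p + 1), v (p + 1)), (z2 k, z2 k)]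

variable {G : Type*} [Group G] [Finite G] {ι : WK k →* G}

/-- the first level of the tower -/
theorem lv1 (d : MS ι ⊤) : Lv ι 𝐜[ι (z k)] (z k) (z1 k) := lv_cent d zc z1_ww

/-- the normal form -/
structure NF (ι : WK k →* G) : Prop extends MS ι ⊤ where
  φ : ∃ g, Rz ι g (lφ k)
  δ : ∀ p, ∃ g, Rz ι g (lδ p)

end W

namespace P

open PM

/-- elements of the torus with even coordinates sum -/
abbrev T (a b c : R k) (h : pr k (a + b + c) = 0) : PM k := mk a b c false false false h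

/-- the central involution -/
def z (k : ℕ) : PM k := T 0 0 (m2 k) (by simp)
/-- the second involution of the normal four-group -/
def n (k : ℕ) : PM k := T (m2 k) 0 0 (by simp)
/-- `n * z` -/
def nz (k : ℕ) : PM k := T 0 (m2 k) 0 (by simp)
/-- the swap -/
def t (k : ℕ) : PM k := mk 0 0 0 false false true (by simp)
/-- generator of the torus and of the cyclic subgroup of `Q₁` -/
def a1 (k : ℕ) : PM k := T 1 1 0 (by simp; rfl)
/-- generator of the torus -/
def a3 (k : ℕ) : PM k := T 1 0 1 (by simp; rfl)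
/-- generator of the torus -/
def a4 (k : ℕ) : PM k := T 0 1 1 (by simp; rfl)
/-- generator of `Z = C(Q₁ Q₂)` -/
def c0 (k : ℕ) : PM k := T 0 0 2 (by simp)
/-- an element of `Q₁` -/
def j1 (k : ℕ) : PM k := mk (m2 k) 0 0 true true true (by simp)
/-- the inverse of the element `I₁` of order 4 of `⟨a1⟩` -/
def I1' (k : ℕ) : PM k := T (-q4 k) (-q4 k) 0 (by simp [CharTwo.add_self_eq_zero])
/-- element of order 4 in `Q₂` -/
def I2 (k : ℕ) : PM k := T (q4 k) (-q4 k) 0 (by simp)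
/-- element of order 4 in `Q₂`, `J2 = I₁ t` -/
def J2 (k : ℕ) : PM k := mk (q4 k) (q4 k) 0 false false true (by simp [CharTwo.add_self_eq_zero])
/-- `J2 * I2` -/
def K2 (k : ℕ) : PM k := mk 0 (m2 k) 0 false false true (by simp)
/-- involutions negating the first and third coordinate -/
def e1 (p : R k) : PM k := mk p 0 p true false false (by simp [CharTwo.add_self_eq_zero])
/-- negates the second and third coordinate -/
def e2 (k : ℕ) : PM k := mk 0 0 0 false true false (by simp)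
/-- negates the first and second coordinate -/
def e3 (k : ℕ) : PM k := mk 0 0 0 true true false (by simp)
/-- `e1 p * J2 * e1 p` -/
def J1 (p : R k) : PM k := mk (p - q4 k) (q4 k + p) 0 true true true (by
  rw [show p - q4 k + (q4 k + p) + 0 = 2 * p by ring, pr_two])
/-- `e1 p * K2 * e1 p` -/
def K1 (p : R k) : PM k := mk p (m2 k + p) 0 true true true (by simp [CharTwo.add_self_eq_zero])
/-- `J1 p * J2` -/
def x4 (p : R k) : PM k := mk (p + m2 k) p 0 true true false (by simp [CharTwo.add_self_eq_zero])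
/-- the involution of the torus outside the four-group -/
def y (k : ℕ) [NeZero k] : PM k := T (q4 k) (q4 k) (q4 k) (by simp)
/-- `y * t` -/
def τ (k : ℕ) [NeZero k] : PM k := mk (q4 k) (q4 k) (q4 k) false false true (by simp)
/-- the element of order 4 of `Z` -/
def c4 (k : ℕ) [NeZero k] : PM k := T 0 0 (q4 k) (by simp)

/-- the torus -/
def kT (k : ℕ) : Subgroup (PM k) where
  carrier := {x | ∃ a b c h, x = T a b c h}
  one_mem' := ⟨0, 0, 0, _, rfl⟩
  mul_mem' := by rintro _ _ ⟨_, _, _, _, rfl⟩ ⟨_, _, _, _, rfl⟩; exact ⟨_, _, _, _, rfl⟩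
  inv_mem' := by rintro _ ⟨_, _, _, _, rfl⟩; exact ⟨_, _, _, _, rfl⟩

/-- `E₁ = C(n)` -/
def kE (k : ℕ) : Subgroup (PM k) where
  carrier := {x | ∃ a b c e f h, x = mk a b c e f false h}
  one_mem' := ⟨0, 0, 0, _, _, _, rfl⟩
  mul_mem' := by rintro _ _ ⟨_, _, _, _, _, _, rfl⟩ ⟨_, _, _, _, _, _, rfl⟩; exact ⟨_, _, _, _, _, _, rfl⟩
  inv_mem' := by rintro _ ⟨_, _, _, _, _, _, rfl⟩; exact ⟨_, _, _, _, _, _, rfl⟩

theorem mk_mem_kT {a b c : R k} {e f s : Bool} {h} :
    mk a b c e f s h ∈ kT k ↔ e = false ∧ f = false ∧ s = false :=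
  ⟨fun ⟨_, _, _, _, r⟩ => (mk_eq.1 r).1, fun ⟨r1, r2, r3⟩ => ⟨a, b, c, h, by subst r1 r2 r3; rfl⟩⟩

theorem mk_mem_kE {a b c : R k} {e f s : Bool} {h} : mk a b c e f s h ∈ kE k ↔ s = false :=
  ⟨fun ⟨_, _, _, _, _, _, r⟩ => (mk_eq.1 r).1.2.2, fun r => ⟨a, b, c, e, f, h, by subst r; rfl⟩⟩

theorem zc : Zc (z k) := ⟨fun x => by
  induction x using ind with | _ a b c e f s h =>
  cases e <;> cases f <;> cases s <;> simp [mul_def, z, neg_m2, add_comm], by
  simp [mul_def, z, one_def, m2_add]⟩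

theorem n_z : n k * z k = nz k := by simp [n, z, nz, mul_def, mk_eq, m2_add]

theorem n_ww (x : PM k) : Eqv (z k) (x * n k * x⁻¹) (n k) := by
  rw [Eqv, n_z]
  induction x using ind with | _ a b c e f s h =>
  cases e <;> cases f <;> cases s <;> simp [mul_def, inv_def, n, nz, neg_m2]

theorem n_comm {x : PM k} : x * n k = n k * x ↔ x ∈ kE k := by
  induction x using ind with | _ a b c e f s h =>
  have := m2_ne (k := k)
  cases e <;> cases f <;> cases s <;> simp [mul_def, n, neg_m2, mk_mem_kE, mk_eq, add_comm, this, this.symm]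

/-- the automorphism of order 3 of `Q₁ ∘ Q₈ ∘ Z` -/
def lφ (k : ℕ) : List (PM k × PM k) :=
  [(z k, z k), (a1 k, a1 k), (j1 k, j1 k), (c0 k, c0 k), (J2 k, I2 k), (I2 k, K2 k)]
/-- the automorphism of order 3 of `(Q₈ ∘ Q₈ ∘ Z) ⟨e1 p⟩` -/
def l4 (p : R k) : List (PM k × PM k) :=
  [(z k, z k), (J1 p, I1' k), (I1' k, K1 p), (J2 k, I2 k), (I2 k, K2 k), (c0 k, c0 k), (e1 p, e1 p)]
/-- the exchange of the first and the third coordinate on `E₁` -/
def lδ (k : ℕ) : List (PM k × PM k) :=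
  [(n k, z k), (a1 k, a4 k), (a3 k, a3 k), (a4 k, a1 k), (e1 0, e1 0), (e2 k, e3 k)]

variable {G : Type*} [Group G] [Finite G] {ι : PM k →* G}

/-- the first level of the tower -/
theorem lv1 (d : MS ι ⊤) : Lv ι 𝐜[ι (z k)] (z k) (n k) := lv_cent d zc n_ww

/-- the normal form -/
structure NF (ι : PM k →* G) : Prop extends MS ι ⊤ where
  φ : ∃ g, Rz ι g (lφ k)
  δ : ∃ g, Rz ι g (lδ k)

end P

end Cfsg.Agent.L4F
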