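import Mathlib
import Cfsg.Agent.L4F.WD

/-! Fusion on `PM k`: involutions, generators, the bottom level of the tower.
API: `L4F/Alp`, `L4F/Trk`, `BF/Base`; coordinates by `induction x using ind`,
`cases e <;> cases f <;> cases s <;> simp [mul_def, inv_def, mk_eq, ..]`, `two_eq_zero`, `two_eq_m2`, `par`, `pr`,
`even_of_two_eq_zero`, `linear_combination`.  Below `h = m2 k`, `q = q4 k` (even as `k ≠ 0`), `(a, b, c)` is an
element of the torus `kT` (modulo `(h, h, h)`), `U = {1, z, n, nz}`, `kE = C(n)`, `ε₁ = e1 0`, `ε₂ = e2`, `ε₃ = e3`. -/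

set_option autoImplicit false
set_option linter.unusedSectionVars false

namespace Cfsg.Agent.L4F.P

open Subgroup Cfsg Cfsg.Agent.BF Cfsg.Agent.TT Cfsg.Agent.GHO Cfsg.Agent.P4T Cfsg.Agent.Gold
  Cfsg.Agent.PLocal.Amb PM

variable {k : ℕ} [NeZero k] {G : Type*} [Group G] [Finite G] {ι : PM k →* G} {g : G}
  {Good : Subgroup (PM k) → G → Prop}

theorem p0_ev {a b : R k} (h : pr k (a + b) = 0) (u : R k) (hu : pr k u = 0) : ∃ d, b + u = a + 2 * d := by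
  obtain ⟨d, hd⟩ := pr_eq_zero.1 (show pr k (a + b + u) = 0 by rw [map_add, h, hu, add_zero])
  exact ⟨d - a, by linear_combination hd⟩

theorem p0_self (a : R k) : pr k (a + 0 + a) = 0 ∧ pr k (a + a + 0) = 0 ∧ pr k (0 + a + a) = 0 := by
  simp [CharTwo.add_self_eq_zero]

/-- the conclusion of `invol` -/
def p0_Cl (x : PM k) : Prop := ∃ c, c * x * c⁻¹ = n k ∨ c * x * c⁻¹ = y k ∨ c * x * c⁻¹ = t k ∨ c * x * c⁻¹ = τ k ∨
  ∃ p, c * x * c⁻¹ = e1 p ∨ c * x * c⁻¹ = x4 p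

theorem p0_up {x x' : PM k} (u : PM k) (e : u * x * u⁻¹ = x') (h : p0_Cl x') : p0_Cl x := by
  obtain ⟨c, h⟩ := h
  exact ⟨c * u, by rwa [show c * u * x * (c * u)⁻¹ = c * x' * c⁻¹ by rw [← e]; group]⟩

theorem p0_U {a b c : R k} {h} (ha : 2 * a = 0) (hb : 2 * b = 0) (hc : 2 * c = 0) :
    T a b c h = 1 ∨ T a b c h = z k ∨ T a b c h = n k ∨ T a b c h = nz k := by
  rcases two_eq_zero.1 ha with rfl | rfl <;> rcases two_eq_zero.1 hb with rfl | rfl <;>
    rcases two_eq_zero.1 hc with rfl | rfl <;> simp [one_def, z, n, nz, mk_eq, m2_add]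

theorem p0_e1 {a b c : R k} {h} (hb : 2 * b = 0) : p0_Cl (mk a b c true false false h) := by
  have h1 := two_m2 (k := k)
  obtain ⟨d, hd⟩ := p0_ev (a := a) (b := c) (by simpa [even_of_two_eq_zero hb] using h) 0 (map_zero _)
  refine ⟨T d d 0 (p0_self d).2.1, .inr (.inr (.inr (.inr ⟨c + b, .inl ?_⟩)))⟩
  rcases two_eq_zero.1 hb with rfl | rfl <;> simp [mul_def, inv_def, e1, mk_eq] <;> grind

theorem p0_s {a b c : R k} {h} (h2 : mk a b c false false true h * mk a b c false false true h = 1) :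
    p0_Cl (mk a b c false false true h) := by
  have h1 := two_m2 (k := k)
  have h3 := two_q4 (k := k)
  refine ⟨T (c - a) 0 (c - a) (p0_self _).1, .inr (.inr ?_)⟩
  simp only [mul_def, one_def, mk_eq, sg_f, cond_true, Bool.xor_false, Bool.xor_self, ← two_mul, and_self, true_and,
    zero_add] at h2
  rcases h2 with ⟨r1, -, r2⟩ | ⟨r1, -, r2⟩
  · left
    rcases two_eq_zero.1 r2 with rfl | rfl <;> simp [mul_def, inv_def, t, mk_eq] <;> grind
  · right; left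
    rcases two_eq_m2.1 r2 with rfl | rfl <;> simp [mul_def, inv_def, τ, mk_eq] <;> grind

/-- conjugacy classes of involutions.  Torus: `2 (a, b, c) = 0` or `(h, h, h)`; `t` swaps `n, nz`; the sign
changes are transitive on `y U`.  `(a, b, c) ε₃`: `2 c = 0`, representative with `c = 0`, conjugation by
`(α, 0, α)` adds `2 α` to `a`.  `(a, b, c) ε₁`: `2 b = 0`, similarly; `ε₂` by `t`.  `s = true`: `e = f`, conjugate
by `ε₁` to `e = f = false`; `(a + b, a + b, 2 c) = 0` or `(h, h, h)`; conjugation by `(α, 0, α)` adds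
`(α, -α, 0)`. -/
theorem invol {x : PM k} (h : x * x = 1) : x = 1 ∨ x = z k ∨ ∃ c, c * x * c⁻¹ = n k ∨
    c * x * c⁻¹ = y k ∨ c * x * c⁻¹ = t k ∨ c * x * c⁻¹ = τ k ∨
      ∃ p, c * x * c⁻¹ = e1 p ∨ c * x * c⁻¹ = x4 p := by
  change _ ∨ _ ∨ p0_Cl x
  have h1 := two_m2 (k := k)
  have h3 := two_q4 (k := k)
  have h4 := m2_ne (k := k)
  induction x using ind with | _ a b c e f s r =>
  have h2 := h
  cases e <;> cases f <;> cases s <;>
    simp only [mul_def, one_def, mk_eq, sg_f, sg_t, cond_true, cond_false, Bool.xor_false, Bool.xor_self, ← two_mul,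
      and_self, true_and, zero_add, add_neg_cancel, h4.symm, false_and, and_false, or_false, Bool.false_xor,
      Bool.xor_true, Bool.not_true, Bool.not_false, Bool.true_eq_false] at h2
  · rcases h2 with ⟨r1, r2, r3⟩ | ⟨r1, r2, r3⟩
    · rcases p0_U (h := r) r1 r2 r3 with e | e | e | e
      · exact .inl e
      · exact .inr (.inl e)
      · exact .inr (.inr ⟨1, .inl (by simpa using e)⟩)
      · exact .inr (.inr ⟨t k, .inl (by rw [show mk a b c false false false r = nz k from e]; simp [mul_def, inv_def, t, n, nz])⟩)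
    · have : ∃ e f, mk 0 0 0 e f false (by simp) * mk a b c false false false r * (mk 0 0 0 e f false (by simp))⁻¹ = y k := by
        rcases two_eq_m2.1 r1 with rfl | rfl <;> rcases two_eq_m2.1 r2 with rfl | rfl <;>
          rcases two_eq_m2.1 r3 with rfl | rfl <;> simp [mul_def, inv_def, y, mk_eq, neg_q4, add_assoc, m2_add]
      obtain ⟨e, f, this⟩ := this
      exact .inr (.inr ⟨_, .inr (.inl this)⟩)
  · exact .inr (.inr (p0_s h))
  · exact .inr (.inr (p0_up (t k) (x' := mk b a c true false false (by rwa [add_comm b]))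
      (by simp [mul_def, inv_def, t]) (p0_e1 h2.1)))
  · exact .inr (.inr (p0_e1 h2.1))
  · obtain ⟨d, hd⟩ := p0_ev (a := a) (b := b) (by simpa [even_of_two_eq_zero h2] using r) (m2 k) pr_m2
    refine .inr (.inr ⟨T d 0 d (p0_self d).1, .inr (.inr (.inr (.inr ⟨b + c, .inr ?_⟩)))⟩)
    rcases two_eq_zero.1 h2 with rfl | rfl <;> simp [mul_def, inv_def, x4, mk_eq] <;> grind
  · have e : e1 0 * mk a b c true true true r * (e1 0)⁻¹ = mk (-a) b (-c) false false true (by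
        simpa [ZMod.neg_eq_self_mod_two] using r) := by simp [mul_def, inv_def, e1]
    exact .inr (.inr (p0_up _ e (p0_s (by rw [← e, conj_mul, h]; simp))))

/-- the torus is generated by `a1, a3, a4`: with `a + b + c = 2 d`, `(a, b, c) = (d - c) a1 + (d - b) a3 + (d - a) a4`
(`pw_mk`, `ZMod.natCast_zmod_val`). -/
theorem gen_T {H : Subgroup (PM k)} (h1 : a1 k ∈ H) (h3 : a3 k ∈ H) (h4 : a4 k ∈ H) : kT k ≤ H := by
  rintro _ ⟨a, b, c, h, rfl⟩
  obtain ⟨d, hd⟩ := pr_eq_zero.1 h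
  convert mul_mem (mul_mem (pow_mem h1 (d - c).val) (pow_mem h3 (d - b).val)) (pow_mem h4 (d - a).val) using 1
  simp [a1, a3, a4, PM.pw_mk, mul_def, mk_eq]
  grind

theorem p0_split (a b c : R k) (e f s : Bool) (h) : mk a b c e f s h = T a b c h * mk 0 0 0 e f s (by simp) := by
  simp [mul_def]

theorem gen_δ : Gen (kE k) (lδ k) := by
  rintro H hH _ ⟨a, b, c, e, f, h, rfl⟩
  simp only [lδ, List.forall_mem_cons] at hH
  obtain ⟨-, h1, h3, h4, h5, h6, -⟩ := hH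
  rw [p0_split]
  refine mul_mem (gen_T h1 h3 h4 ⟨_, _, _, _, rfl⟩) ?_
  cases e <;> cases f
  exacts [one_mem H, h6, h5, by convert mul_mem h5 h6 using 1; simp [e1, e2, mul_def]]

theorem cm_n : Cm zc_one (n k) = kE k := by
  ext x
  rw [mem_Cm_one, n_comm]

theorem p0_c {H : Subgroup (PM k)} (h : c0 k ∈ H) {c : R k} (hc : pr k c = 0) {r} : T 0 0 c r ∈ H := by
  obtain ⟨d, rfl⟩ := pr_eq_zero.1 hc
  convert pow_mem h d.val using 1
  simp [c0, PM.pw_mk, mul_comm]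

theorem p0_nz : I1' k * I2 k = nz k ∧ I1' k * J2 k = t k ∧ nz k * z k = n k := by
  have h1 := two_m2 (k := k)
  have h3 := two_q4 (k := k)
  refine ⟨?_, ?_, ?_⟩ <;> simp [I1', I2, J2, nz, t, z, n, mul_def, mk_eq] <;> grind

/-- `Cm t = {e = f, a - b ∈ {0, h}}` (so `c` is even); `nz = I1' * I2`, `I1'⁻¹ = a1 ^ 2 ^ k`, `t = I1' * J2`. -/
theorem gen_φ : Gen (Cm zc (t k)) (lφ k) := by
  intro H hH x hx
  simp only [lφ, List.forall_mem_cons] at hH
  obtain ⟨hz, h1, hj, hc, hJ, hI, -⟩ := hH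
  have h2 := two_m2 (k := k)
  have h4 := m2_ne (k := k)
  have ha : ∀ a r, T a a 0 r ∈ H := fun a r => by
    convert pow_mem h1 a.val using 1
    simp [a1, PM.pw_mk]
  have hI' : I1' k ∈ H := ha _ _
  have hnz := (p0_nz (k := k)).1 ▸ mul_mem hI' hI
  have ht := (p0_nz (k := k)).2.1 ▸ mul_mem hI' hJ
  have hn := (p0_nz (k := k)).2.2 ▸ mul_mem hnz hz
  have h3 : mk 0 0 0 true true true (by simp) ∈ H := by
    convert mul_mem hn hj using 1
    simp [n, j1, mul_def, m2_add]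
  induction x using ind with | _ a b c e f s r =>
  have key : e = f ∧ (b = a ∨ b = a + m2 k) := by
    cases e <;> cases f <;> cases s <;> simp [mem_Cm, mul_def, inv_def, t, z, mk_eq, h4, h4.symm] at hx ⊢ <;> grind
  obtain ⟨rfl, key⟩ := key
  have hc' : pr k c = 0 := by rcases key with rfl | rfl <;> simpa [← add_assoc, CharTwo.add_self_eq_zero] using r
  rw [p0_split]
  refine mul_mem ?_ ?_
  · rcases key with rfl | rfl
    · convert mul_mem (ha b (p0_self b).2.1) (p0_c hc hc' (r := by simpa using hc')) using 1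
      simp [mul_def]
    · convert mul_mem (mul_mem (ha a (p0_self a).2.1) hnz) (p0_c hc hc' (r := by simpa using hc')) using 1
      simp [mul_def, nz]
  · cases e <;> cases s
    exacts [one_mem H, ht, by convert mul_mem h3 ht using 1; simp [t, mul_def], h3]

/-- `Cm (x4 p)` is generated by `I1', I2, c0, e1 p, t`: multiply by `t ^ s`, `e1 p`, `t (e1 p) t` to get into the
torus, where the condition is `2 a = 2 b ∈ {0, h}`. -/
theorem gen_4 (p : R k) : Gen (Cm zc (x4 p)) (l4 p) := by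
  intro H hH
  simp only [l4, List.forall_mem_cons] at hH
  obtain ⟨hz, -, hI', hJ, hI, hc, he, -⟩ := hH
  have h2 := two_m2 (k := k)
  have h3 := two_q4 (k := k)
  have h4 := m2_ne (k := k)
  have hnz := (p0_nz (k := k)).1 ▸ mul_mem hI' hI
  have ht := (p0_nz (k := k)).2.1 ▸ mul_mem hI' hJ
  have hn := (p0_nz (k := k)).2.2 ▸ mul_mem hnz hz
  have mt : t k ∈ Cm zc (x4 p) := by simp [mem_Cm, mul_def, inv_def, t, z, x4, mk_eq]; grind
  have me : e1 p ∈ Cm zc (x4 p) := by simp [mem_Cm, mul_def, inv_def, e1, z, x4, mk_eq]; grind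
  have k0 : ∀ x ∈ Cm zc (x4 p), x ∈ kT k → x ∈ H := by
    rintro _ hx ⟨a, b, c, r, rfl⟩
    have key : (2 * a = 0 ∧ 2 * b = 0) ∨ (2 * a = m2 k ∧ 2 * b = m2 k) := by
      simp [mem_Cm, mul_def, inv_def, x4, z, mk_eq, h4, h4.symm] at hx
      grind
    have ev : pr k a = 0 ∧ pr k b = 0 := key.elim (fun e => ⟨even_of_two_eq_zero e.1, even_of_two_eq_zero e.2⟩)
      fun e => ⟨even_of_two_eq_m2 e.1, even_of_two_eq_m2 e.2⟩
    have hc' : pr k c = 0 := by simpa [ev.1, ev.2] using r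
    have : T a b 0 (by simp [ev.1, ev.2]) ∈ H := by
      rcases key with ⟨r1, r2⟩ | ⟨r1, r2⟩
      · rcases p0_U r1 r2 (mul_zero _) with e | e | e | e <;> rw [e]
        exacts [one_mem H, hz, hn, hnz]
      · rcases two_eq_m2.1 r1 with rfl | rfl <;> rcases two_eq_m2.1 r2 with rfl | rfl
        exacts [by convert inv_mem hI' using 1; simp [I1', inv_def], hI, by convert inv_mem hI using 1; simp [I2, inv_def], hI']
    convert mul_mem this (p0_c hc hc' (r := by simpa using hc')) using 1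
    simp [mul_def]
  have k1 : ∀ x ∈ Cm zc (x4 p), ∀ w ∈ Cm zc (x4 p), w ∈ H → x * w ∈ H → x ∈ H := fun x _ w _ hw e =>
    (mul_mem_cancel_right hw).1 e
  have mw := mul_mem (mul_mem mt me) mt
  have hw := mul_mem (mul_mem ht he) ht
  have k2 : ∀ x ∈ Cm zc (x4 p), x ∈ kE k → x ∈ H := by
    rintro _ hx ⟨a, b, c, e, f, r, rfl⟩
    cases e <;> cases f
    · exact k0 _ hx ⟨_, _, _, _, rfl⟩
    · exact k1 _ hx _ mw hw (k0 _ (mul_mem hx mw) (by simp [mul_def, t, e1, mk_mem_kT]))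
    · exact k1 _ hx _ me he (k0 _ (mul_mem hx me) (by simp [mul_def, e1, mk_mem_kT]))
    · exact k1 _ hx _ (mul_mem me mw) (mul_mem he hw) (k0 _ (mul_mem hx (mul_mem me mw))
        (by simp [mul_def, t, e1, mk_mem_kT]))
  intro x hx
  induction x using ind with | _ a b c e f s r =>
  cases s
  · exact k2 _ hx ⟨_, _, _, _, _, _, rfl⟩
  · exact k1 _ hx _ mt ht (k2 _ (mul_mem hx mt) (by simp [mul_def, t, mk_mem_kE]))

/-- `x² = (a + b, a + b, 2 c)` for `s = true`, `e = f = false`, etc. -/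
theorem hpow {x : PM k} (h : x ^ 2 ^ (k + 1) * x ^ 2 ^ (k + 1) = 1) :
    x ^ 2 ^ (k + 1) = 1 ∨ x ^ 2 ^ (k + 1) = z k ∨ x ^ 2 ^ (k + 1) = n k ∨ x ^ 2 ^ (k + 1) = nz k := by
  have h4 := m2_ne (k := k)
  have key : ∀ a b c r, 2 * (q4 k * c) = 0 → x * x = T a b c r → x ^ 2 ^ (k + 1) = 1 ∨ x ^ 2 ^ (k + 1) = z k ∨
      x ^ 2 ^ (k + 1) = n k ∨ x ^ 2 ^ (k + 1) = nz k := fun a b c r hc e => by
    rw [pow_succ', pow_mul, sq, e, PM.pw_mk] at h ⊢
    simp only [cast_q4] at h ⊢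
    simp only [mul_def, one_def, mk_eq, sg_f, cond_false, Bool.xor_false, ← two_mul, hc, zero_add, h4.symm, and_false,
      or_false] at h
    exact p0_U h.2.1 h.2.2.1 hc
  have k4 : x * x * (x * x) = 1 → x ^ 2 ^ (k + 1) = 1 := fun e => by
    obtain ⟨j, rfl⟩ := Nat.exists_eq_succ_of_ne_zero (NeZero.ne k)
    rw [pow_succ', pow_succ', pow_mul, pow_mul, sq, sq, e, one_pow]
  induction x using ind with | _ a b c e f s r =>
  have h5 : ∀ u, 2 * (q4 k * (c + sg u c)) = 0 := fun u => by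
    rw [← mul_assoc, two_q4, m2_mul_even]
    rw [map_add, pr_sg, CharTwo.add_self_eq_zero]
  cases e <;> cases f <;> cases s
  exacts [key _ _ _ _ (h5 _) rfl, key _ _ _ _ (h5 _) rfl, key _ _ _ _ (h5 _) rfl,
    .inl (k4 (by simp [mul_def, one_def])), key _ _ _ _ (h5 _) rfl, .inl (k4 (by simp [mul_def, one_def])),
    key _ _ _ _ (h5 _) rfl, key _ _ _ _ (h5 _) rfl]

theorem a_pow : a1 k ^ 2 ^ (k + 1) = z k ∧ a3 k ^ 2 ^ (k + 1) = nz k ∧ a4 k ^ 2 ^ (k + 1) = n k := by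
  simp only [a1, a3, a4, PM.pw_mk, cast_m2]
  simp [z, n, nz, mk_eq, m2_add]

theorem p0_ne : z k ≠ 1 ∧ n k ≠ 1 ∧ nz k ≠ 1 ∧ z k ≠ n k ∧ z k ≠ nz k ∧ n k ≠ nz k ∧ y k ≠ 1 ∧ y k ≠ z k ∧ y k ≠ n k ∧
    y k ≠ nz k := by
  have h4 := m2_ne (k := k)
  simp [z, n, nz, y, one_def, mk_eq, h4, h4.symm, q4_ne, q4_ne_m2, m2_add]

theorem p0_sq : z k * z k = 1 ∧ n k * n k = 1 ∧ nz k * nz k = 1 ∧ y k * y k = 1 := by
  simp [z, n, nz, y, one_def, mul_def, mk_eq, m2_add, q4_add]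

theorem p0_comm {x x' : PM k} (h : x ∈ kT k) (h' : x' ∈ kT k) : x * x' = x' * x := by
  obtain ⟨a, b, c, r, rfl⟩ := h
  obtain ⟨a', b', c', r', rfl⟩ := h'
  simp [mul_def, add_comm]

/-- `MS.extr` gives `m : y ↦ z` defined on `C(y) ⊇ kT`; by `a_pow`, `hpow` it maps `z, n, nz` injectively to
`z, n, nz`, so `y ∈ U`. -/
theorem not_y (d : MS ι ⊤) : ¬ Cj ι g (y k) (z k) := by
  intro e
  obtain ⟨m, -, e1, r⟩ := d.extr zc.c (mem_top g) e
  have k1 : ∀ a ∈ kT k, ∀ u, a ^ 2 ^ (k + 1) = u → u * u = 1 → u ≠ 1 → u ≠ y k → Cj ι m u (n k) ∨ Cj ι m u (nz k) := by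
    rintro a ha _ rfl h1 h2 h3
    obtain ⟨x, e2⟩ := r a (p0_comm ha ⟨_, _, _, _, rfl⟩)
    have e3 := e2.pow (2 ^ (k + 1))
    rcases hpow ((e3.sq d.inj).1 h1) with f | f | f | f
    · exact absurd f (e3.ne_one d.inj h2)
    · exact absurd ((e3.eq_iff d.inj e1).2 f) h3
    · exact .inl (f ▸ e3)
    · exact .inr (f ▸ e3)
  obtain ⟨n1, n2, n3, n4, n5, n6, -, n7, n8, n9⟩ := p0_ne (k := k)
  rcases k1 _ ⟨_, _, _, _, rfl⟩ _ a_pow.1 p0_sq.1 n1 n7.symm with f1 | f1 <;>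
    rcases k1 _ ⟨_, _, _, _, rfl⟩ _ a_pow.2.1 p0_sq.2.2.1 n3 n9.symm with f2 | f2 <;>
    rcases k1 _ ⟨_, _, _, _, rfl⟩ _ a_pow.2.2 p0_sq.2.1 n2 n8.symm with f3 | f3 <;>
    first
    | exact n5 ((f1.eq_iff d.inj f2).2 rfl)
    | exact n4 ((f1.eq_iff d.inj f3).2 rfl)
    | exact n6 ((f3.eq_iff d.inj f2).2 rfl)

/-- for an involution `η ∈ kE \ kT`, the squares in `C_{kE}(η)` contain only one involution
(for `η = (a, b, 0) ε₃` they lie in `{(0, 0, c)}`) -/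
theorem sq_uniq {η p p' : PM k} (h : η ∈ kE k) (h' : η ∉ kT k) (h2 : η * η = 1) (hp : p ∈ kE k)
    (hp' : p' ∈ kE k) (c : p * η = η * p) (c' : p' * η = η * p') (s : p * p * (p * p) = 1)
    (s' : p' * p' * (p' * p') = 1) : p * p = 1 ∨ p' * p' = 1 ∨ p * p = p' * p' := by
  have h4 := m2_ne (k := k)
  suffices H : ∃ w, ∀ p ∈ kE k, p * η = η * p → p * p * (p * p) = 1 → p * p = 1 ∨ p * p = w by
    obtain ⟨w, H⟩ := H
    rcases H p hp c s with e | e
    · exact .inl e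
    · exact .inr ((H p' hp' c' s').imp_right fun e' => e.trans e'.symm)
  obtain ⟨a, b, c, e, f, r, rfl⟩ := h
  clear hp hp' s s'
  have k1 : ∀ (u : Bool) (x y : R k), 2 * x = 0 → y + sg u x ≠ x + y + m2 k := fun u x y e e' => h4 (by
    cases u <;> simp only [sg_f, sg_t] at e'
    · linear_combination -e'
    · linear_combination -e' - e)
  have k2 : ∀ (u : Bool) (b b' : R k), b' + sg u b = b + -b' → b' + sg u b' = 0 := fun u b b' e => by
    cases u <;> simp only [sg_f, sg_t] at e ⊢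
    · linear_combination e
    · ring
  cases e <;> cases f
  · exact absurd ⟨_, _, _, _, rfl⟩ h'
  all_goals
    simp only [mul_def, one_def, mk_eq, sg_f, sg_t, cond_false, Bool.xor_false, Bool.xor_self, Bool.false_xor,
      add_neg_cancel, zero_add, h4.symm, ← two_mul, and_false, false_and, or_false, true_and, and_true] at h2
  · refine ⟨n k, ?_⟩
    rintro _ ⟨a', b', c', e', f', r', rfl⟩ c1 c2
    simp only [mul_def, mk_eq, sg_f, sg_t, cond_false, Bool.false_xor, k1 _ _ _ h2, false_and, or_false] at c1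
    simp only [mul_def, one_def, mk_eq, k2 _ _ _ c1.2.2.1, k2 _ _ _ c1.2.2.2, sg_f, cond_false, Bool.xor_self, n,
      zero_add, h4.symm, ← two_mul, mul_zero, and_false, or_false, true_and, and_true, two_eq_zero] at c2 ⊢
    exact c2
  · refine ⟨nz k, ?_⟩
    rintro _ ⟨a', b', c', e', f', r', rfl⟩ c1 c2
    simp only [mul_def, mk_eq, sg_f, sg_t, cond_false, Bool.xor_false, k1 _ _ _ h2, false_and, and_false, or_false] at c1
    simp only [mul_def, one_def, mk_eq, k2 _ _ _ c1.2.1, k2 _ _ _ c1.2.2.2, sg_f, cond_false, Bool.xor_self, nz,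
      zero_add, h4.symm, ← two_mul, mul_zero, and_false, false_and, or_false, true_and, and_true, two_eq_zero] at c2 ⊢
    exact c2
  · refine ⟨z k, ?_⟩
    rintro _ ⟨a', b', c', e', f', r', rfl⟩ c1 c2
    simp only [mul_def, mk_eq, sg_f, sg_t, cond_false, Bool.xor_self, k1 _ _ _ h2, and_false, or_false] at c1
    simp only [mul_def, one_def, mk_eq, k2 _ _ _ c1.2.1, k2 _ _ _ c1.2.2.1, sg_f, cond_false, Bool.xor_self, z,
      zero_add, h4.symm, ← two_mul, mul_zero, and_false, false_and, or_false, true_and, and_true, two_eq_zero] at c2 ⊢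
    exact c2

/-- the normal four-group -/
def p0_kU (k : ℕ) : Subgroup (PM k) where
  carrier := {x | ∃ a b c h, (2 * a = 0 ∧ 2 * b = 0 ∧ 2 * c = 0) ∧ x = T a b c h}
  one_mem' := ⟨0, 0, 0, _, by simp, rfl⟩
  mul_mem' := by
    rintro _ _ ⟨_, _, _, _, h, rfl⟩ ⟨_, _, _, _, h', rfl⟩
    exact ⟨_, _, _, _, by simp [mul_add, h, h'], rfl⟩
  inv_mem' := by
    rintro _ ⟨_, _, _, _, h, rfl⟩
    exact ⟨_, _, _, _, by simp [h], rfl⟩

theorem p0_mem {x : PM k} : x ∈ p0_kU k ↔ x = 1 ∨ x = z k ∨ x = n k ∨ x = nz k := by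
  refine ⟨fun ⟨_, _, _, _, h, e⟩ => e ▸ p0_U h.1 h.2.1 h.2.2, ?_⟩
  rintro (rfl | rfl | rfl | rfl) <;> exact ⟨_, _, _, _, by simp [two_m2], rfl⟩

theorem p0_mk {a b c : R k} {e f s : Bool} {h} : mk a b c e f s h ∈ p0_kU k ↔
    (e = false ∧ f = false ∧ s = false) ∧ 2 * a = 0 ∧ 2 * b = 0 ∧ 2 * c = 0 := by
  refine ⟨fun ⟨_, _, _, _, r, e⟩ => ⟨(mk_eq.1 e).1, ?_⟩, ?_⟩
  · rcases (mk_eq.1 e).2 with ⟨rfl, rfl, rfl⟩ | ⟨rfl, rfl, rfl⟩ <;> simp [mul_add, r, two_m2]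
  · rintro ⟨⟨rfl, rfl, rfl⟩, r⟩
    exact ⟨_, _, _, _, r, rfl⟩

theorem p0_UT : p0_kU k ≤ kT k := fun _ ⟨_, _, _, _, _, e⟩ => ⟨_, _, _, _, e⟩

theorem p0_TE : kT k ≤ kE k := fun _ ⟨_, _, _, _, e⟩ => ⟨_, _, _, _, _, _, e⟩

theorem p0_EU {x u : PM k} (h : x ∈ kE k) (hu : u ∈ p0_kU k) : x * u = u * x := by
  rcases p0_mem.1 hu with rfl | rfl | rfl | rfl
  · simp
  · exact zc.c x
  · exact n_comm.2 h
  · rw [← n_z, ← mul_assoc, n_comm.2 h, mul_assoc, zc.c x, mul_assoc]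

theorem p0_inv {x : PM k} (h : x ∈ kT k) (h2 : x * x = 1) : x ∈ p0_kU k ∨ x * (y k)⁻¹ ∈ p0_kU k := by
  obtain ⟨a, b, c, r, rfl⟩ := h
  simp only [mul_def, one_def, mk_eq, sg_f, cond_false, Bool.xor_false, ← two_mul, zero_add, and_self, true_and] at h2
  refine h2.imp (fun e => ⟨_, _, _, _, e, rfl⟩) fun e => ?_
  simp [mul_def, inv_def, y, p0_mk, mul_add, e, two_q4]

theorem p0_cy {x : PM k} (h : x ∈ kE k) (e : x * y k = y k * x) : x ∈ kT k := by
  obtain ⟨a, b, c, e', f, r, rfl⟩ := h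
  have h4 := m2_ne (k := k)
  cases e' <;> cases f <;> simp [mul_def, y, mk_eq, mk_mem_kT, neg_q4, add_comm, add_left_comm, h4, h4.symm] at e ⊢

theorem p0_T_norm (u x : PM k) (h : x ∈ kT k) : u * x * u⁻¹ ∈ kT k := by
  obtain ⟨a, b, c, r, rfl⟩ := h
  induction u using ind with | _ a' b' c' e f s r' =>
  cases e <;> cases f <;> cases s <;> simp [mul_def, inv_def, mk_mem_kT]

theorem p0_cm (x : PM k) : y k * x * (y k)⁻¹ * x⁻¹ ∈ p0_kU k ∧ c4 k * x * (c4 k)⁻¹ * x⁻¹ ∈ p0_kU k ∧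
    (x ∈ kE k → T (q4 k) 0 0 (by simp) * x * (T (q4 k) 0 0 (by simp))⁻¹ * x⁻¹ ∈ p0_kU k) ∧
    (x ∉ kE k → T (q4 k) 0 0 (by simp) * x * (T (q4 k) 0 0 (by simp))⁻¹ * x⁻¹ * (y k * (c4 k)⁻¹)⁻¹ ∈ p0_kU k) := by
  have h1 := two_m2 (k := k)
  have h3 := two_q4 (k := k)
  induction x using ind with | _ a b c e f s r =>
  refine ⟨?_, ?_, fun h => ?_, fun h => ?_⟩
  · cases e <;> cases f <;> cases s <;> simp [mul_def, inv_def, y, p0_mk] <;> grind
  · cases e <;> cases f <;> cases s <;> simp [mul_def, inv_def, c4, p0_mk] <;> grind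
  · obtain rfl := mk_mem_kE.1 h
    cases e <;> cases f <;> simp [mul_def, inv_def, p0_mk] <;> grind
  · obtain rfl : s = true := by simpa [mk_mem_kE] using h
    cases e <;> cases f <;> simp [mul_def, inv_def, y, c4, p0_mk] <;> grind

/-- `alp` for `(lv1 d).ms`, `L₀ = (lv1 d).St` (elements fixing `z` and permuting `n, nz`).  Let `P` be critical,
`g` of odd order normalizing `P`.  `U ≤ P` is `L₀`-invariant (as in `Lv.mem_cr`), so is `P₁ = P ⊓ kE = C_P(n)`.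
`y, c4 ∈ P` by `Cr.rad2` with `U`; so `I₁ = y c4⁻¹ = (q, q, 0) ∈ P`; `c4' = (q, 0, 0) ∈ P` by `Cr.rad` with
`P₁ ≥ U` (`[c4', x] ∈ ⟨U, I₁⟩ ≤ P₁`, `[c4', kE] ≤ U`).  For `g' ∈ L₀` normalizing `P` the image of `y` lies in
`kT` by `sq_uniq` (the images of `c4`, `c4'` have squares `z` and `n` or `nz`), so in `y U`; hence
`T₁ = P ⊓ kT = C_P(n, y)` is invariant (`C(n, y u) = kT`).  `kT ≤ P` by `le_of_norm` and `Cr.rad2` with `T₁`.
`g` fixes `n` (`Cj.of_sq`), `U`, `y` (`Cj.chain`), so `kT` (`cen_ab`), so `P` (`cen_sc`, `C(kT) = kT`). -/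
theorem lev0 (d : MS ι ⊤) (c : GC ι Good) : All ι (lv1 d).St Good := by
  have l := lv1 d
  have L0 : ∀ g ∈ (lv1 d).St, Cj ι g (z k) (z k) ∧ (Cj ι g (n k) (n k) ∨ Cj ι g (n k) (nz k)) := fun g hg =>
    ⟨(lv1 d).Lz g hg.1, n_z (k := k) ▸ hg.2.cases⟩
  have mU : ∀ g ∈ (lv1 d).St, Mp ι g (p0_kU k) (p0_kU k) := fun g hg x hx => by
    obtain ⟨e1, e2⟩ := L0 g hg
    have m : ∀ u, Cj ι g (n k) u → u ∈ p0_kU k → ∃ y ∈ p0_kU k, Cj ι g x y := fun u e hu => by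
      have hz : z k ∈ p0_kU k := p0_mem.2 (.inr (.inl rfl))
      rcases p0_mem.1 hx with rfl | rfl | rfl | rfl
      exacts [⟨1, one_mem _, Cj.one⟩, ⟨_, hz, e1⟩, ⟨_, hu, e⟩, ⟨_, mul_mem hu hz, n_z (k := k) ▸ e.mul e1⟩]
    exact e2.elim (m _ · (p0_mem.2 (by simp))) (m _ · (p0_mem.2 (by simp)))
  have mE : ∀ g ∈ (lv1 d).St, ∀ x ∈ kE k, ∀ x', Cj ι g x x' → x' ∈ kE k := fun g hg x hx x' e => by
    obtain ⟨u, hu, e'⟩ := (mp_self_iff.2 (mp_self_iff.1 (mU g hg))).surj (p0_mem.2 (.inr (.inr (.inl rfl))))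
    exact n_comm.1 ((e.comm d.inj e').1 (p0_EU hx hu))
  have yT : y k ∈ kT k := ⟨_, _, _, _, rfl⟩
  have cT : c4 k ∈ kT k := ⟨_, _, _, _, rfl⟩
  have cT' : T (q4 k) 0 0 (by simp) ∈ kT k := ⟨_, _, _, _, rfl⟩
  refine fun P g hg a => alp l.ms c (fun P r _ g hg a o => c.cen ?_) P hg a
  obtain ⟨hz, hn⟩ := Lv.mem_cr (w := n k) ⟨l.ms, zc, fun g hg => (L0 g hg).1, n_ww⟩ r
  have hU : p0_kU k ≤ P := fun x hx => by
    rcases p0_mem.1 hx with rfl | rfl | rfl | rfl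
    exacts [one_mem _, hz, hn, n_z (k := k) ▸ mul_mem hn hz]
  have hy : y k ∈ P := r.rad2 hU (fun g hg _ => mU g hg) (fun x _ => (p0_cm x).1) fun x hx => p0_comm yT (p0_UT hx)
  have hc : c4 k ∈ P := r.rad2 hU (fun g hg _ => mU g hg) (fun x _ => (p0_cm x).2.1) fun x hx => p0_comm cT (p0_UT hx)
  have hU' : p0_kU k ≤ P ⊓ kE k := le_inf hU (p0_UT.trans p0_TE)
  have hc' : T (q4 k) 0 0 (by simp) ∈ P := r.rad (P ⊓ kE k) _ hU' inf_le_left (fun g hg a => ⟨fun x hx =>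
    (a x hx.1).imp fun x' e => ⟨⟨e.1, mE g hg x hx.2 x' e.2⟩, e.2⟩, mU g hg⟩) _ (fun x _ => by
      by_cases e : x ∈ kE k
      · exact hU' ((p0_cm x).2.2.1 e)
      · exact (mul_mem_cancel_right (inv_mem (mul_mem (show y k ∈ P ⊓ kE k from ⟨hy, p0_TE yT⟩)
          (inv_mem (show c4 k ∈ P ⊓ kE k from ⟨hc, p0_TE cT⟩))))).1 (hU' ((p0_cm x).2.2.2 e)))
    (fun x hx => (p0_cm x).2.2.1 hx.2) fun x hx => p0_comm cT' (p0_UT hx)
  have s1 : c4 k * c4 k = z k := by simp [c4, z, mul_def, q4_add]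
  have s2 : T (q4 k) 0 0 (by simp) * T (q4 k) 0 0 (by simp) = n k := by simp [n, mul_def, q4_add]
  obtain ⟨n1, n2, -, n4, -, -, n6, n7, n8, n9⟩ := p0_ne (k := k)
  have my : ∀ g ∈ (lv1 d).St, Mp ι g P P → ∃ u ∈ p0_kU k, Cj ι g (y k) (u * y k) := fun g hg a => by
    obtain ⟨y', -, e⟩ := a _ hy
    obtain ⟨p, -, e1⟩ := a _ hc
    obtain ⟨p', -, e2⟩ := a _ hc'
    have y2 := (e.sq d.inj).1 p0_sq.2.2.2
    have f1 := e1.mul e1
    have f2 := e2.mul e2
    rw [s1] at f1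
    rw [s2] at f2
    have hT : y' ∈ kT k := by_contra fun nT => by
      rcases sq_uniq (mE g hg _ (p0_TE yT) _ e) nT y2 (mE g hg _ (p0_TE cT) _ e1) (mE g hg _ (p0_TE cT') _ e2)
        ((e1.comm d.inj e).1 (p0_comm cT yT)) ((e2.comm d.inj e).1 (p0_comm cT' yT)) ((f1.sq d.inj).1 p0_sq.1)
        ((f2.sq d.inj).1 p0_sq.2.1) with f | f | f
      exacts [f1.ne_one d.inj n1 f, f2.ne_one d.inj n2 f, n4 ((f1.eq_iff d.inj f2).2 f)]
    refine ⟨_, (p0_inv hT y2).resolve_left fun f => ?_, by simpa using e⟩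
    have := p0_mem.1 ((mU _ (inv_mem hg)).mem d.inj f e.symm)
    tauto
  have mT : ∀ g ∈ (lv1 d).St, Mp ι g P P → Mp ι g (P ⊓ kT k) (P ⊓ kT k) := fun g hg a x hx =>
    (a x hx.1).imp fun x' e => ⟨⟨e.1, by
      obtain ⟨u, hu, e'⟩ := my g hg a
      have hE := mE g hg x (p0_TE hx.2) x' e.2
      have := (e.2.comm d.inj e').1 (p0_comm hx.2 yT)
      rw [← mul_assoc, p0_EU hE hu, mul_assoc, mul_assoc, mul_right_inj] at this
      exact p0_cy hE this⟩, e.2⟩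
  have hT : kT k ≤ P := le_of_norm d p0_T_norm fun x hx h => r.rad2 inf_le_left mT (fun p hp =>
    mem_inf.2 ⟨mul_mem (h p hp) (inv_mem hp), by
      rw [mul_assoc, mul_assoc, ← mul_assoc p]; exact mul_mem hx (p0_T_norm p _ (inv_mem hx))⟩)
    fun p hp => p0_comm hx hp.2
  obtain ⟨e1, e2⟩ := L0 g hg
  have e3 : Cj ι g (n k) (n k) := e2.elim id fun e => Cj.of_sq o (e.trans ((e.mul e1).cast n_z p0_nz.2.2))
  have fU : ∀ u ∈ p0_kU k, Cj ι g u u := fun u hu => by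
    rcases p0_mem.1 hu with rfl | rfl | rfl | rfl
    exacts [Cj.one, e1, e3, n_z (k := k) ▸ e3.mul e1]
  have fy : Cj ι g (y k) (y k) := by
    obtain ⟨u, hu, e⟩ := my g hg a
    exact e.chain d o (fU u hu)
  have mT' := mT g hg a
  rw [inf_eq_right.2 hT] at mT'
  intro x hx
  obtain ⟨x', -, e⟩ := a x hx
  exact cen_sc d o (A := kT k) (fun _ => cen_ab d o mT' (fun _ h _ h' => p0_comm h h') fun x hx h2 =>
    (p0_inv hx h2).elim (fU x) fun f => by simpa using (fU _ f).mul fy)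
    (fun x h => p0_cy (n_comm.1 (h _ ⟨_, _, _, _, rfl⟩)) (h _ yT)) e fun a ha => by simpa using p0_T_norm x⁻¹ a ha

end Cfsg.Agent.L4F.P
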