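import Mathlib
import Cfsg.Agent.L4F.P0

/-! Fusion on `PM k`: the automorphisms of order 3 in `C(z)`.  Notation as in `L4F/P0`. -/

set_option autoImplicit false
set_option linter.unusedSectionVars false

namespace Cfsg.Agent.L4F.P

open Subgroup Cfsg Cfsg.Agent.BF Cfsg.Agent.TT Cfsg.Agent.GHO Cfsg.Agent.P4T Cfsg.Agent.Gold
  Cfsg.Agent.PLocal.Amb PM

variable {k : ℕ} [NeZero k] {G : Type*} [Group G] [Finite G] {ι : PM k →* G} {g : G}
  {Good : Subgroup (PM k) → G → Prop}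

namespace PB

/-- the cyclic subgroup of `Q₁` -/
def kA (k : ℕ) : Subgroup (PM k) where
  carrier := {x | ∃ a h, x = T a a 0 h}
  one_mem' := ⟨0, _, rfl⟩
  mul_mem' := by
    rintro _ _ ⟨a, _, rfl⟩ ⟨b, _, rfl⟩
    exact ⟨a + b, by simp [CharTwo.add_self_eq_zero], by simp [mul_def]⟩
  inv_mem' := by
    rintro _ ⟨a, _, rfl⟩
    exact ⟨-a, by simp [CharTwo.add_self_eq_zero], by simp [inv_def]⟩

/-- the group `Z` -/
def kZ (k : ℕ) : Subgroup (PM k) where
  carrier := {x | ∃ c h, x = T 0 0 c h}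
  one_mem' := ⟨0, _, rfl⟩
  mul_mem' := by
    rintro _ _ ⟨a, h, rfl⟩ ⟨b, h', rfl⟩
    exact ⟨a + b, by simp_all, by simp [mul_def]⟩
  inv_mem' := by
    rintro _ ⟨a, h, rfl⟩
    exact ⟨-a, by simp_all, by simp [inv_def]⟩

theorem genA {H : Subgroup (PM k)} (h : a1 k ∈ H) : kA k ≤ H := by
  rintro _ ⟨a, _, rfl⟩
  convert pow_mem h a.val using 1
  simp [a1, PM.pw_mk]

theorem genZ {H : Subgroup (PM k)} (h : c0 k ∈ H) : kZ k ≤ H := by
  rintro _ ⟨c, hc, rfl⟩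
  obtain ⟨a, rfl⟩ := pr_eq_zero.1 (by simpa using hc)
  convert pow_mem h a.val using 1
  simp [c0, PM.pw_mk, mul_comm]

theorem memA {a b c : R k} {h} (h1 : a = b) (h2 : 2 * c = 0) : T a b c h ∈ kA k := by
  subst h1
  rcases two_eq_zero.1 h2 with rfl | rfl
  · exact ⟨a, _, rfl⟩
  · exact ⟨a + m2 k, by simp [CharTwo.add_self_eq_zero], by simp [mk_eq, add_assoc, m2_add]⟩

theorem memZ {a b c : R k} {h} (h1 : a = b) (h2 : 2 * a = 0) : T a b c h ∈ kZ k := by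
  subst h1
  rcases two_eq_zero.1 h2 with rfl | rfl
  · exact ⟨c, _, rfl⟩
  · exact ⟨c + m2 k, by simpa using h, by simp [mk_eq, add_assoc, m2_add]⟩

theorem commA : ∀ x ∈ kA k, ∀ y ∈ kA k, x * y = y * x := by
  rintro _ ⟨a, _, rfl⟩ _ ⟨b, _, rfl⟩
  simp [mul_def, add_comm]

theorem commZ : ∀ x ∈ kZ k, ∀ y ∈ kZ k, x * y = y * x := by
  rintro _ ⟨a, _, rfl⟩ _ ⟨b, _, rfl⟩
  simp [mul_def, add_comm]

theorem invA : ∀ x ∈ kA k, x * x = 1 → x = 1 ∨ x = z k := by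
  rintro _ ⟨a, _, rfl⟩ h
  have := m2_ne (k := k)
  simp [mul_def, one_def, mk_eq, this.symm] at h
  rcases two_eq_zero.1 (two_mul a ▸ h) with rfl | rfl
  · exact .inl rfl
  · exact .inr (by simp [z, mk_eq, m2_add])

theorem invZ : ∀ x ∈ kZ k, x * x = 1 → x = 1 ∨ x = z k := by
  rintro _ ⟨a, _, rfl⟩ h
  have := m2_ne (k := k)
  simp [mul_def, one_def, mk_eq, this.symm] at h
  rcases two_eq_zero.1 (two_mul a ▸ h) with rfl | rfl
  · exact .inl rfl
  · exact .inr rfl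

theorem odd_ne {a : R k} (h : pr k a = 1) : 2 * a ≠ 0 ∧ 2 * a ≠ m2 k :=
  ⟨fun e => by rw [even_of_two_eq_zero e] at h; exact absurd h (by decide),
    fun e => by rw [even_of_two_eq_m2 e] at h; exact absurd h (by decide)⟩

theorem L1 {x : PM k} (h : x * x = z k) (h' : x ∉ kE k) : ∃ a b c e h, x = mk a b c e e true h := by
  induction x using ind with | _ a b c e f s r =>
  cases e <;> cases f <;> cases s <;> simp [mk_mem_kE, mul_def, z, mk_eq] at h h' <;>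
    exact ⟨_, _, _, _, _, rfl⟩

theorem L2 {X : PM k} {a b c : R k} {e : Bool} {r} (h : X ∈ kE k) (h1 : X ^ 2 ^ (k + 1) = z k)
    (h2 : mk a b c e e true r * X * (mk a b c e e true r)⁻¹ = X⁻¹) : X ∈ kT k := by
  obtain ⟨α, β, γ, e', f', r', rfl⟩ := h
  have := m2_ne (k := k)
  have h3 : mk a b c e e true r * (mk α β γ e' f' false r' * mk α β γ e' f' false r') *
      (mk a b c e e true r)⁻¹ = (mk α β γ e' f' false r' * mk α β γ e' f' false r')⁻¹ := by
    rw [mul_inv_rev, ← h2]; group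
  rw [pow_succ', pow_mul, sq] at h1
  cases e' <;> cases f'
  · exact ⟨_, _, _, _, rfl⟩
  · simp [mul_def, PM.pw_mk, z, mk_eq, this, this.symm, m2_add] at h1
  · simp [mul_def, PM.pw_mk, z, mk_eq, this, this.symm, m2_add] at h1
  · exfalso
    have h4 : 2 * (2 * γ) = 0 := by
      cases e <;> simp [mul_def, inv_def, mk_eq, this, this.symm] at h3 <;> linear_combination h3
    simp [mul_def, PM.pw_mk, z, mk_eq, this.symm] at h1
    exact this (by rw [← h1, ← two_mul, ← mul_assoc, ← pow_succ]; exact m2_mul_even (even_of_four h4))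

theorem L3 {X : PM k} {a b c a' b' c' : R k} {e : Bool} {r r'} (h : X ∈ kT k)
    (h1 : X ^ 2 ^ (k + 1) = z k)
    (h2 : mk a b c true true true r * X * (mk a b c true true true r)⁻¹ = X⁻¹)
    (h3 : mk a' b' c' e e true r' * X = X * mk a' b' c' e e true r') :
    e = false ∧ ∃ α h, pr k α = 1 ∧ X = T α α 0 h := by
  obtain ⟨α, β, γ, r'', rfl⟩ := h
  have := m2_ne (k := k)
  have o : pr k α = 1 := by
    rw [PM.pw_mk, cast_m2, z, mk_eq] at h1
    rcases h1.2 with ⟨h1, h2, h3⟩ | ⟨h1, -⟩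
    · simp only [m2_mul, ite_eq_left_iff, this, imp_false, not_not, ite_eq_right_iff, this.symm] at h1 h2 h3
      simp [h1, h2, h3] at r''
    · refine (pr_cases α).resolve_left fun e => this ?_
      rw [← zero_add (m2 k), ← h1, m2_mul_even e]
  obtain ⟨o1, o2⟩ := odd_ne o
  simp [mul_def, inv_def, mk_eq] at h2
  have key : e = false ∧ α = β ∧ 2 * γ = 0 := by
    cases e <;> simp [mul_def, mk_eq, this, this.symm, add_comm] at h3
    · refine ⟨rfl, h3.1.symm, ?_⟩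
      rcases h2 with h2 | h2
      · linear_combination h2.2.2
      · exact absurd (by linear_combination -h2.1 - h3.1) this
    · rcases h2 with h2 | h2
      · exact absurd (by linear_combination -h2.1 - h3.1) o1
      · exact absurd (by linear_combination h2.1 - h3.1) o2
  obtain ⟨e1, rfl, e3⟩ := key
  refine ⟨e1, ?_⟩
  rcases two_eq_zero.1 e3 with rfl | rfl
  · exact ⟨α, _, o, rfl⟩
  · exact ⟨α + m2 k, by simp [CharTwo.add_self_eq_zero], by simpa using o,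
      by simp [mk_eq, add_assoc, m2_add]⟩

theorem LZ {u : PM k} {a b c a' b' c' : R k} {r r'} (h : u ∈ kT k)
    (h1 : u * mk a b c true true true r = mk a b c true true true r * u)
    (h2 : u * mk a' b' c' false false true r' = mk a' b' c' false false true r' * u) : u ∈ kZ k := by
  obtain ⟨α, β, γ, r'', rfl⟩ := h
  have := m2_ne (k := k)
  simp [mul_def, mk_eq, this, this.symm, add_comm] at h1 h2
  exact memZ h2.1 (by linear_combination h1.1 + h2.1)

theorem L4 {u : PM k} {α : R k} {r} (h : u ∈ kE k) (o : 2 * α ≠ 0)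
    (h1 : u * T α α 0 r = T α α 0 r * u) : u ∈ kT k := by
  obtain ⟨a, b, c, e, f, r', rfl⟩ := h
  have := m2_ne (k := k)
  cases e <;> cases f <;> simp [mul_def, mk_eq, this, this.symm, add_comm] at h1
  · exact ⟨_, _, _, _, rfl⟩
  · exact absurd (by linear_combination -h1) o
  · exact absurd (by linear_combination -h1) o
  · exact absurd (by linear_combination -h1.1) o

theorem L5 {a b c : R k} {r} (h : mk a b c false false true r * mk a b c false false true r = z k) :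
    (∃ τ ∈ kT k, τ * mk a b c false false true r * τ⁻¹ = K2 k) ∨
      ∀ u ∈ kZ k, u * u = z k → ∃ τ, τ * (mk a b c false false true r * u) * τ⁻¹ = t k := by
  have := m2_ne (k := k)
  simp [mul_def, z, mk_eq, m2_add] at h
  rcases h with ⟨h1, -, h2⟩ | ⟨h1, -, h2⟩
  · right
    rintro _ ⟨γ, r', rfl⟩ hu
    simp [mul_def, z, mk_eq, this.symm] at hu
    rcases two_eq_zero.1 (show 2 * (c + γ) = 0 by linear_combination h2 + hu + m2_add) with e | e
    · refine ⟨T (-a) 0 (-a) (by simp [CharTwo.add_self_eq_zero]), ?_⟩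
      simp [mul_def, inv_def, t, mk_eq, e]
      exact .inl (by linear_combination h1)
    · refine ⟨T (m2 k - a) 0 (m2 k - a) (by simp [CharTwo.add_self_eq_zero]), ?_⟩
      simp [mul_def, inv_def, t, mk_eq, this]
      exact ⟨by linear_combination h1 - m2_add, by linear_combination e⟩
  · left
    rcases two_eq_zero.1 (two_mul c ▸ h2) with rfl | rfl
    · refine ⟨T (-a) 0 (-a) (by simp [CharTwo.add_self_eq_zero]), ⟨_, _, _, _, rfl⟩, ?_⟩
      simp [mul_def, inv_def, K2, mk_eq]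
      exact .inl (by linear_combination h1)
    · refine ⟨T (m2 k - a) 0 (m2 k - a) (by simp [CharTwo.add_self_eq_zero]), ⟨_, _, _, _, rfl⟩, ?_⟩
      simp [mul_def, inv_def, K2, mk_eq, this]
      linear_combination h1 - h2

theorem L6 {a b c : R k} {r} (h : mk a b c true true true r * mk a b c true true true r = z k)
    (h1 : mk a b c true true true r * K2 k = K2 k * mk a b c true true true r) :
    ∃ u ∈ kA k, mk a b c true true true r = u * j1 k := by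
  have := m2_ne (k := k)
  simp [mul_def, z, K2, mk_eq, m2_add, this, this.symm] at h h1
  rcases h with h | h
  · exact absurd (by linear_combination -h1.2 - h.1) this
  · obtain rfl := h1.2
    refine ⟨T (m2 k + a) (m2 k + a) c (by simpa [CharTwo.add_self_eq_zero] using r),
      memA rfl (by linear_combination h.2.2), ?_⟩
    simp [mul_def, j1, mk_eq]
    exact .inl (by linear_combination -m2_add)

theorem L7 {α : R k} {r} (o : pr k α = 1) {N : PM k} (hN : Eqv (z k) N (n k)) :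
    T α α 0 r ^ 2 ^ k * N = I2 k ∨ T α α 0 r ^ 2 ^ k * N = (I2 k)⁻¹ := by
  rw [PM.pw_mk, cast_q4]
  have := two_eq_m2.1 (show 2 * (q4 k * α) = m2 k by rw [← mul_assoc, two_q4, m2_mul_odd o])
  rw [Eqv, n_z] at hN
  rcases hN with rfl | rfl <;> rcases this with e | e <;>
    simp [e, n, nz, I2, mul_def, inv_def, mk_eq, neg_q4, add_assoc, add_left_comm (m2 k), m2_add, neg_m2]

theorem L8 {u : PM k} (h1 : u * I1' k = I1' k * u) (h2 : u * I2 k = I2 k * u) : u ∈ kT k := by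
  induction u using ind with | _ a b c e f s r =>
  have := m2_ne (k := k)
  have := q4_ne_neg (k := k)
  cases e <;> cases f <;> cases s <;>
    simp [mul_def, I1', I2, mk_eq, mk_mem_kT, add_comm, *] at h1 h2 ⊢ <;> simp_all

theorem comm_N {x N : PM k} (h : Eqv (z k) N (n k)) : x * N = N * x ↔ x ∈ kE k := by
  rcases h with rfl | rfl
  · exact n_comm
  · rw [← n_comm, ← mul_assoc, mul_assoc (n k), ← zc.c x, ← mul_assoc, mul_left_inj]

theorem cyc {x y w : PM k} (xy : Cj ι g x y) (yw : Cj ι g y w) (wx : Cj ι g w x) (m : ℕ) :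
    Cj ι (g ^ 4 ^ m) x y := xy.pow4 (yw.trans (wx.trans xy)) m

theorem fixC {A : Subgroup (PM k)} {u x : PM k} (a : Mp ι g A A) (hu : u ∈ A) (e : Cj ι g x (u * x))
    (m : ℕ) : ∃ u' ∈ A, Cj ι (g ^ m) x (u' * x) := by
  induction m with
  | zero => exact ⟨1, one_mem _, by simpa using Cj.refl x⟩
  | succ m ih =>
    obtain ⟨v, hv, e1⟩ := ih
    obtain ⟨v', hv', e2⟩ := a v hv
    exact ⟨v' * u, mul_mem hv' hu, by rw [pow_succ', mul_assoc]; exact e1.trans (e2.mul e)⟩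

theorem mp1 {P P' : Subgroup (PM k)} {x y : PM k} (e : Cj ι g x y) (n : ∀ {H}, x ∈ H → P ≤ H)
    (hy : y ∈ P') : Mp ι g P P' :=
  Rz.mp (s := [(x, y)]) (by simpa [Rz] using e) (fun _ h => n (h (x, y) (by simp))) (by simpa using hy)

theorem fixA (d : MS ι ⊤) {A : Subgroup (PM k)} (c : ∀ x ∈ A, ∀ y ∈ A, x * y = y * x)
    (i : ∀ x ∈ A, x * x = 1 → x = 1 ∨ x = z k) (hz : Cj ι g (z k) (z k)) (a : Mp ι g A A) {m : ℕ}
    (o : Odd (orderOf (g ^ m))) {x : PM k} (hx : x ∈ A) : Cj ι (g ^ m) x x :=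
  cen_ab d o (a.pow m) c (fun x hx h => by
    rcases i x hx h with rfl | rfl
    exacts [Cj.one, hz.gpow m]) hx

/-- the extremal element -/
structure H (ι : PM k →* G) (g : G) : Prop where intro ::
  hz : Cj ι g (z k) (z k)
  ht : To ι (z k) g (t k) (n k)
  hm : Mp ι g (Cm zc (t k)) ⊤

theorem cjz (κ : PM k) : Cj ι (ι κ) (z k) (z k) := Cj.of' (by rw [zc.c, mul_inv_cancel_right])

theorem H.mul (h : H ι g) (κ : PM k) : H ι (ι κ * g) :=
  ⟨h.hz.trans (cjz κ), h.ht.trans zc (cjz κ) ⟨_, n_ww κ, Cj.of κ _⟩,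
    h.hm.trans (Mp.of fun _ _ => trivial)⟩

theorem H.flag (d : MS ι ⊤) (h : H ι g) {x : PM k} (h1 : x * x = z k)
    (h2 : x * t k * x⁻¹ = t k * z k) : ∃ a b c e r, Cj ι g x (mk a b c e e true r) := by
  obtain ⟨x', -, e⟩ := h.hm x (.inr h2)
  obtain ⟨N, hN, eN⟩ := h.ht
  obtain ⟨a, b, c, e', r, rfl⟩ := L1 (((e.mul e).cast h1 rfl).uq d.inj h.hz) fun hE => by
    rw [(e.comm d.inj eN).2 ((comm_N hN).2 hE), mul_inv_cancel_right, left_eq_mul] at h2
    have := m2_ne (k := k)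
    simp [z, one_def, mk_eq, this, this.symm] at h2
  exact ⟨a, b, c, e', r, e⟩

theorem H.inE (d : MS ι ⊤) (h : H ι g) {x : PM k} (h1 : x * t k = t k * x) :
    ∃ x' ∈ kE k, Cj ι g x x' := by
  obtain ⟨x', -, e⟩ := h.hm x (.inl (by rw [h1, mul_inv_cancel_right]))
  obtain ⟨N, hN, eN⟩ := h.ht
  exact ⟨x', (comm_N hN).1 ((e.comm d.inj eN).1 h1), e⟩

theorem I2_sq : I2 k * I2 k = z k := by
  simp [I2, z, mul_def, mk_eq, m2_add]
  exact .inr ⟨by linear_combination two_q4, by linear_combination -two_q4 - m2_add⟩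

theorem j1_sq : j1 k * j1 k = z k := by simp [j1, z, mul_def, mk_eq, m2_add, neg_m2]

theorem H.core (d : MS ι ⊤) (h : H ι g) {a b c : R k} {r}
    (hJ : Cj ι g (j1 k) (mk a b c true true true r)) :
    (∃ α r, pr k α = 1 ∧ Cj ι g (a1 k) (T α α 0 r)) ∧
      (∃ a b c r, Cj ι g (I2 k) (mk a b c false false true r)) ∧ Mp ι g (kZ k) (kZ k) := by
  obtain ⟨X, hX, eX⟩ := h.inE d (x := a1 k) (by simp [a1, t, mul_def])
  obtain ⟨C, hC, eC⟩ := h.inE d (x := c0 k) (by simp [c0, t, mul_def])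
  obtain ⟨a', b', c', e, r', eI⟩ := h.flag d I2_sq (by
    simp [I2, t, z, mul_def, inv_def, mk_eq, m2_add]
    exact .inr ⟨by linear_combination two_q4, by linear_combination -two_q4 - m2_add⟩)
  have h1 := ((eX.pow _).cast a_pow.1 rfl).uq d.inj h.hz
  have h2 := ((hJ.conj eX).cast (by simp [j1, a1, mul_def, inv_def]) rfl).uq d.inj eX.inv
  obtain ⟨rfl, α, rα, o, rfl⟩ := L3 (L2 hX h1 h2) h1 h2
    ((eI.comm d.inj eX).1 (by simp [I2, a1, mul_def, add_comm]))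
  refine ⟨⟨α, rα, o, eX⟩, ⟨_, _, _, _, eI⟩, mp1 eC genZ (LZ (L4 hC (odd_ne o).1
    ((eC.comm d.inj eX).1 ?_)) ((eC.comm d.inj hJ).1 ?_) ((eC.comm d.inj eI).1 ?_))⟩ <;>
    simp [c0, a1, j1, I2, mul_def]

theorem H.toK (d : MS ι ⊤) (hn : ∃ g, Cj ι g (n k) (z k)) (h : H ι g) {a b c : R k} {r}
    (hJ : Cj ι g (j1 k) (mk a b c true true true r)) : ∃ τ ∈ kT k, Cj ι (ι τ * g) (I2 k) (K2 k) := by
  obtain ⟨-, ⟨a', b', c', r', eI⟩, mZ⟩ := h.core d hJ
  rcases L5 (((eI.mul eI).cast I2_sq rfl).uq d.inj h.hz) with ⟨τ, hτ, e⟩ | e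
  · exact ⟨τ, hτ, eI.trans (Cj.of' e)⟩
  obtain ⟨u, hu, eu⟩ := mZ (c4 k) ⟨_, _, rfl⟩
  obtain ⟨τ, e⟩ := e u hu (((eu.mul eu).cast (by simp [c4, z, mul_def, ← two_mul, two_q4]) rfl).uq
    d.inj h.hz)
  have e0 : Cj ι (ι (e1 0)) (y k) (I2 k * c4 k) := Cj.of' (by
    simp [e1, y, I2, c4, mul_def, inv_def, mk_eq, neg_q4, add_assoc, m2_add])
  have e1 := (e0.trans (eI.mul eu)).trans (Cj.of' e)
  obtain ⟨g', e2⟩ := hn
  rcases h.ht.cases with e3 | e3
  · exact absurd ((e1.trans e3).trans e2) (not_y d)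
  · exact absurd (((e1.trans e3).trans (Cj.of' (k := t k) (by
      rw [n_z]; simp [nz, n, t, mul_def, inv_def]))).trans e2) (not_y d)

theorem JI : J2 k * I2 k = K2 k := by
  simp [I2, J2, K2, mul_def, ← two_mul, two_q4]

theorem IK : I2 k * K2 k = J2 k := by
  simp [I2, J2, K2, mul_def, mk_eq]
  exact .inl (by linear_combination -two_q4)

theorem H.fin (d : MS ι ⊤) (h : H ι g) {a b c : R k} {r}
    (hJ : Cj ι g (j1 k) (mk a b c true true true r)) (eI : Cj ι g (I2 k) (K2 k))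
    (eJ : Cj ι g (J2 k) (I2 k)) : ∃ g, Rz ι g (lφ k) := by
  obtain ⟨⟨α, rα, -, eX⟩, -, mZ⟩ := h.core d hJ
  have mA : Mp ι g (kA k) (kA k) := mp1 eX genA ⟨_, _, rfl⟩
  obtain ⟨u, hu, e⟩ := L6 (((hJ.mul hJ).cast j1_sq rfl).uq d.inj h.hz) ((hJ.comm d.inj eI).1 (by
    simp [I2, j1, mul_def, add_comm]))
  obtain ⟨m, o⟩ := exists_odd_pow g
  obtain ⟨u', hu', e'⟩ := fixC mA hu (e ▸ hJ) (4 ^ m)
  have eK := (eJ.mul eI).cast JI IK
  refine ⟨g ^ 4 ^ m, ?_⟩
  simp only [Rz, lφ, List.forall_mem_cons, List.not_mem_nil, false_imp_iff, implies_true, and_true]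
  exact ⟨h.hz.gpow _, fixA d commA invA h.hz mA o ⟨_, _, rfl⟩,
    e'.chain d o (fixA d commA invA h.hz mA o hu'), fixA d commZ invZ h.hz mZ o ⟨_, _, rfl⟩,
    cyc eJ eI eK m, cyc eI eK eJ m⟩

theorem H.fin2 (d : MS ι ⊤) (h : H ι g) {a b c : R k} {r}
    (hJ : Cj ι g (j1 k) (mk a b c true true true r)) (eI : Cj ι g (I2 k) (K2 k)) :
    ∃ g, Rz ι g (lφ k) := by
  obtain ⟨⟨α, rα, o, eX⟩, -⟩ := h.core d hJ
  obtain ⟨N, hN, eN⟩ := h.ht
  have eJ := ((eX.pow (2 ^ k)).mul eN).cast (x' := J2 k) (by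
    rw [a1, PM.pw_mk, cast_q4]; simp [t, J2, mul_def]) rfl
  rcases L7 o hN with e | e <;> rw [e] at eJ
  · exact h.fin d hJ eI eJ
  · exact (h.mul (K2 k)).fin d (hJ.trans (Cj.of _ _)) (eI.trans (Cj.of' (by group)))
      (eJ.trans (Cj.of' (by simp [K2, I2, mul_def, inv_def])))

theorem H.fin3 (d : MS ι ⊤) (hn : ∃ g, Cj ι g (n k) (z k)) (h : H ι g) {a b c : R k} {r}
    (hJ : Cj ι g (j1 k) (mk a b c true true true r)) : ∃ g, Rz ι g (lφ k) := by
  obtain ⟨_, ⟨α, β, γ, r', rfl⟩, e⟩ := h.toK d hn hJ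
  exact (h.mul _).fin2 d (hJ.trans (Cj.of _ _)) e

theorem cjE {E x y x' y' : PM k} (e : Cj ι g x y) (h1 : E * x' * E⁻¹ = x) (h2 : E * y * E⁻¹ = y') :
    Cj ι (ι E * (g * ι E)) x' y' := ((Cj.of' h1).trans e).trans (Cj.of' h2)

theorem cjE' {E x y : PM k} (hE : E * E = 1) (h : E * x * E⁻¹ = y) : E * y * E⁻¹ = x := by
  rw [← h, ← mul_assoc, ← mul_assoc, hE, mul_assoc, ← mul_inv_rev, hE]; simp

theorem comE (i : Function.Injective ι) {E w x y x' y' : PM k} (e : Cj ι g E w) (a : Cj ι g x y)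
    (b : Cj ι g x' y') (h1 : E * x * E⁻¹ = x') (h2 : E * y * E⁻¹ = y') :
    w * E⁻¹ * y' = y' * (w * E⁻¹) := by
  have := ((e.conj a).cast h1 rfl).uq i b
  rw [← mul_inv_eq_iff_eq_mul]
  refine Eq.trans ?_ this
  rw [← h2]; group

end PB

open PB

/-- `Lv.extr'` gives `ψ ∈ C(z)` on `Cm t = Q₁ ∘ ⟨I2, J2⟩ ∘ Z` with `t ↦ n` or `nz`.  `X = ψ a1 ∈ kE`,
`X ^ 2 ^ (k+1) = z`.  `ψ j1` and `ψ I2` do not commute with `ψ t` (`j1 t j1⁻¹ = I2 t I2⁻¹ = t z`), so `s = true`, and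
have square `z`, so `e = f`.  `ψ j1` inverts `X`, `ψ I2` centralizes `X`.  `X ∈ kT`: otherwise `X = (a, b, c) ε₃` with
`c` odd (for `ε₁, ε₂` the power is `1, n, nz`), and `X² = (0, 0, 2 c)` is centralized and inverted by `ψ j1`.
Compose with `e1 0` if necessary so that `ψ j1` has `e = f = true`; then `ψ I2` has `e = f = false` (else it
inverts `X`), `X = (α, α, 0)` with `α` odd.  `ψ c0` centralizes `n`, `a1` (`unit_of_odd`), `ψ j1`, `ψ I2`, so it is
`(0, 0, c)`.  `ψ J2 = ψ I₁ ψ t = I2 ^ (± 1)`.  `ψ I2 = (a, h - a, 0) t` or `(a, -a, ± q) t`; in the second case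
`ψ (I2 c4) = (a, -a, 0 or h) t ~ t ~ n ~ z`, while `I2 c4 ~ y`: `not_y`.  `ψ j1` has square `z` and commutes with
`ψ I2`, so `ψ j1 = a1 ^ i * j1` (the other type `(a, a, ± q) ε₃ t` does not commute).  Compose with conjugation by
`(c, 0, c)` to get `ψ I2 = K2`, then with `K2` (centralizes `Q₁ Z`, inverts `I2`) to get `ψ J2 = I2`; then
`ψ K2 = I2 K2 = J2`.  `g = ψ ^ 4 ^ m` of odd order (`exists_odd_pow`, `Cj.pow4`) normalizes `⟨a1⟩`, `⟨c0⟩`, `Q₁`
(`Mp.pow`), so fixes `a1`, `c0` (`cen_cyc` or `cen_ab`) and `j1` (`Cj.chain`). -/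
theorem exists_φ (d : MS ι ⊤) (hn : ∃ g, Cj ι g (n k) (z k)) (h1 : Cj ι g (z k) (z k))
    (h2 : To ι (z k) g (t k) (n k)) : ∃ g, Rz ι g (lφ k) := by
  obtain ⟨ψ, a1, a2, a3⟩ := (lv1 d).extr' (cj_self.1 h1) h2
  have h : H ι ψ := ⟨cj_self.2 a1, a2, a3⟩
  obtain ⟨a, b, c, e, r, hJ⟩ := h.flag d j1_sq (by
    simp [j1, t, z, mul_def, inv_def, mk_eq, m2_add, neg_m2])
  cases e
  · exact (h.mul (e1 0)).fin3 d hn (hJ.trans (Cj.of _ _))
  · exact h.fin3 d hn hJ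

/-- `φ' = ι (e1 p) φ (ι (e1 p))⁻¹` maps `J1 p ↦ I1' ↦ K1 p` and centralizes `Q₂ = (e1 p) Q₁ (e1 p)` and `c0`; `φ`
centralizes `Q₁ ∋ J1 p, K1 p, I1'` (`Fix`, powers of `a1` times `j1`).  `m = φ φ'` realizes the first six pairs,
is defined on `P₀ = closure {J1 p, I1', J2, I2, c0} ≤ Cm (x4 p)` and maps `x4 p = J1 p * J2` to `nz = n z`.
`Lv.ext` (with `lev0 d (gc_sc d.inj)`) gives `ψ` agreeing with `m` on `P₀` and defined on `e1 p ↦ w`.  The action
on `P₀` commutes with conjugation by `e1 p` (it swaps `J1 p ↔ J2`, `I1' ↔ I2`, `K1 p ↔ K2`), so `w (e1 p)⁻¹`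
centralizes `I1', I2, K1 p, K2` (`Cj.conj`, `Cj.uq`), hence is `u = (0, 0, c)`, a power of `c0`, fixed by `ψ`.
`ψ ^ 4 ^ j` of odd order (`exists_odd_pow`, `Cj.pow4`; `ψ ^ i` maps `e1 p` to `u ^ i * e1 p`; `Cj.chain`). -/
theorem exists_l4 (d : MS ι ⊤) (h : ∃ g, Rz ι g (lφ k)) (p : R k) : ∃ g, Rz ι g (l4 p) := by
  obtain ⟨φ, h⟩ := h
  simp only [Rz, lφ, List.forall_mem_cons, List.not_mem_nil, false_imp_iff, implies_true, and_true] at h
  obtain ⟨hz, ha, hj, hc, hJ, hI⟩ := h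
  have hK := (hJ.mul hI).cast JI IK
  have fA : ∀ x ∈ PB.kA k, Cj ι φ x x := genA (H := Fix ι φ) ha
  have ev : ∀ a : R k, pr k (a + a + 0) = 0 := by simp [CharTwo.add_self_eq_zero]
  have f1 : Cj ι φ (I1' k) (I1' k) := fA _ ⟨_, _, rfl⟩
  have r2 : T (q4 k + p) (q4 k + p) 0 (ev _) * j1 k = J1 p := by
    simp [j1, J1, mul_def, mk_eq]
    exact .inl (by linear_combination two_q4 + m2_add)
  have r3 : T (m2 k + p) (m2 k + p) 0 (ev _) * j1 k = K1 p := by
    simp [j1, K1, mul_def, mk_eq]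
    exact .inl (by linear_combination m2_add)
  have f2 := ((fA _ ⟨_, _, rfl⟩).mul hj).cast r2 r2
  have f3 := ((fA _ ⟨_, _, rfl⟩).mul hj).cast r3 r3
  have hE : e1 p * e1 p = 1 := by simp [e1, mul_def, one_def]
  have s1 : e1 p * J2 k * (e1 p)⁻¹ = J1 p := by simp [e1, J1, J2, mul_def, inv_def, sub_eq_add_neg]
  have s2 : e1 p * I2 k * (e1 p)⁻¹ = I1' k := by simp [e1, I1', I2, mul_def, inv_def]
  have s3 : e1 p * K2 k * (e1 p)⁻¹ = K1 p := by simp [e1, K1, K2, mul_def, inv_def]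
  have s4 : e1 p * c0 k * (e1 p)⁻¹ = (c0 k)⁻¹ := by simp [e1, c0, mul_def, inv_def]
  have s5 : e1 p * z k * (e1 p)⁻¹ = z k := by rw [zc.c, mul_inv_cancel_right]
  have t1 := cjE' hE s1
  have t2 := cjE' hE s2
  have t3 := cjE' hE s3
  have m1 := (cjE hJ t1 s2).trans f1
  have m2' := (cjE hI t2 s3).trans f3
  have m3 := (cjE f2 s1 t1).trans hJ
  have m4 := (cjE f1 s2 t2).trans hI
  have m5 := (cjE hc.inv s4 (cjE' hE s4)).trans hc
  have mz := (cjE hz s5 s5).trans hz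
  have x1 : J1 p * J2 k = x4 p := by
    simp [J1, J2, x4, mul_def, mk_eq]
    exact .inl (by linear_combination -two_q4 - m2_add)
  have x2 : I1' k * I2 k = n k * z k := by
    rw [n_z]
    simp [I1', I2, nz, mul_def, mk_eq]
    exact .inl (by linear_combination -two_q4 - m2_add)
  set m := φ * (ι (e1 p) * (φ * ι (e1 p)))
  obtain ⟨ψ, hψ, a, b⟩ := (lv1 d).ext (lev0 d (gc_sc d.inj)) (cj_self.1 mz)
    (.of' ((m1.mul m3).cast x1 x2))
    (P := Cm zc (x4 p) ⊓ ι.range.comap ((MulAut.conj m).toMonoidHom.comp ι)) inf_le_left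
    fun x ⟨_, y, e⟩ => ⟨y, trivial, e.symm⟩
  have b' : ∀ {x y}, x ∈ Cm zc (x4 p) → Cj ι m x y → Cj ι ψ x y := fun hx e =>
    b _ ⟨hx, _, Eq.symm e⟩ _ e
  have n1 := b' (.inl (by
    simp [J1, x4, mul_def, inv_def, mk_eq]
    exact .inl ⟨by linear_combination -two_q4 - m2_add, by linear_combination two_q4⟩)) m1
  have n2 := b' (.inr (by
    simp [I1', x4, z, mul_def, inv_def, mk_eq]
    exact .inr ⟨by linear_combination -two_q4 - m2_add, by linear_combination -two_q4 - m2_add,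
      m2_add.symm⟩)) m2'
  have n3 := b' (.inl (by
    simp [J2, x4, mul_def, inv_def, mk_eq]
    exact .inl ⟨by linear_combination two_q4, by linear_combination two_q4 + m2_add⟩)) m3
  have n4 := b' (.inr (by
    simp [I2, x4, z, mul_def, inv_def, mk_eq]
    exact .inr ⟨by linear_combination two_q4, by linear_combination -two_q4 - m2_add,
      m2_add.symm⟩)) m4
  have n5 := b' (.inl (by simp [c0, x4, mul_def, inv_def])) m5
  have n6 : Cj ι ψ (K1 p) (J1 p) := (n1.mul n2).cast (by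
    simp [J1, I1', K1, mul_def, mk_eq]
    exact .inl (by linear_combination two_q4)) (by
    simp [J1, I1', K1, mul_def, mk_eq]
    exact .inl ⟨by ring, by linear_combination -two_q4⟩)
  have n7 := (n3.mul n4).cast JI IK
  obtain ⟨w, -, e⟩ := a (e1 p) (.inl (by simp [e1, x4, mul_def, inv_def, neg_m2, add_comm]))
  have hu : w * (e1 p)⁻¹ ∈ PB.kZ k := LZ (L8 (comE d.inj e n3 n1 s1 s2) (comE d.inj e n1 n3 t1 t2))
    (comE d.inj e n4 n2 s2 s3) (comE d.inj e n2 n4 t2 t3)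
  have fZ : ∀ x ∈ PB.kZ k, Cj ι ψ x x := genZ (H := Fix ι ψ) n5
  obtain ⟨j, o⟩ := exists_odd_pow ψ
  obtain ⟨u', hu', e'⟩ := fixC (x := e1 p) (fun x hx => ⟨x, hx, fZ x hx⟩) hu (by simpa using e) (4 ^ j)
  refine ⟨ψ ^ 4 ^ j, ?_⟩
  simp only [Rz, l4, List.forall_mem_cons, List.not_mem_nil, false_imp_iff, implies_true, and_true]
  exact ⟨(cj_self.2 hψ).gpow _, cyc n1 n2 n6 j, cyc n2 n6 n1 j, cyc n3 n4 n7 j, cyc n4 n7 n3 j,
    n5.gpow _, e'.chain d o ((fZ _ hu').gpow _)⟩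

end Cfsg.Agent.L4F.P
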