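import Mathlib
import Cfsg.Agent.L4F.PB

/-! Fusion on `PM k`: the upper levels of the tower.  Notation as in `L4F/P0`. -/

set_option autoImplicit false
set_option linter.unusedSectionVars false

namespace Cfsg.Agent.L4F.P

open Subgroup Cfsg Cfsg.Agent.BF Cfsg.Agent.TT Cfsg.Agent.GHO Cfsg.Agent.P4T Cfsg.Agent.Gold
  Cfsg.Agent.PLocal.Amb PM

variable {k : ℕ} [NeZero k] {G : Type*} [Group G] [Finite G] {ι : PM k →* G} {g : G}
  {Good : Subgroup (PM k) → G → Prop}

namespace P1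

theorem z_ne : z k ≠ 1 := by simp [z, one_def, mk_eq, m2_ne, m2_ne.symm]

theorem tnz : t k * (n k * z k) * (t k)⁻¹ = n k := by rw [n_z]; simp [mul_def, inv_def, t, n, nz]

theorem II : I1' k * I2 k = n k * z k := by
  simp only [n_z, mul_def, I1', I2, nz, mk_eq, sg_f, cond_false, Bool.xor_false]
  exact ⟨by simp, .inl ⟨by ring, by linear_combination -two_q4 - two_m2 (k := k), by ring⟩⟩

theorem tφ (r : Rz ι g (lφ k)) : Cj ι g (t k) (n k * z k) := by
  have h1 : Cj ι g (a1 k) (a1 k) := r (a1 k, a1 k) (by simp [lφ])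
  have h2 : Cj ι g (J2 k) (I2 k) := r (J2 k, I2 k) (by simp [lφ])
  have e : (a1 k ^ 2 ^ k)⁻¹ = I1' k := by simp [a1, PM.pw_mk, inv_def, I1', q4]
  exact (((h1.pow (2 ^ k)).inv.cast e e).mul h2).cast (by simp [mul_def, I1', J2, t]) II

theorem x4l {p : R k} (r : Rz ι g (l4 p)) : Cj ι g (x4 p) (n k * z k) := by
  have h1 : Cj ι g (J1 p) (I1' k) := r (J1 p, I1' k) (by simp [l4])
  have h2 : Cj ι g (J2 k) (I2 k) := r (J2 k, I2 k) (by simp [l4])
  refine (h1.mul h2).cast ?_ II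
  simp only [mul_def, J1, J2, x4, mk_eq, sg_t, cond_true]
  exact ⟨by simp, .inl ⟨by linear_combination -two_q4 - two_m2 (k := k), by ring, by simp⟩⟩

theorem not_τ (d : MS ι ⊤) {m : G} (r : Rz ι m (lφ k)) : ¬ Cj ι g (τ k) (z k) := fun b => by
  have h1 : Cj ι m (c0 k) (c0 k) := r (c0 k, c0 k) (by simp [lφ])
  have h2 : Cj ι m (J2 k) (I2 k) := r (J2 k, I2 k) (by simp [lφ])
  obtain ⟨c, hc⟩ := exists_c8 (k := k)
  have e : c0 k ^ c.val = c4 k := by simp [c0, c4, PM.pw_mk, mul_comm c, hc]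
  have h3 : Cj ι m (τ k) (c4 k * I2 k) :=
    (((h1.pow c.val).cast e e).mul h2).cast (by simp [mul_def, c4, J2, τ]) rfl
  exact not_y d (((Cj.of' (k := e1 0) (by simp [mul_def, inv_def, c4, I2, e1, y, mk_eq, neg_q4])).symm.trans
    h3.symm).trans b)

theorem kE_of {hz : Zc (z k)} {a b c : R k} {e : Bool} {h} : Cm hz (mk a b c e (!e) false h) ≤ kE k := fun x hx => by
  induction x using ind with | _ a' b' c' e' f' s' h' =>
  cases s'
  · exact mk_mem_kE.2 rfl
  · cases e <;> cases e' <;> cases f' <;> simp [mem_Cm, mul_def, inv_def, z, mk_eq] at hx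

theorem cm_le (x : PM k) : Cm zc_one x ≤ Cm zc x := fun _ h => .inl (eqv_one.1 h)

theorem c4_ww (x : PM k) : Eqv (z k) (x * c4 k * x⁻¹) (c4 k) := by
  induction x using ind with | _ a b c e f s h =>
  cases e <;> cases f <;> cases s <;> simp [Eqv, mul_def, inv_def, c4, z, neg_q4]

theorem c4_or (w : PM k) : w * w ∈ kT k ∨ c4 k * w * (c4 k)⁻¹ = w * z k := by
  induction w using ind with | _ a b c e f s h =>
  cases e <;> cases f <;> cases s <;> simp [mul_def, inv_def, c4, z, mk_mem_kT, neg_m2, mk_eq] <;>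
    exact .inl (by linear_combination two_q4)

theorem cenP {u : PM k} {p : R k} (hu : u ∈ kT k) (c1 : J2 k * u = u * J2 k) (c2 : e1 p * u = u * e1 p) :
    u = 1 ∨ u = z k := by
  obtain ⟨a, b, c, h, rfl⟩ := hu
  simp [mul_def, J2, e1, mk_eq, m2_ne] at c1 c2
  obtain rfl : a = b := by linear_combination c1.2
  rcases two_eq_zero.1 (show 2 * a = 0 by linear_combination -c2.1) with rfl | rfl <;>
    rcases two_eq_zero.1 (show 2 * c = 0 by linear_combination -c2.2) with rfl | rfl <;>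
      simp [z, one_def, mk_eq, m2_add]

end P1

open P1

theorem no_e1 (d : MS ι ⊤) (p : R k) : No (lv1 d) (e1 p) := fun g hg a b => by
  obtain ⟨w, hw, r⟩ := a (c4 k) (.inr (by
    simp [mul_def, inv_def, c4, e1, z, mk_eq]
    exact .inl (by linear_combination two_q4 + two_m2 (k := k))))
  have h1 := n_comm.2 (kE_of (e := true) hw)
  obtain ⟨u, h2, b⟩ := b
  have := (r.comm d.inj b).2 (by
    rcases h2 with rfl | rfl
    exacts [h1, Commute.mul_right h1 (zc.c w)])
  simp [mul_def, c4, e1, mk_eq, m2_ne] at this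
  exact q4_ne_neg (k := k) (by linear_combination this)

theorem lev1 (d : MS ι ⊤) (c : GC ι Good) (hn : ∃ g, Cj ι g (n k) (z k))
    (hφ : Gd ι Good (Cm zc (t k)) (lφ k)) (h4 : ∀ p : R k, Gd ι Good (Cm zc (x4 p)) (l4 p)) :
    All ι 𝐜[ι (z k)] Good :=
  (lv1 d).trick c (lev0 d c) fun x g hg b => by
  have hz : Cj ι g (z k) (z k) := cj_self.2 hg
  obtain ⟨g', b'⟩ : ∃ g', Cj ι g' x (z k) := hn.elim fun _ r => b.cases.elim (fun b => ⟨_, b.trans r⟩)
    fun b => ⟨_, (b.trans (Cj.of' tnz)).trans r⟩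
  obtain ⟨m, r, gd⟩ := hφ
  rcases invol ((b'.sq d.inj).2 zc.sq) with rfl | rfl | ⟨y, e | e | e | e | ⟨p, e | e⟩⟩
  · exact (z_ne (b'.uq d.inj Cj.one)).elim
  · rcases b.cases with b | b <;>
      exact absurd (b.uq d.inj hz) (by simp [n, z, one_def, mk_eq, m2_ne, m2_ne.symm])
  · exact .inl (Mv.conj c y e (mv_self c))
  · exact (not_y d ((Cj.of' e).symm.trans b')).elim
  · exact .inl (Mv.conj c y e ⟨m, cj_self.1 (r (z k, z k) (by simp [lφ])), r.top gen_φ, gd, .of' (tφ r)⟩)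
  · exact (not_τ d r ((Cj.of' e).symm.trans b')).elim
  · exact .inr (No.conj y e (no_e1 d p)).ex
  · obtain ⟨m, r, gd⟩ := h4 p
    exact .inl (Mv.conj c y e ⟨m, cj_self.1 (r (z k, z k) (by simp [l4])), r.top (gen_4 p), gd,
      .of' (x4l r)⟩)

theorem lev2 (n : NF ι) (c : GC ι Good) (h1 : All ι 𝐜[ι (z k)] Good)
    (hδ : Gd ι Good (kE k) (lδ k)) : All ι ⊤ Good :=
  (lv_one n.toMS zc).trick c (All.one (d := n.toMS) (hz := zc) h1) fun x g _ b => by
  rw [to_one] at b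
  obtain ⟨m, r, gd⟩ := hδ
  have kn : Mv (lv_one n.toMS zc) Good (P.n k) :=
    ⟨m, trivial, cm_n (k := k) ▸ r.top gen_δ, cm_n (k := k) ▸ gd, .of (r (P.n k, z k) (by simp [lδ]))⟩
  have k4 : ∀ p : R k, Mv (lv_one n.toMS zc) Good (x4 p) := fun p => by
    obtain ⟨m, r⟩ := exists_l4 n.toMS n.φ p
    exact Mv.of_le c trivial (cm_le _) (r.top (gen_4 p)) (h1 _ _ (cj_self.1 (r (z k, z k) (by simp [l4])))
      (r.top (gen_4 p))) (x4l r) (Mv.conj c _ tnz kn)
  obtain ⟨m', r'⟩ := n.φ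
  rcases invol ((b.sq n.inj).2 zc.sq) with rfl | rfl | ⟨y, e | e | e | e | ⟨p, e | e⟩⟩
  · exact (z_ne (b.uq n.inj Cj.one)).elim
  · exact .inl (mv_self c)
  · exact .inl (Mv.conj c y e kn)
  · exact (not_y n.toMS ((Cj.of' e).symm.trans b)).elim
  · exact .inl (Mv.conj c y e (Mv.of_le c trivial (cm_le _) (r'.top gen_φ)
      (h1 _ _ (cj_self.1 (r' (z k, z k) (by simp [lφ]))) (r'.top gen_φ)) (tφ r') (Mv.conj c _ tnz kn)))
  · exact (not_τ n.toMS r' ((Cj.of' e).symm.trans b)).elim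
  · have e1 : Cj ι m (a4 k) (a1 k) := r (a4 k, a1 k) (by simp [lδ])
    have e2 : Cj ι m (e2 k) (e3 k) := r (e2 k, e3 k) (by simp [lδ])
    refine .inl (Mv.conj c y e (Mv.conj c (t k) (y := mk 0 p p false true false (by
      simp [CharTwo.add_self_eq_zero])) (by simp [mul_def, inv_def, t, P.e1])
      (Mv.of_le c trivial ((cm_le _).trans (kE_of (e := false))) (r.top gen_δ) gd
      (((e1.pow p.val).mul e2).cast (by simp [mul_def, a4, P.e2, PM.pw_mk]) rfl)
      (Mv.conj c (T (q4 k) 0 (q4 k) (by simp)) ?_ (k4 p)))))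
    simp [mul_def, inv_def, a1, e3, x4, PM.pw_mk, mk_eq]
    exact .inl (by linear_combination two_q4)
  · exact .inl (Mv.conj c y e (k4 p))

theorem NF.sim {G₀ : Type*} [Group G₀] [Finite G₀] {ι₀ : PM k →* G₀} (n : NF ι) (n₀ : NF ι₀) :
    Sim ι ι₀ :=
  All.sim (lev2 n (gc_re n.inj ι₀) (lev1 n.toMS (gc_re n.inj ι₀)
    (n.δ.imp fun _ r => r (P.n k, z k) (by simp [lδ])) (gd_re n.inj n.φ n₀.φ gen_φ)
    fun p => gd_re n.inj (exists_l4 n.toMS n.φ p) (exists_l4 n₀.toMS n₀.φ p) (gen_4 p))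
    (gd_re n.inj n.δ n₀.δ gen_δ))

theorem n_fuse [IsSimpleGroup G] (d : MS ι ⊤) : ∃ g, Cj ι g (n k) (z k) := by
  by_contra! hn
  have c : GC ι (Fn ι (· = z k)) := gc_fn d.inj fun u x => propext (by
    rw [mul_inv_eq_iff_eq_mul, ← zc.c, mul_right_inj])
  have k1 : ∀ w, w ≠ z k → a1 k * w = w * a1 k → No (lv_one d zc) w := fun w h1 h2 g _ a b => by
    obtain ⟨X, -, r⟩ := a _ (mem_Cm_one.2 h2)
    have r := (r.pow (2 ^ (k + 1))).cast a_pow.1 rfl
    rcases hpow ((r.sq d.inj).1 zc.sq) with e | e | e | e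
    · exact r.ne_one d.inj z_ne e
    · exact h1 (((to_one.1 b).eq_iff d.inj r).2 e.symm)
    · exact hn _ (r.cast rfl e).symm
    · exact hn _ ((r.cast rfl (e.trans n_z.symm)).trans (Cj.of' tnz)).symm
  have k2 : ∀ p : R k, No (lv_one d zc) (e1 p) := fun p g _ a b => by
    have m : T 0 (q4 k) 0 (by simp) * e1 p = e1 p * T 0 (q4 k) 0 (by simp) := by simp [mul_def, e1]
    have s : T 0 (q4 k) 0 (by simp) * T 0 (q4 k) 0 (by simp) = nz k := by simp [mul_def, nz, q4_add]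
    have s' : nz k * nz k = 1 := by simp [mul_def, nz, m2_add, one_def]
    have s1 : nz k ≠ 1 := by simp [nz, one_def, mk_eq, m2_ne, m2_ne.symm]
    obtain ⟨w, hw, r⟩ := a _ (mem_Cm_one.2 m)
    have r2 := (r.mul r).cast s rfl
    rcases sq_uniq (η := e1 p) (mk_mem_kE.2 rfl) (by simp [e1, mk_mem_kT]) (by simp [e1, mul_def, one_def])
      (mk_mem_kE.2 rfl) (kE_of (e := true) (cm_le _ hw)) m (mem_Cm_one.1 hw) (s ▸ s')
      ((r2.sq d.inj).1 s') with e | e | e
    · exact s1 (s ▸ e)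
    · exact r2.ne_one d.inj s1 e
    refine hn _ ((((Cj.of' (k := T (q4 k) 0 (q4 k) (by simp)) ?_).trans (((to_one.1 b).mul
      (r2.cast rfl (e.symm.trans s))).cast rfl ?_)).symm).trans (to_one.1 b))
    · simp [mul_def, inv_def, e1, nz, mk_eq]
      exact .inr ⟨by linear_combination two_q4, m2_add.symm, by linear_combination two_q4⟩
    · simp [mul_def, z, nz, n, mk_eq, m2_add]
  have k3 : ∀ p : R k, No (lv_one d zc) (x4 p) := fun p g _ a b => by
    have m : c4 k ∈ Cm zc_one (x4 p) := mem_Cm_one.2 (by simp [mul_def, c4, x4])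
    obtain ⟨w, hw, r⟩ := a _ m
    have r2 := (r.mul r).cast (x' := z k) (by simp [mul_def, c4, z, q4_add]) rfl
    have h1 := r2.ne_one d.inj z_ne
    have h2 : w * w ≠ z k := fun e => by
      simpa [x4, z, mk_eq] using ((to_one.1 b).eq_iff d.inj r2).2 e.symm
    have ce : ∀ x ∈ Cm zc_one (x4 p), x * (w * w) = w * w * x := fun x hx =>
      let ⟨x', _, e⟩ := a.surj hx; (e.comm d.inj r2).1 (zc.c x')
    rcases c4_or w with e | e
    · refine (cenP (p := p) e (ce _ (mem_Cm_one.2 ?_)) (ce _ (mem_Cm_one.2 ?_))).elim h1 h2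
      · simp [mul_def, J2, x4, mk_eq]
        exact .inl ⟨by linear_combination two_q4, by linear_combination two_q4 + two_m2 (k := k)⟩
      · simp [mul_def, e1, x4, mk_eq, neg_m2]
    · obtain ⟨x, -, e'⟩ := a.surj m
      have := e'.conj r
      rw [e] at this
      rcases c4_ww x with i | i <;> rw [i] at this
      · exact z_ne (left_eq_mul.1 (r.uq d.inj this))
      · exact h2 (mul_left_cancel ((r.mul r2).uq d.inj this))
  have := (lv_one d zc).trick c (fun _ g hg _ x _ y e => propext (e.eq_iff d.inj (to_one.1 hg.2)).symm)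
    fun x g _ b => by
      rw [to_one] at b
      rcases invol ((b.sq d.inj).2 zc.sq) with rfl | rfl | ⟨y, e | e | e | e | ⟨p, e | e⟩⟩
      · exact (z_ne (b.uq d.inj Cj.one)).elim
      · exact .inl (mv_self c)
      · exact (hn _ ((Cj.of' e).symm.trans b)).elim
      · exact (not_y d ((Cj.of' e).symm.trans b)).elim
      · exact .inr (No.conj y e (k1 _ (by simp [t, z, mk_eq]) (by simp [t, a1, mul_def]))).ex
      · exact .inr (No.conj y e (k1 _ (by simp [τ, z, mk_eq]) (by simp [τ, a1, mul_def, add_comm]))).ex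
      · exact .inr (No.conj y e (k2 p)).ex
      · exact .inr (No.conj y e (k3 p)).ex
  obtain ⟨g, y, e, ne⟩ := zstar d (x := t k) (y := n k) (mt n_comm.1 (by simp [t, mk_mem_kE])) z_ne zc.sq
  exact ne (by simpa using (this.fn trivial e).symm)

end Cfsg.Agent.L4F.P
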