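import Mathlib
import Cfsg.Agent.L4F.P0

/-! Fusion on `PM k`: the automorphisms of `kE = C(n)`.  Notation as in `L4F/P0`. -/

set_option autoImplicit false
set_option linter.unusedSectionVars false

namespace Cfsg.Agent.L4F.P

open Subgroup Cfsg Cfsg.Agent.BF Cfsg.Agent.TT Cfsg.Agent.GHO Cfsg.Agent.P4T Cfsg.Agent.Gold
  Cfsg.Agent.PLocal.Amb PM

variable {k : ℕ} [NeZero k] {G : Type*} [Group G] [Finite G] {ι : PM k →* G} {g : G}
  {Good : Subgroup (PM k) → G → Prop}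

theorem PA.hm0 {x : R k} : m2 k * x = 0 ↔ pr k x = 0 := by
  rcases pr_cases x with h | h
  · simp [m2_mul_even h, h]
  · simp [m2_mul_odd h, h, m2_ne]

theorem PA.hm1 {x : R k} : m2 k * x = m2 k ↔ pr k x = 1 := by
  rcases pr_cases x with h | h
  · simp [m2_mul_even h, h, m2_ne.symm]
  · simp [m2_mul_odd h, h]

theorem PA.pw (a b c : R k) (e f : Bool) (r) : mk a b c e f false r ^ 2 ^ (k + 1) =
    T (cond e 0 (m2 k * a)) (cond f 0 (m2 k * b)) (cond (xor e f) 0 (m2 k * c)) (by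
      cases e <;> cases f <;> simp) := by
  rw [pow_succ', pow_mul, sq]
  cases e <;> cases f <;>
    simp [mul_def, PM.pw_mk, ← two_mul, ← mul_assoc, ← pow_succ, m2]

/-- an odd element is not killed by `2` modulo `h` -/
theorem PA.odd {x : R k} (h : pr k x = 1) : 2 * x ≠ 0 ∧ 2 * x ≠ m2 k :=
  ⟨fun e => absurd (h ▸ even_of_two_eq_zero e) (by decide),
    fun e => absurd (h ▸ even_of_two_eq_m2 e) (by decide)⟩

theorem PA.tnz {a b c : R k} {e f : Bool} {r} (h : mk a b c e f false r ^ 2 ^ (k + 1) = nz k) :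
    f = false ∧ cond e (pr k b = 1) (pr k a = 1 ∧ pr k c = 1) := by
  have := m2_ne (k := k)
  have r' := r
  rw [PA.pw] at h
  cases e <;> cases f <;> simp [nz, mk_eq, m2_add, PA.hm0, PA.hm1, this.symm] at h r' ⊢ <;> grind

theorem PA.tn {a b c : R k} {e f : Bool} {r} (h : mk a b c e f false r ^ 2 ^ (k + 1) = n k) :
    e = false ∧ cond f (pr k a = 1) (pr k b = 1 ∧ pr k c = 1) := by
  have := m2_ne (k := k)
  have r' := r
  rw [PA.pw] at h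
  cases e <;> cases f <;> simp [n, mk_eq, m2_add, PA.hm0, PA.hm1, this.symm] at h r' ⊢ <;> grind

theorem PA.tz {a b c : R k} {e f : Bool} {r} (h : mk a b c e f false r ^ 2 ^ (k + 1) = z k) :
    f = e ∧ cond e (pr k c = 1) (pr k a = 1 ∧ pr k b = 1) := by
  have := m2_ne (k := k)
  have r' := r
  rw [PA.pw] at h
  cases e <;> cases f <;> simp [z, mk_eq, m2_add, PA.hm0, PA.hm1, this.symm] at h r' ⊢ <;> grind

theorem PA.three {X Y Z : PM k} (hX : X ∈ kE k) (hY : Y ∈ kE k) (hZ : Z ∈ kE k)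
    (pX : X ^ 2 ^ (k + 1) = nz k) (pY : Y ^ 2 ^ (k + 1) = n k) (pZ : Z ^ 2 ^ (k + 1) = z k)
    (c1 : X * Y = Y * X) (c2 : Y * Z = Z * Y) (c3 : Z * X = X * Z) :
    X ∈ kT k ∧ Y ∈ kT k ∧ Z ∈ kT k := by
  have hm := m2_ne (k := k)
  obtain ⟨a, b, c, e, f, r, rfl⟩ := hX
  obtain ⟨a', b', c', e', f', r', rfl⟩ := hY
  obtain ⟨a'', b'', c'', e'', f'', r'', rfl⟩ := hZ
  obtain ⟨rfl, h1⟩ := PA.tnz pX
  obtain ⟨rfl, h2⟩ := PA.tn pY
  obtain ⟨rfl, h3⟩ := PA.tz pZ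
  have hh := two_m2 (k := k)
  obtain rfl : e = false := by
    cases e
    · rfl
    cases f' <;> simp [mul_def, mk_eq] at h2 c1
    · have := PA.odd h2.2; grind
    · have := PA.odd h2; grind
  obtain rfl : f' = false := by
    cases f'
    · rfl
    cases f'' <;> simp [mul_def, mk_eq] at h2 h3 c2
    · have := PA.odd h3.2; grind
    · have := PA.odd h2; grind
  obtain rfl : f'' = false := by
    cases f''
    · rfl
    simp [mul_def, mk_eq] at h1 c3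
    have := PA.odd h1.1; grind
  exact ⟨⟨_, _, _, _, rfl⟩, ⟨_, _, _, _, rfl⟩, ⟨_, _, _, _, rfl⟩⟩

theorem PA.kTE : kT k ≤ kE k := fun _ ⟨a, b, c, h, e⟩ => ⟨a, b, c, false, false, h, e⟩

theorem PA.kTc {x y : PM k} (hx : x ∈ kT k) (hy : y ∈ kT k) : x * y = y * x := by
  obtain ⟨a, b, c, h, rfl⟩ := hx
  obtain ⟨a', b', c', h', rfl⟩ := hy
  simp [mul_def, add_comm]

theorem PA.mpT (h1 : ∃ y ∈ kT k, Cj ι g (a1 k) y) (h3 : ∃ y ∈ kT k, Cj ι g (a3 k) y)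
    (h4 : ∃ y ∈ kT k, Cj ι g (a4 k) y) : Mp ι g (kT k) (kT k) :=
  gen_T (H := { carrier := {x | ∃ y ∈ kT k, Cj ι g x y}
                one_mem' := ⟨1, one_mem _, Cj.one⟩
                mul_mem' := fun ⟨_, a, b⟩ ⟨_, c, d⟩ => ⟨_, mul_mem a c, b.mul d⟩
                inv_mem' := fun ⟨_, a, b⟩ => ⟨_, inv_mem a, b.inv⟩ }) h1 h3 h4

theorem PA.tc : t k * n k * (t k)⁻¹ = nz k ∧ t k * nz k * (t k)⁻¹ = n k ∧ t k * z k * (t k)⁻¹ = z k ∧
    z k * nz k = n k ∧ nz k * z k = n k := by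
  simp [t, n, nz, z, mul_def, inv_def, mk_eq, m2_add]

theorem PA.ne : z k ≠ 1 ∧ z k ≠ n k := by
  have := m2_ne (k := k)
  simp [z, n, one_def, mk_eq, this, this.symm, m2_add]

/-- `MS.extr` gives `ρ : n ↦ z` on `C(n) = kE ⊇ kT`; it permutes `z, n, nz` (`a_pow`, `hpow`), so the image
centralizes `n` and `ρ` normalizes `kE`; compose with `t` to get the 3-cycle.  The images `X₁, X₃, X₄ ∈ kE` of
`a1, a3, a4` commute and have `h`-th powers `nz, n, z`.  If `X₁ ∉ kT` then `X₁ = (a, b, c) ε₁` with `b` odd; it does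
not commute with `X₃` (either `X₃ ∈ kT` with odd third coordinate or odd first coordinate, or
`X₃ = (a', b', c') ε₂`, which does not commute with `X₁² = (0, 2 b, 0)`).  Similarly for `X₃, X₄`; `gen_T`. -/
theorem exists_rho (d : MS ι ⊤) (h : Cj ι g (n k) (z k)) : ∃ ρ, Mp ι ρ (kE k) (kE k) ∧
    Mp ι ρ (kT k) (kT k) ∧ Cj ι ρ (n k) (z k) ∧ Cj ι ρ (z k) (nz k) := by
  have T1 : a1 k ∈ kT k := ⟨_, _, _, _, rfl⟩
  have T3 : a3 k ∈ kT k := ⟨_, _, _, _, rfl⟩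
  have T4 : a4 k ∈ kT k := ⟨_, _, _, _, rfl⟩
  obtain ⟨p1, p3, p4⟩ := a_pow (k := k)
  obtain ⟨ρ, h1, h2, h3⟩ : ∃ ρ, Cj ι ρ (n k) (z k) ∧ Cj ι ρ (z k) (nz k) ∧ Mp ι ρ (kE k) ⊤ := by
    obtain ⟨ρ, -, h1, h2⟩ := d.extr zc.c trivial h
    have h3 : Mp ι ρ (kE k) ⊤ := fun x hx => (h2 x (n_comm.2 hx)).imp fun _ r => ⟨trivial, r⟩
    obtain ⟨X, -, r⟩ := h3 _ (PA.kTE T1)
    have r1 := (r.pow (2 ^ (k + 1))).cast p1 rfl
    rcases hpow ((r1.sq d.inj).1 zc.sq) with e | e | e | e <;> rw [e] at r1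
    · exact (r1.ne_one d.inj PA.ne.1 rfl).elim
    · exact (PA.ne.2 ((r1.eq_iff d.inj h1).2 rfl)).elim
    · exact ⟨_, h1.trans (Cj.of' PA.tc.2.2.1), r1.trans (Cj.of' PA.tc.1),
        h3.trans (Mp.of fun _ _ => trivial)⟩
    · exact ⟨ρ, h1, r1, h3⟩
  have h4 : Cj ι ρ (nz k) (n k) := (h1.mul h2).cast n_z PA.tc.2.2.2.1
  have h5 : Mp ι ρ (kE k) (kE k) := fun x hx => (h3 x hx).imp fun y r =>
    ⟨n_comm.1 ((r.2.comm d.inj h4).1 (by
      rw [← n_z, ← mul_assoc, n_comm.2 hx, mul_assoc, zc.c, mul_assoc])), r.2⟩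
  obtain ⟨X, hX, r1⟩ := h5 _ (PA.kTE T1)
  obtain ⟨Y, hY, r3⟩ := h5 _ (PA.kTE T3)
  obtain ⟨Z, hZ, r4⟩ := h5 _ (PA.kTE T4)
  obtain ⟨k1, k3, k4⟩ := PA.three hX hY hZ ((r1.pow _).uq d.inj (p1 ▸ h2))
    ((r3.pow _).uq d.inj (p3 ▸ h4)) ((r4.pow _).uq d.inj (p4 ▸ h1))
    ((r1.comm d.inj r3).1 (PA.kTc T1 T3)) ((r3.comm d.inj r4).1 (PA.kTc T3 T4))
    ((r4.comm d.inj r1).1 (PA.kTc T4 T1))
  exact ⟨ρ, h5, PA.mpT ⟨X, k1, r1⟩ ⟨Y, k3, r3⟩ ⟨Z, k4, r4⟩, h1, h2⟩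

theorem PA.inv1 {η X : PM k} (hη : η ∈ kE k) (h2 : η * η = 1) (hX : X ∈ kT k)
    (hi : η * X * η⁻¹ = X⁻¹) (p : X ^ 2 ^ (k + 1) = nz k) :
    (∃ a c h, η = mk a 0 c true false false h) ∧ ∃ x w r, pr k x = 1 ∧ X = T x 0 w r := by
  have hm := m2_ne (k := k)
  have hh := two_m2 (k := k)
  obtain ⟨a, b, c, e, f, r, rfl⟩ := hη
  obtain ⟨x, y, w, r', rfl⟩ := hX
  obtain ⟨-, h1, h3⟩ := PA.tnz p
  have o1 := PA.odd h1
  have o3 := PA.odd h3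
  obtain ⟨rfl, rfl⟩ : e = true ∧ f = false := by
    cases e <;> cases f <;> simp [mul_def, inv_def, mk_eq] at hi ⊢ <;> grind
  simp [mul_def, inv_def, one_def, mk_eq] at hi h2
  refine ⟨?_, ?_⟩
  · rcases (two_eq_zero (x := b)).1 (by grind) with rfl | rfl
    · exact ⟨a, c, r, rfl⟩
    · exact ⟨a + m2 k, c + m2 k, by simpa using r, by simp [mk_eq, add_assoc, m2_add]⟩
  · rcases (two_eq_zero (x := y)).1 (by grind) with rfl | rfl
    · exact ⟨x, w, r', h1, rfl⟩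
    · exact ⟨x + m2 k, w + m2 k, by simpa using r', by simpa using h1,
        by simp [mk_eq, add_assoc, m2_add]⟩

theorem PA.inv2 {η X : PM k} (hη : η ∈ kE k) (h2 : η * η = 1) (hX : X ∈ kT k)
    (hi : η * X * η⁻¹ = X⁻¹) (p : X ^ 2 ^ (k + 1) = n k) :
    ∃ b c h, η = mk 0 b c false true false h := by
  have hm := m2_ne (k := k)
  have hh := two_m2 (k := k)
  obtain ⟨a, b, c, e, f, r, rfl⟩ := hη
  obtain ⟨x, y, w, r', rfl⟩ := hX
  obtain ⟨-, h1, h3⟩ := PA.tn p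
  have o1 := PA.odd h1
  have o3 := PA.odd h3
  obtain ⟨rfl, rfl⟩ : e = false ∧ f = true := by
    cases e <;> cases f <;> simp [mul_def, inv_def, mk_eq] at hi ⊢ <;> grind
  simp [mul_def, one_def, mk_eq] at h2
  rcases (two_eq_zero (x := a)).1 (by grind) with rfl | rfl
  · exact ⟨b, c, r, rfl⟩
  · exact ⟨b + m2 k, c + m2 k, by simpa using r, by simp [mk_eq, add_assoc, m2_add]⟩

/-- the automorphism `(a, b, c) ↦ (a, b, μ c)` -/
def Λ (μ : R k) (h : pr k μ = 1) : PM k →* PM k :=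
  QuotientGroup.lift _ (MonoidHom.mk' (fun x : PT k => mk x.a x.b (μ * x.c) x.e x.f x.s (by
    have := x.ev
    simp only [map_add, map_mul, h, one_mul] at this ⊢; exact this)) (by
    rintro ⟨a, b, c, e, f, s, r⟩ ⟨a', b', c', e', f', s', r'⟩
    cases e <;> cases f <;> simp [PT.mul_def, mul_def, mul_add])) (by
    rintro _ (rfl | rfl)
    · simp
    · simp [PT.om, one_def, mk_eq, mul_comm μ, m2_mul_odd h])

theorem Λ_mk {μ : R k} (h : pr k μ = 1) (a b c : R k) (e f s : Bool) (r) :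
    Λ μ h (mk a b c e f s r) = mk a b (μ * c) e f s (by
      simp only [map_add, map_mul, h, one_mul] at r ⊢; exact r) := rfl

/-- `unit_of_odd` -/
theorem Λ_inj {μ : R k} (h : pr k μ = 1) : Function.Injective (Λ μ h) := by
  obtain ⟨ν, hν⟩ := unit_of_odd h
  have h1 : m2 k * μ = m2 k := m2_mul_odd h
  refine (injective_iff_map_eq_one _).2 fun x hx => ?_
  induction x using ind with | _ a b c e f s r =>
  rw [Λ_mk, one_def, mk_eq] at hx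
  rw [one_def, mk_eq]
  refine ⟨hx.1, hx.2.imp (fun e => ⟨e.1, e.2.1, ?_⟩) fun e => ⟨e.1, e.2.1, ?_⟩⟩
  · linear_combination ν * e.2.2 - c * hν
  · linear_combination ν * e.2.2 - (c - m2 k) * hν - ν * h1

/-- the data of an involution `δ` exchanging the first and the third coordinate -/
structure Dt (ι : PM k →* G) (δ : G) (η₁ η₂ : PM k) : Prop where
  mE : Mp ι δ (kE k) (kE k)
  mT : Mp ι δ (kT k) (kT k)
  nz : Cj ι δ (n k) (z k)
  zn : Cj ι δ (z k) (n k)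
  t1 : ∃ a c h, η₁ = mk a 0 c true false false h
  t2 : ∃ b c h, η₂ = mk 0 b c false true false h
  cm : η₁ * η₂ = η₂ * η₁
  f1 : Cj ι δ η₁ η₁
  f2 : Cj ι δ η₂ (η₁ * η₂)

/-- `δ = ρ ι(t) ρ⁻¹`, `η₁ = ρ ε₃`, `η₂ = ρ ε₁`, `η₁ η₂ = ρ ε₂` (`t` fixes `ε₃`, `a1`, `z` and swaps `ε₁, ε₂`, and `n, nz`).
The `η`s are involutions in `kE \ kT` (`Mp.inv`).  `ε₃` commutes with `c0`, `c0 ^ 2 ^ k = z`; the image
`(a, b, c) ∈ kT` has `q (a, b, c) = nz`, so `η₁` has type `ε₁`; `ε₁` commutes with `(0, 2, 0)`, so `η₂` has type `ε₂`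
(choose the representative with vanishing middle, resp. first, coordinate).  `X = ρ a1 ∈ kT` is inverted by
`η₁` and `h X = nz`, so `X = (x, 0, w)` with `x, w` odd. -/
theorem exists_dt (d : MS ι ⊤) (h : Cj ι g (n k) (z k)) : ∃ δ η₁ η₂, Dt ι δ η₁ η₂ ∧
    ∃ x w r, pr k x = 1 ∧ Cj ι δ (T x 0 w r) (T x 0 w r) := by
  obtain ⟨ρ, mE, mT, h1, h2⟩ := exists_rho d h
  obtain ⟨p1, p3, -⟩ := a_pow (k := k)
  have h4 : Cj ι ρ (nz k) (n k) := (h1.mul h2).cast n_z PA.tc.2.2.2.1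
  have key : ∀ {x x' y y' : PM k}, Cj ι ρ x x' → Cj ι ρ y y' → t k * x * (t k)⁻¹ = y →
      Cj ι (ρ * (ι (t k) * ρ⁻¹)) x' y' := fun a b e => (a.symm.trans (Cj.of' e)).trans b
  obtain ⟨η₁, k1, r1⟩ := mE (e3 k) ⟨_, _, _, _, _, _, rfl⟩
  obtain ⟨η₂, k2, r2⟩ := mE (e1 0) ⟨_, _, _, _, _, _, rfl⟩
  obtain ⟨X, kX, rX⟩ := mT (a1 k) ⟨_, _, _, _, rfl⟩
  obtain ⟨Y, kY, rY⟩ := mT (a3 k) ⟨_, _, _, _, rfl⟩
  obtain ⟨t1, x, w, r, hx, rfl⟩ := PA.inv1 k1 ((r1.sq d.inj).1 (by simp [e3, mul_def, one_def])) kX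
    (((r1.conj rX).eq_iff d.inj rX.inv).1 (by simp [e3, a1, mul_def, inv_def]))
    ((rX.pow _).uq d.inj (p1 ▸ h2))
  have t2 := PA.inv2 k2 ((r2.sq d.inj).1 (by simp [e1, mul_def, one_def])) kY
    (((r2.conj rY).eq_iff d.inj rY.inv).1 (by simp [e1, a3, mul_def, inv_def]))
    ((rY.pow _).uq d.inj (p3 ▸ h4))
  refine ⟨_, η₁, η₂, ⟨(mE.inv.trans (Mp.of ?_)).trans mE, (mT.inv.trans (Mp.of ?_)).trans mT,
    key h4 h1 PA.tc.2.1, key h1 h4 PA.tc.1, t1, t2,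
    (r1.comm d.inj r2).1 (by simp [e3, e1, mul_def]), key r1 r1 (by simp [e3, t, mul_def, inv_def]),
    key r2 (r1.mul r2) (by simp [e3, e1, t, mul_def, inv_def])⟩, x, w, r, hx,
    key rX rX (by simp [a1, t, mul_def, inv_def])⟩
  · rintro _ ⟨a, b, c, e, f, r, rfl⟩
    simp [t, mul_def, inv_def, mk_mem_kE]
  · rintro _ ⟨a, b, c, r, rfl⟩
    simp [t, mul_def, inv_def, mk_mem_kT]

theorem PA.sur {μ : R k} (h : pr k μ = 1) (a b c : R k) (e f s : Bool) (r) :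
    ∃ c' r', Λ μ h (mk a b c' e f s r') = mk a b c e f s r := by
  obtain ⟨ν, hν⟩ := unit_of_odd h
  have h1 : pr k ν = 1 := by simpa [h] using congrArg (pr k) hν
  exact ⟨ν * c, by simpa [h1] using r, by rw [Λ_mk]; congr 1; linear_combination c * hν⟩

theorem PA.form {δ : G} {β ε : R k} {r1 r4} (h1 : Cj ι δ (a1 k) (T 0 β (1 + ε) r1))
    (h3 : Cj ι δ (a3 k) (a3 k)) (h4 : Cj ι δ (a4 k) (T 1 β ε r4)) (a b c : R k) (r) {a' b' c' r'}
    (e1 : a' = c) (e2 : b' = β * b) (e3 : c' = a + ε * b) : Cj ι δ (T a b c r) (T a' b' c' r') := by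
  obtain ⟨d, hd⟩ := pr_eq_zero.1 r
  refine (((h1.pow (d - c).val).mul (h3.pow (d - b).val)).mul (h4.pow (d - a).val)).cast ?_ ?_
  · simp only [a1, a3, a4, PM.pw_mk, mul_def, ZMod.natCast_zmod_val, mk_eq, sg_f, cond_false,
      Bool.false_xor, and_self, true_and]
    exact .inl ⟨by linear_combination -hd, by linear_combination -hd, by linear_combination -hd⟩
  · simp only [a3, PM.pw_mk, mul_def, ZMod.natCast_zmod_val, mk_eq, sg_f, cond_false,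
      Bool.false_xor, and_self, true_and]
    exact .inl ⟨by linear_combination -hd - e1, by linear_combination -β * hd - e2,
      by linear_combination -(1 + ε) * hd - e3⟩

theorem PA.data (d : MS ι ⊤) {δ : G} {η₁ η₂ : PM k} (h : Dt ι δ η₁ η₂) (h3 : Cj ι δ (a3 k) (a3 k)) :
    ∃ β ε r1 r4, 2 * ε = 0 ∧ pr k β = 1 ∧ Cj ι δ (a1 k) (T 0 β (1 + ε) r1) ∧
      Cj ι δ (a4 k) (T 1 β ε r4) := by
  have hm := m2_ne (k := k)
  have hh := two_m2 (k := k)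
  obtain ⟨a, c, r1, rfl⟩ := h.t1
  obtain ⟨b, c', r2, rfl⟩ := h.t2
  have f3 := (h.f1.mul h.f2).cast rfl (show _ = mk 0 b c' false true false r2 by
    simp [mul_def])
  obtain ⟨_, ⟨α, β, γ, r, rfl⟩, e⟩ := h.mT (a1 k) ⟨_, _, _, _, rfl⟩
  obtain ⟨β, γ, r, e⟩ : ∃ β γ r, Cj ι δ (a1 k) (T 0 β γ r) := by
    have k1 := ((f3.conj e).eq_iff d.inj e.inv).1 (by simp [a1, mul_def, inv_def])
    simp [mul_def, inv_def, mk_eq] at k1
    rcases (two_eq_zero (x := α)).1 (by grind) with rfl | rfl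
    · exact ⟨β, γ, r, e⟩
    · exact ⟨β + m2 k, γ + m2 k, by simpa using r, e.cast rfl (by simp [mk_eq, add_assoc, m2_add])⟩
  obtain ⟨-, o1, o2⟩ := PA.tn ((e.pow _).uq d.inj ((a_pow (k := k)).1 ▸ h.zn))
  have k1 := ((e.mul (h.f2.conj e)).eq_iff d.inj (h3.mul (h.f2.conj h3))).1
    (by simp [a1, a3, mul_def, inv_def])
  simp [a3, mul_def, inv_def, mk_eq] at k1
  obtain ⟨ε, rfl⟩ : ∃ ε, γ = 1 + ε := ⟨γ - 1, by ring⟩
  have k2 : 2 * ε = 0 := by grind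
  exact ⟨β, ε, r, by simp [o1, even_of_two_eq_zero k2, CharTwo.add_self_eq_zero], k2, o1, e,
    (e.mul (h.f2.conj h3).inv).cast (by simp [a1, a3, a4, mul_def, inv_def])
      (by simp [a3, mul_def, inv_def, mk_eq]; grind)⟩

theorem PA.cj (a b c : R k) (e f : Bool) (r) (x y w : R k) (r') :
    mk a b c e f false r * T x y w r' * (mk a b c e f false r)⁻¹ =
      T (sg e x) (sg f y) (sg (xor e f) w) (by simpa [pr_sg] using r') := by
  cases e <;> cases f <;> simp [mul_def, inv_def]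

theorem PA.ari {β ε : R k} {e f : Bool} {r1 r2 r3 r4} (h : 2 * ε = 0)
    (k3 : T (sg e 1) (sg f 0) (sg (xor e f) 1) r1 = T β ε (β + ε) r2)
    (k4 : T (sg e 1) (sg f 1) (sg (xor e f) 0) r3 = T (β * (1 + ε)) β ε r4) : β = 1 ∧ ε = 0 := by
  have hm := m2_ne (k := k)
  have hh := two_m2 (k := k)
  have o := PA.odd (k := k) (x := 1) (map_one _)
  rw [mk_eq] at k3 k4
  obtain rfl : ε = 0 := by
    rcases k3.2 with e3 | e3
    · cases f <;> simpa using e3.2.1.symm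
    · exfalso
      cases e <;> cases f <;> simp only [sg_f, sg_t, Bool.xor_false, Bool.xor_true, Bool.not_true,
        Bool.not_false] at e3 <;> grind
  cases e <;> cases f <;> simp [hm.symm] at k3 k4 ⊢ <;> grind

theorem PA.std (d : MS ι ⊤) {δ : G} {η₁ η₂ : PM k} (h : Dt ι δ η₁ η₂) (h3 : Cj ι δ (a3 k) (a3 k)) :
    Cj ι δ (a1 k) (a4 k) ∧ Cj ι δ (a4 k) (a1 k) := by
  obtain ⟨β, ε, r1, r4, k2, o1, h1, h4⟩ := PA.data d h h3
  have pε := even_of_two_eq_zero k2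
  have kε : ε * ε = 0 := by
    rcases two_eq_zero.1 k2 with rfl | rfl
    exacts [mul_zero _, m2_mul_even pr_m2]
  have F : ∀ a b c r a' b' c' r', a' = β * b → b' = c → c' = a + ε * b →
      Cj ι (ι (t k) * δ) (T a b c r) (T a' b' c' r') := fun a b c r a' b' c' r' e1 e2 e3 =>
    (PA.form h1 h3 h4 a b c r (r' := by rw [add_comm b']; exact r') e2 e1 e3).trans
      (Cj.of' (by simp [t, mul_def, inv_def]))
  have g1 := h.nz.trans (Cj.of' (ι := ι) PA.tc.2.2.1)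
  have g2 := h.zn.trans (Cj.of' (ι := ι) PA.tc.1)
  have g3 := (g1.mul g2).cast n_z PA.tc.2.2.2.1
  have mT : Mp ι (ι (t k) * δ) (kT k) (kT k) := h.mT.trans (Mp.of (by
    rintro _ ⟨a, b, c, r, rfl⟩
    simp [t, mul_def, inv_def, mk_mem_kT]))
  have gn := (g1.trans g2).trans g3
  obtain ⟨κ, hκ⟩ := lev0 d (gc_sc d.inj) (kT k) _ ⟨cj_self.1 ((g2.trans g3).trans g1), .of gn⟩
    ((mT.trans mT).trans mT).top
  obtain ⟨a, b, c, e, f, r, rfl⟩ := n_comm.1 (mul_inv_eq_iff_eq_mul.1 (hκ _ ⟨_, _, _, _, rfl⟩ _ gn))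
  have c2 : (1 : ZMod 2) + 1 = 0 := rfl
  have k3 := hκ _ ⟨_, _, _, _, rfl⟩ _ (((F 1 0 1 (by simp [c2]) 0 1 1 (by simp [c2]) (by simp) rfl
    (by simp)).trans (F _ _ _ _ β 1 ε (by simp [c2, o1, pε]) (by simp) rfl (by simp))).trans
    (F _ _ _ _ β ε (β + ε) (by simp [c2, o1, pε]) (by simp) rfl (by simp)))
  have k4 := hκ _ ⟨_, _, _, _, rfl⟩ _ (((F 1 1 0 (by simp [c2]) β 0 (1 + ε) (by simp [c2, o1, pε])
    (by simp) rfl (by simp)).trans (F _ _ _ _ 0 (1 + ε) β (by simp [c2, o1, pε]) (by simp) rfl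
    (by simp))).trans (F _ _ _ _ (β * (1 + ε)) β ε (by simp [c2, o1, pε]) rfl rfl
    (by linear_combination -kε)))
  rw [PA.cj] at k3 k4
  obtain ⟨rfl, rfl⟩ := PA.ari k2 k3 k4
  exact ⟨h1.cast rfl (by simp [a4]), h4⟩

/-- Put `η₁ = (a₁, 0, c₁) ε₁`, `η₂ = (0, b₂, c₂) ε₂`, `η₃ = η₁ η₂`; `δ η₃ = η₂`; commutation gives `c₁ - c₂ ∈ {0, h}`.
`a1` is inverted by `η₃`, so `δ a1 = (0, β, γ)` (`β, γ` odd: `h`-th power `n`).  `(2,0,0) = a3 * η₂ a3 η₂⁻¹ ↦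
a3 * η₃ a3 η₃⁻¹ = (0,0,2)`, `(0,0,2) ↦ (2,0,0)` likewise, and `(2,0,0) = a1 * η₂ a1 η₂⁻¹ ↦ (0, 0, 2 γ)`, so
`γ = 1 + ε`, `ε ∈ {0, h}`.  `(0,2,0) = a1 * η₁ a1 η₁⁻¹ ↦ (0, 2 β, 0)`; `a4 = a1 * (η₂ a3 η₂⁻¹)⁻¹ ↦ (1, β, ε)`.
`g = ι t * δ` permutes `n ↦ z ↦ nz ↦ n`; `g³ ∈ (lv1 d).St` acts on `kT` as some `κ ∈ kE`
(`lev0 d (gc_sc d.inj)`; `κ` fixes `n`).  `g : a3 ↦ a4 ↦ (β, 1, ε) ↦ (β, ε, β + ε)` (write
`(β, 1, ε) = a1 + (β - 1, 0, 0) + (0, 0, ε)`), which must be `(± 1, 0, ± 1)`: `ε = 0`, `β = ± 1`.  If `β = -1`,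
`κ` has type `ε₁`, but `g : a1 ↦ (-1,0,1) ↦ (0,1,-1) ↦ (-1,-1,0) ≠ (-1,1,0)`.  So `δ` acts on `kT` as
`(a, b, c) ↦ (c, b, a)` (`gen_T`, or `Cj.pow`).  With `2 x = a₁ - c₁`, `2 w = c₁ - c₂` (`w = 0` or `q`),
`u = (x, w, -x)`, the element `(ι u)⁻¹ * δ` realizes `lδ`. -/
theorem Dt.std (d : MS ι ⊤) {δ : G} {η₁ η₂ : PM k} (h : Dt ι δ η₁ η₂) (h3 : Cj ι δ (a3 k) (a3 k)) :
    ∃ g, Rz ι g (lδ k) := by
  have hm := m2_ne (k := k)
  have hh := two_m2 (k := k)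
  obtain ⟨h1, h4⟩ := PA.std d h h3
  obtain ⟨a₁, c₁, s1, rfl⟩ := h.t1
  obtain ⟨b₂, c₂, s2, rfl⟩ := h.t2
  obtain ⟨x, hx⟩ := (pr_eq_zero (a := a₁ - c₁)).1 (by simpa [CharTwo.sub_eq_add] using s1)
  obtain ⟨w, hw, pw⟩ : ∃ w, 2 * w = c₁ - c₂ ∧ pr k w = 0 := by
    have k1 := h.cm
    simp [mul_def, mk_eq] at k1
    rcases (two_eq_zero (x := c₁ - c₂)).1 (by grind) with e | e
    exacts [⟨0, by simp [e], by simp⟩, ⟨q4 k, by rw [e, two_q4], pr_q4⟩]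
  have pu : pr k (-x + -w + x) = 0 := by simp [pw]
  have H := PA.form (β := 1) (ε := 0) (r1 := by simp; rfl) (h1.cast rfl (by simp [a4])) h3 h4
  refine ⟨ι (T (-x) (-w) x pu) * δ, ?_⟩
  simp only [Rz, lδ, List.forall_mem_cons, List.not_mem_nil, IsEmpty.forall_iff, implies_true,
    and_true]
  refine ⟨h.nz.trans (Cj.of' (by simp [z, mul_def, inv_def])),
    h1.trans (Cj.of' (by simp [a4, mul_def, inv_def])),
    h3.trans (Cj.of' (by simp [a3, mul_def, inv_def])),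
    h4.trans (Cj.of' (by simp [a1, mul_def, inv_def])), ?_, ?_⟩
  · refine (((H (-a₁) 0 (-c₁) (by simpa using s1) (a' := -c₁) (b' := 0) (c' := -a₁)
      (r' := by simpa [add_comm] using s1) rfl (by simp) (by simp)).mul h.f1).cast
      (by simp [e1, mul_def]) rfl).trans (Cj.of' ?_)
    simp [e1, mul_def, inv_def, mk_eq]
    grind
  · refine (((H 0 (-b₂) (-c₂) (by simpa using s2) (a' := -c₂) (b' := -b₂) (c' := 0)
      (r' := by simpa [add_comm] using s2) rfl (by simp) (by simp)).mul h.f2).cast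
      (by simp [e2, mul_def]) rfl).trans (Cj.of' ?_)
    have k1 := h.cm
    simp [mul_def, mk_eq] at k1
    simp [e3, mul_def, inv_def, mk_eq]
    rcases (two_eq_zero (x := c₁ - c₂)).1 (by grind) with e | e <;> grind

/-- `exists_dt`; `μ = w x⁻¹`; `Dt` passes to `ι.comp (Λ μ _)` (preimages of `η₁, η₂` under the bijection `Λ`,
which fixes `n, z` and preserves `kE, kT`), where `δ` fixes `(x, 0, x)`, so `a3` (`unit_of_odd`, `Cj.pow`). -/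
theorem exists_δ (d : MS ι ⊤) (h : Cj ι g (n k) (z k)) :
    ∃ μ r, ∃ g, Rz (ι.comp (Λ μ r)) g (lδ k) := by
  obtain ⟨δ, η₁, η₂, dt, x, w, r, hx, e⟩ := exists_dt d h
  obtain ⟨ν, hν⟩ := unit_of_odd hx
  have h1 : pr k ν = 1 := by simpa [hx] using congrArg (pr k) hν
  have h2 : pr k w = 1 := by
    have : ∀ y : ZMod 2, 1 + y = 0 → y = 1 := by decide
    exact this _ (by simpa [hx] using r)
  have hμ : pr k (w * ν) = 1 := by rw [map_mul, h1, h2, mul_one]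
  obtain ⟨a, c, r1, rfl⟩ := dt.t1
  obtain ⟨b, c', r2, rfl⟩ := dt.t2
  obtain ⟨c1, r1', e1⟩ := PA.sur hμ a 0 c true false false r1
  obtain ⟨c2, r2', e2⟩ := PA.sur hμ 0 b c' false true false r2
  have en : Λ _ hμ (n k) = n k := by rw [n, Λ_mk]; simp
  have ez : Λ _ hμ (z k) = z k := by rw [z, Λ_mk]; simp [mul_comm _ (m2 k), m2_mul_odd hμ]
  refine ⟨_, hμ, Dt.std (δ := δ) (MS.comp d (Λ_inj hμ)) ⟨?_, ?_, dt.nz.cast en.symm ez.symm,
    dt.zn.cast ez.symm en.symm, ⟨_, c1, r1', rfl⟩, ⟨_, c2, r2', rfl⟩,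
    Λ_inj hμ (by rw [map_mul, map_mul, e1, e2, dt.cm]), dt.f1.cast e1.symm e1.symm,
    dt.f2.cast e2.symm (by rw [map_mul, e1, e2])⟩ ?_⟩
  · rintro _ ⟨a, b, c, e, f, r, rfl⟩
    obtain ⟨_, ⟨a', b', c', e', f', r', rfl⟩, k1⟩ := dt.mE (Λ _ hμ (mk a b c e f false r))
      ⟨_, _, _, _, _, _, rfl⟩
    obtain ⟨c1, r1, e1⟩ := PA.sur hμ a' b' c' e' f' false r'
    exact ⟨_, ⟨_, _, _, _, _, r1, rfl⟩, k1.cast rfl e1.symm⟩
  · rintro _ ⟨a, b, c, r, rfl⟩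
    obtain ⟨_, ⟨a', b', c', r', rfl⟩, k1⟩ := dt.mT (Λ _ hμ (T a b c r)) ⟨_, _, _, _, rfl⟩
    obtain ⟨c1, r1, e1⟩ := PA.sur hμ a' b' c' false false false r'
    exact ⟨_, ⟨_, _, _, r1, rfl⟩, k1.cast rfl e1.symm⟩
  · have : T x 0 w r ^ ν.val = Λ _ hμ (a3 k) := by
      rw [a3, Λ_mk, PM.pw_mk]; simp [hν, mul_comm w]
    exact (e.pow ν.val).cast this this

end Cfsg.Agent.L4F.P
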