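import Mathlib
import Cfsg.Agent.L4F.P1
import Cfsg.Agent.L4F.PA

/-! Fusion on `PM k`: the normal form.  Notation as in `L4F/P0`. -/

set_option autoImplicit false
set_option linter.unusedSectionVars false

namespace Cfsg.Agent.L4F.P

open Subgroup Cfsg Cfsg.Agent.BF Cfsg.Agent.TT Cfsg.Agent.GHO Cfsg.Agent.P4T Cfsg.Agent.Gold
  Cfsg.Agent.PLocal.Amb PM

variable {k : ℕ} [NeZero k] {G : Type*} [Group G] [Finite G] {ι : PM k →* G} {g : G}
  {Good : Subgroup (PM k) → G → Prop}

theorem pc_z_ne : z k ≠ 1 := by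
  have := m2_ne (k := k)
  simp [z, one_def, mk_eq, this, this.symm]

theorem pc_pow_sq (X : PM k) : X ^ 2 ^ (k + 1) = (X * X) ^ 2 ^ k := by
  rw [← sq, ← pow_mul, ← pow_succ']

theorem pc_four {X : PM k} (h : X * X * (X * X) = 1) : X ^ 2 ^ (k + 1) = 1 := by
  obtain ⟨j, hj⟩ := Nat.exists_eq_succ_of_ne_zero (NeZero.ne k)
  rw [pc_pow_sq, show 2 ^ k = 2 * 2 ^ j by rw [hj, pow_succ'], pow_mul, sq, h, one_pow]

theorem pc_odd_of_m2 {a : R k} (h : m2 k * a = m2 k) : pr k a = 1 :=
  (pr_cases a).resolve_left fun r => m2_ne (k := k) (by rw [← h, m2_mul_even r])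

theorem pc_even_of_m2 {a : R k} (h : m2 k * a = 0) : pr k a = 0 :=
  (pr_cases a).resolve_right fun r => m2_ne (k := k) (by rw [← h, m2_mul_odd r])

theorem pc_q_odd {w : R k} (h : pr k w = 1) : q4 k * w ≠ 0 := fun e => by
  obtain ⟨u, hu⟩ := unit_of_odd h
  exact q4_ne (k := k) (by linear_combination u * e - q4 k * hu)

theorem pc_q_two {w : R k} (h : 2 * w = 0) : q4 k * w ≠ m2 k := fun e => by
  obtain ⟨c, hc⟩ := exists_c8 (k := k)
  exact m2_ne (k := k) (by linear_combination c * h - e - w * hc)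

/-- a torus element with `h`-th power `z` -/
theorem pc_T_pow {a b c : R k} {r} (h : T a b c r ^ 2 ^ (k + 1) = z k) : pr k a = 1 ∧ pr k b = 1 := by
  rw [T, PM.pw_mk, z, mk_eq, cast_m2] at h
  rcases h.2 with ⟨h1, h2, h3⟩ | ⟨h1, h2, -⟩
  · have := pc_even_of_m2 h1
    have := pc_even_of_m2 h2
    have := pc_odd_of_m2 h3
    simp_all
  · rw [zero_add] at h1 h2
    exact ⟨pc_odd_of_m2 h1, pc_odd_of_m2 h2⟩

theorem pc_not_even {a : R k} (h : pr k a = 1) (h' : pr k a = 0) : False := by
  rw [h] at h'; exact one_ne_zero h'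

theorem pc_par {a b c : R k} (h : pr k a + pr k b + pr k c = 0) (h' : pr k c = 1) : pr k (a + b) = 1 := by
  rw [map_add]
  revert h h'
  generalize pr k a = x, pr k b = y, pr k c = w
  revert x y w; decide

/-- an involution of `kE` commuting with an `h`-th root of `z` lies in the torus -/
theorem root_comm {X x : PM k} (h : X ^ 2 ^ (k + 1) = z k) (hx : x ∈ kE k) (h2 : x * x = 1)
    (c : x * X = X * x) : x ∈ kT k := by
  obtain ⟨a', b', c', e', f', r', rfl⟩ := hx
  have hm := m2_ne (k := k)
  have h2m := two_m2 (k := k)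
  have hq := two_q4 (k := k)
  induction X using ind with | _ a b d e f s r =>
  have hsq := pc_pow_sq (mk a b d e f s r)
  rw [h] at hsq
  have h4 := fun e' => pc_z_ne (h.symm.trans (pc_four (X := mk a b d e f s r) e'))
  have c2 : mk a' b' c' e' f' false r' * (mk a b d e f s r * mk a b d e f s r) =
      (mk a b d e f s r * mk a b d e f s r) * mk a' b' c' e' f' false r' := by
    rw [← mul_assoc, c, mul_assoc, c, mul_assoc]
  have hT := fun a b c r => pc_T_pow (k := k) (a := a) (b := b) (c := c) (r := r)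
  rw [mk_mem_kT]
  by_contra hn
  have r1 := r
  have r2 := r'
  simp only [map_add] at r1 r2
  cases e <;> cases f <;> cases s <;>
    simp only [mul_def, PM.pw_mk, z, mk_eq, cast_q4, PM.one_def, cond_true, cond_false, Bool.xor_false, Bool.xor_true, Bool.not_true, Bool.not_false,
      sg_t, sg_f, and_self, true_and, and_true, Bool.true_eq_false, Bool.false_eq_true, false_and, and_false] at hsq h4
  · obtain ⟨h1, h3⟩ := hT _ _ _ _ h
    cases e' <;> cases f' <;> simp only [mul_def, mk_eq, not_true_eq_false, cond_true, cond_false, Bool.xor_false, Bool.xor_true, Bool.not_true, Bool.not_false,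
      sg_t, sg_f, and_self, true_and, and_true, Bool.true_eq_false, Bool.false_eq_true, false_and, and_false] at c hn
    · refine pc_not_even h3 (even_of_four ?_)
      rcases c with ⟨-, c, -⟩ | ⟨-, c, -⟩
      exacts [by linear_combination -2 * c, by linear_combination -2 * c - h2m]
    all_goals
      refine pc_not_even h1 (even_of_four ?_)
      rcases c with ⟨c, -, -⟩ | ⟨c, -, -⟩
      exacts [by linear_combination -2 * c, by linear_combination -2 * c - h2m]
  · cases e' <;> cases f' <;> simp only [mul_def, mk_eq, not_true_eq_false, cond_true, cond_false, Bool.xor_false, Bool.xor_true, Bool.not_true, Bool.not_false,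
      sg_t, sg_f, and_self, true_and, and_true, Bool.true_eq_false, Bool.false_eq_true, false_and, and_false] at c hn
    rcases hsq with ⟨h1, -, h3⟩ | ⟨h1, -, -⟩
    · have := pc_odd_of_m2 (a := d) (by linear_combination -h3 - d * hq)
      exact pc_q_odd (w := a + b) (pc_par r1 this) h1.symm
    · refine pc_q_two (w := a + b) ?_ (by linear_combination -h1 - h2m)
      rcases c with ⟨c, c1, -⟩ | ⟨c, c1, -⟩
      exacts [by linear_combination -c - c1, by linear_combination -c - c1 - h2m]
  · rcases hsq with ⟨-, -, h3⟩ | ⟨-, h3, -⟩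
    exacts [hm (by linear_combination h3), hm (by linear_combination -h3)]
  · exact h4 (.inl ⟨by ring, by ring, by ring⟩)
  · rcases hsq with ⟨-, -, h3⟩ | ⟨h3, -, -⟩
    exacts [hm (by linear_combination h3), hm (by linear_combination -h3)]
  · exact h4 (.inl ⟨by ring, by ring, by ring⟩)
  · have h1 : pr k d = 1 := by
      rcases hsq with ⟨-, -, h3⟩ | ⟨h3, -, -⟩
      exacts [pc_odd_of_m2 (by linear_combination -h3 - d * hq), (hm (by linear_combination -h3)).elim]
    cases e' <;> cases f' <;> simp only [mul_def, mk_eq, PM.one_def, not_true_eq_false, cond_true, cond_false, Bool.xor_false, Bool.xor_true, Bool.not_true, Bool.not_false,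
      sg_t, sg_f, and_self, true_and, and_true, Bool.true_eq_false, Bool.false_eq_true, false_and, and_false] at c c2 h2 hn
    · refine pc_not_even h1 (even_of_four ?_)
      rcases c2 with ⟨-, -, c⟩ | ⟨c, -, -⟩
      exacts [by linear_combination -c, (hm (by linear_combination -c)).elim]
    · refine pc_not_even h1 (even_of_four ?_)
      rcases c2 with ⟨-, -, c⟩ | ⟨-, c, -⟩
      exacts [by linear_combination -c, (hm (by linear_combination -c)).elim]
    · have h3 : pr k c' = 0 := by
        rcases h2 with ⟨-, -, c⟩ | ⟨c, -, -⟩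
        exacts [even_of_two_eq_zero (by linear_combination c), (hm (by linear_combination -c)).elim]
      rcases c with ⟨c, c1, -⟩ | ⟨-, -, c⟩
      · have h5 := even_of_two_eq_zero (x := a - a') (by linear_combination -c)
        have h6 := even_of_two_eq_zero (x := b - b') (by linear_combination -c1)
        rw [map_sub] at h5 h6
        exact one_ne_zero (α := ZMod 2) (by linear_combination r1 - r2 - h1 + h3 - h5 - h6)
      · exact hm (by linear_combination -c)
  · cases e' <;> cases f' <;> simp only [mul_def, mk_eq, not_true_eq_false, cond_true, cond_false, Bool.xor_false, Bool.xor_true, Bool.not_true, Bool.not_false,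
      sg_t, sg_f, and_self, true_and, and_true, Bool.true_eq_false, Bool.false_eq_true, false_and, and_false] at c hn
    rcases hsq with ⟨h1, -, h3⟩ | ⟨h1, -, -⟩
    · have := pc_odd_of_m2 (a := d) (by linear_combination -h3 - d * hq)
      exact pc_q_odd (w := a + -b) (by rw [map_add, pr_neg, ← map_add]; exact pc_par r1 this) h1.symm
    · refine pc_q_two (w := a + -b) ?_ (by linear_combination -h1 - h2m)
      rcases c with ⟨c, c1, -⟩ | ⟨c, c1, -⟩ <;> linear_combination c1 - c

theorem pc_4q : 4 * q4 k = 0 := by linear_combination 2 * two_q4 (k := k) + two_m2 (k := k)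

theorem pc_ev {a b c : R k} (r : pr k (a + b + c) = 0) (e f s : Bool) :
    pr k (a + cond f (m2 k) 0 + cond s (sg e (q4 k)) 0 + (b + cond s (sg f (q4 k)) 0) +
      (c + cond s (sg (xor e f) (q4 k)) 0)) = 0 := by
  simp only [map_add] at r ⊢
  cases f <;> cases s <;> simp [pr_sg, r]

/-- the twist -/
def pcΘ (k : ℕ) [NeZero k] : PM k →* PM k :=
  QuotientGroup.lift _ (MonoidHom.mk' (fun x : PT k => mk (x.a + cond x.f (m2 k) 0 + cond x.s (sg x.e (q4 k)) 0)
    (x.b + cond x.s (sg x.f (q4 k)) 0) (x.c + cond x.s (sg (xor x.e x.f) (q4 k)) 0) x.e x.f x.s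
    (pc_ev x.ev _ _ _)) (by
    rintro ⟨a, b, c, e, f, s, r⟩ ⟨a', b', c', e', f', s', r'⟩
    have h4 := pc_4q (k := k)
    cases e <;> cases f <;> cases s <;> cases e' <;> cases f' <;> cases s' <;>
      simp only [PT.mul_def, mul_def, mk_eq, ← two_q4, cond_true, cond_false, Bool.xor_false, Bool.xor_true, Bool.not_true, Bool.not_false,
      sg_t, sg_f, and_self, true_and, and_true, Bool.true_eq_false, Bool.false_eq_true, false_and, and_false] <;>
      first
      | (left; refine ⟨?_, ?_, ?_⟩ <;>
          first | ring1 | linear_combination h4 | linear_combination -h4)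
      | (right; refine ⟨?_, ?_, ?_⟩ <;>
          first | ring1 | linear_combination h4 | linear_combination -h4))) (by
    rintro _ (rfl | rfl)
    · simp
    · simp [PT.om, one_def, mk_eq])

theorem pcΘ_mk (a b c : R k) (e f s : Bool) (r) : pcΘ k (mk a b c e f s r) =
    mk (a + cond f (m2 k) 0 + cond s (sg e (q4 k)) 0) (b + cond s (sg f (q4 k)) 0)
      (c + cond s (sg (xor e f) (q4 k)) 0) e f s (pc_ev r _ _ _) := rfl

/-- an automorphism fixing `z, n` and mapping `t` to `τ` -/
theorem exists_Θ : ∃ Θ : PM k →* PM k, Function.Injective Θ ∧ Θ (z k) = z k ∧ Θ (n k) = n k ∧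
    Θ (t k) = τ k := by
  refine ⟨pcΘ k, (injective_iff_map_eq_one _).2 fun x hx => ?_, by simp [z, pcΘ_mk],
    by simp [n, pcΘ_mk], by simp [t, τ, pcΘ_mk]⟩
  induction x using ind with | _ a b c e f s r =>
  rw [pcΘ_mk, one_def, mk_eq] at hx
  obtain ⟨⟨rfl, rfl, rfl⟩, hx⟩ := hx
  rw [one_def, mk_eq]
  simpa using hx

theorem pc_nz_comm {x : PM k} (h : x * nz k = nz k * x) : x ∈ kE k := by
  rw [← n_z, ← mul_assoc, mul_assoc (n k), ← zc.c x, ← mul_assoc] at h
  exact n_comm.1 (mul_right_cancel h)

theorem pc_t_nz : t k * nz k * (t k)⁻¹ = n k := by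
  simp [t, nz, n, mul_def, inv_def]

theorem pc_nz_z : z k * nz k = n k := by
  rw [← n_z, zc.c (n k), ← mul_assoc, zc.sq, one_mul]

/-- the involutions of the torus -/
theorem pc_invol {x : PM k} (hx : x ∈ kT k) (h : x * x = 1) :
    x = 1 ∨ x = z k ∨ x = n k ∨ x = n k * z k ∨ ∃ c, c * x * c⁻¹ = y k := by
  obtain ⟨a, b, c, r, rfl⟩ := hx
  have hm := m2_ne (k := k)
  simp only [mul_def, one_def, mk_eq, ← two_mul, zero_add, two_eq_zero, two_eq_m2, cond_true, cond_false, Bool.xor_false, Bool.xor_true, Bool.not_true, Bool.not_false,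
      sg_t, sg_f, and_self, true_and, and_true, Bool.true_eq_false, Bool.false_eq_true, false_and, and_false] at h
  rw [n_z]
  have h4 := pc_4q (k := k)
  rcases h with ⟨rfl | rfl, rfl | rfl, rfl | rfl⟩ | ⟨rfl | rfl, rfl | rfl, rfl | rfl⟩
  iterate 8 simp [one_def, z, n, nz, mk_eq, m2_add]
  all_goals refine .inr (.inr (.inr (.inr ?_)))
  all_goals first
    | (refine ⟨1, ?_⟩
       simp only [y, one_def, mul_def, inv_def, mk_eq, ← two_q4, cond_true, cond_false, Bool.xor_false, Bool.xor_true, Bool.not_true, Bool.not_false,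
      sg_t, sg_f, and_self, true_and, and_true, Bool.true_eq_false, Bool.false_eq_true, false_and, and_false]
       first
       | (left; (repeat' apply And.intro) <;> first | ring1 | linear_combination h4 | linear_combination -h4)
       | (right; (repeat' apply And.intro) <;> first | ring1 | linear_combination h4 | linear_combination -h4))
    | (refine ⟨e3 k, ?_⟩
       simp only [y, e3, mul_def, inv_def, mk_eq, ← two_q4, cond_true, cond_false, Bool.xor_false, Bool.xor_true, Bool.not_true, Bool.not_false,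
      sg_t, sg_f, and_self, true_and, and_true, Bool.true_eq_false, Bool.false_eq_true, false_and, and_false]
       first
       | (left; (repeat' apply And.intro) <;> first | ring1 | linear_combination h4 | linear_combination -h4)
       | (right; (repeat' apply And.intro) <;> first | ring1 | linear_combination h4 | linear_combination -h4))
    | (refine ⟨e2 k, ?_⟩
       simp only [y, e2, mul_def, inv_def, mk_eq, ← two_q4, cond_true, cond_false, Bool.xor_false, Bool.xor_true, Bool.not_true, Bool.not_false,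
      sg_t, sg_f, and_self, true_and, and_true, Bool.true_eq_false, Bool.false_eq_true, false_and, and_false]
       first
       | (left; (repeat' apply And.intro) <;> first | ring1 | linear_combination h4 | linear_combination -h4)
       | (right; (repeat' apply And.intro) <;> first | ring1 | linear_combination h4 | linear_combination -h4))
    | (refine ⟨e1 0, ?_⟩
       simp only [y, e1, mul_def, inv_def, mk_eq, ← two_q4, cond_true, cond_false, Bool.xor_false, Bool.xor_true, Bool.not_true, Bool.not_false,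
      sg_t, sg_f, and_self, true_and, and_true, Bool.true_eq_false, Bool.false_eq_true, false_and, and_false]
       first
       | (left; (repeat' apply And.intro) <;> first | ring1 | linear_combination h4 | linear_combination -h4)
       | (right; (repeat' apply And.intro) <;> first | ring1 | linear_combination h4 | linear_combination -h4))

/-- the centralizer of `y` -/
theorem pc_cy {x : PM k} (h : x * y k = y k * x) : ∃ a b c s r, x = mk a b c false false s r := by
  induction x using ind with | _ a b c e f s r =>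
  have hm := m2_ne (k := k)
  have hq := two_q4 (k := k)
  cases e <;> cases f
  · exact ⟨a, b, c, s, r, rfl⟩
  all_goals
    exfalso
    cases s <;> simp only [y, mul_def, mk_eq, cond_true, cond_false, Bool.xor_false, Bool.xor_true, Bool.not_true, Bool.not_false,
      sg_t, sg_f, and_self, true_and, and_true, Bool.true_eq_false, Bool.false_eq_true, false_and, and_false] at h <;>
      rcases h with ⟨h1, h2, h3⟩ | ⟨h1, h2, h3⟩ <;> refine hm ?_ <;>
      first | linear_combination -h1 | linear_combination -h2 | linear_combination -h3 |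
        linear_combination -h1 - hq | linear_combination -h2 - hq

theorem pc_inv {X κ : PM k} (hX : X * y k = y k * X) (hκ : κ * y k = y k * κ) (h : X * κ * X = κ)
    (hz : X ^ 2 ^ (k + 1) = z k) : (∃ a b c r, κ = mk a b c false false true r) ∧
      ∃ w r, 2 * w = m2 k ∧ X ^ 2 ^ k = T w (-w) 0 r := by
  obtain ⟨a, b, c, s, r, rfl⟩ := pc_cy hX
  obtain ⟨a', b', c', s', r', rfl⟩ := pc_cy hκ
  have h2m := two_m2 (k := k)
  have hq := two_q4 (k := k)
  have h4 := fun e' => pc_z_ne (hz.symm.trans (pc_four (X := mk a b c false false s r) e'))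
  cases s <;> cases s' <;> simp only [mul_def, mk_eq, one_def, cond_true, cond_false, Bool.xor_false, Bool.xor_true, Bool.not_true, Bool.not_false,
      sg_t, sg_f, and_self, true_and, and_true, Bool.true_eq_false, Bool.false_eq_true, false_and, and_false] at h h4
  · refine (h4 (.inl ?_)).elim
    rcases h with ⟨h1, h2, h3⟩ | ⟨h1, h2, h3⟩
    · exact ⟨by linear_combination 2 * h1, by linear_combination 2 * h2, by linear_combination 2 * h3⟩
    · exact ⟨by linear_combination 2 * h1 + h2m, by linear_combination 2 * h2 + h2m,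
        by linear_combination 2 * h3 + h2m⟩
  · refine ⟨⟨_, _, _, _, rfl⟩, ?_⟩
    obtain ⟨o1, -⟩ := pc_T_pow hz
    have o2 := m2_mul_odd o1
    obtain ⟨u, hu⟩ := exists_c8 (k := k)
    rw [PM.pw_mk, cast_q4]
    rcases h with ⟨h1, h2, h3⟩ | ⟨h1, h2, h3⟩
    · exact ⟨q4 k * a, by simp, by linear_combination a * hq + o2, mk_eq.2 ⟨by simp, .inl
        ⟨rfl, by linear_combination q4 k * h1, by linear_combination u * h3 - c * hu⟩⟩⟩
    · rcases pr_cases u with o3 | o3
      · exact ⟨q4 k * a, by simp, by linear_combination a * hq + o2, mk_eq.2 ⟨by simp, .inl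
          ⟨rfl, by linear_combination q4 k * h1 + q4_mul_m2 (k := k),
            by linear_combination u * h3 - c * hu + m2_mul_even o3⟩⟩⟩
      · exact ⟨q4 k * a + m2 k, by simp, by linear_combination a * hq + o2 + h2m, mk_eq.2 ⟨by simp, .inr
          ⟨by linear_combination -h2m, by linear_combination q4 k * h1 + q4_mul_m2 (k := k),
            by linear_combination u * h3 - c * hu + m2_mul_odd o3⟩⟩⟩
  all_goals
    refine (h4 (.inl ?_)).elim
    rcases h with ⟨h1, h2, h3⟩ | ⟨h1, h2, h3⟩
    · exact ⟨by linear_combination h1 + h2, by linear_combination h1 + h2, by linear_combination 2 * h3⟩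
    · exact ⟨by linear_combination h1 + h2 + h2m, by linear_combination h1 + h2 + h2m,
        by linear_combination 2 * h3 + h2m⟩

theorem pc_fin {V κ : PM k} {w : R k} {r} (hw : 2 * w = m2 k) (hκ : ∃ a b c r, κ = mk a b c false false true r)
    (hV : V * y k = y k * V) (h1 : V * T w (-w) 0 r = T w (-w) 0 r * V) (h2 : V * κ = κ * V)
    (h3 : V * V = z k) : Eqv (z k) (T w (-w) 0 r * V) (n k) ∨ Eqv (z k) (T w (-w) 0 r * V * y k) (n k) := by
  obtain ⟨a, b, c, s, r, rfl⟩ := pc_cy hV
  obtain ⟨a', b', c', r', rfl⟩ := hκ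
  have hm := m2_ne (k := k)
  have h2m := two_m2 (k := k)
  cases s
  · simp only [mul_def, mk_eq, z, cond_true, cond_false, Bool.xor_false, Bool.xor_true, Bool.not_true, Bool.not_false,
      sg_t, sg_f, and_self, true_and, and_true, Bool.true_eq_false, Bool.false_eq_true, false_and, and_false] at h2 h3
    obtain rfl : a = b := by
      rcases h2 with ⟨h2, -, -⟩ | ⟨-, -, h2⟩
      exacts [by linear_combination h2, (hm (by linear_combination -h2)).elim]
    simp only [zero_add, m2_add] at h3
    simp only [← two_mul, two_eq_zero, two_eq_m2] at h3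
    rw [Eqv, Eqv, n_z]
    have h4 := pc_4q (k := k)
    rcases two_eq_m2.1 hw with rfl | rfl <;>
      rcases h3 with ⟨rfl | rfl, -, rfl | rfl⟩ | ⟨rfl | rfl, -, rfl | rfl⟩ <;>
      simp only [y, n, nz, mul_def, mk_eq, ← two_q4, cond_true, cond_false, Bool.xor_false, Bool.xor_true, Bool.not_true, Bool.not_false,
      sg_t, sg_f, and_self, true_and, and_true, Bool.true_eq_false, Bool.false_eq_true, false_and, and_false] <;>
      first
      | (left; left; left; (repeat' apply And.intro) <;> first | ring1 | linear_combination h4 | linear_combination -h4)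
      | (left; left; right; (repeat' apply And.intro) <;> first | ring1 | linear_combination h4 | linear_combination -h4)
      | (left; right; left; (repeat' apply And.intro) <;> first | ring1 | linear_combination h4 | linear_combination -h4)
      | (left; right; right; (repeat' apply And.intro) <;> first | ring1 | linear_combination h4 | linear_combination -h4)
      | (right; left; left; (repeat' apply And.intro) <;> first | ring1 | linear_combination h4 | linear_combination -h4)
      | (right; left; right; (repeat' apply And.intro) <;> first | ring1 | linear_combination h4 | linear_combination -h4)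
      | (right; right; left; (repeat' apply And.intro) <;> first | ring1 | linear_combination h4 | linear_combination -h4)
      | (right; right; right; (repeat' apply And.intro) <;> first | ring1 | linear_combination h4 | linear_combination -h4)
  · simp only [mul_def, mk_eq, cond_true, cond_false, Bool.xor_false, Bool.xor_true, Bool.not_true, Bool.not_false,
      sg_t, sg_f, and_self, true_and, and_true, Bool.true_eq_false, Bool.false_eq_true, false_and, and_false] at h1
    rcases h1 with ⟨h1, -, -⟩ | ⟨-, -, h1⟩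
    exacts [(hm (by linear_combination -h1 - hw)).elim, (hm (by linear_combination -h1)).elim]

theorem pc_ct : a1 k * t k = t k * a1 k ∧ e3 k * t k = t k * e3 k ∧ c4 k * t k = t k * c4 k ∧
    a1 k * e3 k * a1 k = e3 k ∧ c4 k * e3 k = e3 k * c4 k ∧ c4 k * c4 k = z k ∧
    a1 k ^ 2 ^ k * c4 k = y k ∧ y k * t k = τ k ∧ t k * t k = 1 ∧ t k ≠ 1 ∧ t k ≠ z k ∧
    c4 k * a1 k = a1 k * c4 k ∧ t k * n k ≠ n k * t k := by
  have := m2_ne (k := k)
  have e : (2 : R k) ^ k = q4 k := rfl
  simp [a1, t, e3, c4, z, y, τ, n, mul_def, PM.pw_mk, one_def, mk_eq, ← two_mul, two_q4, e, this, this.symm]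

theorem pc_n (d : MS ι ⊤) [IsSimpleGroup G] {x : PM k} (e : Eqv (z k) x (n k)) : ∃ g, Cj ι g x (z k) := by
  obtain ⟨g, h⟩ := n_fuse d
  rcases e with rfl | rfl
  exacts [⟨_, h⟩, ⟨_, (Cj.of' (by rw [n_z, pc_t_nz])).trans h⟩]

theorem pc_step1 [IsSimpleGroup G] (d : MS ι ⊤) : ∃ g, ∃ x ∈ kE k, Cj ι g (t k) x ∧
    Mp ι g (Cm zc_one (t k)) ⊤ ∧ Cj ι g (z k) (z k) := by
  obtain ⟨c1, -, -, -, -, -, -, -, c2, -, -, -, c3⟩ := pc_ct (k := k)
  obtain ⟨g, x, hx, e, a⟩ := thompson d (idx_two d c3) (kE k) (t k) (fun a => by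
    induction a using ind with | _ a b c e f s r =>
    cases s <;> simp [t, mul_def, mk_mem_kE, Xor']) c2
  obtain ⟨X, -, eX⟩ := a _ (mem_Cm_one.2 c1)
  have ez := eX.pow (2 ^ (k + 1))
  rw [a_pow.1] at ez
  have hE : ∀ w, Cj ι g (z k) w → (∀ u, u * w = w * u → u ∈ kE k) → Mp ι g (Cm zc_one (t k)) (kE k) :=
    fun w ew h p hp => (a p hp).imp fun q r => ⟨h q ((r.2.comm d.inj ew).1 (zc.c p)), r.2⟩
  rcases hpow ((ez.sq d.inj).1 zc.sq) with h | h | h | h <;> rw [h] at ez
  · exact (ez.ne_one d.inj pc_z_ne rfl).elim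
  · exact ⟨g, x, hx, e, a, ez⟩
  · obtain ⟨ρ, r1, -, r2, -⟩ := exists_rho d ez.symm
    obtain ⟨x', hx', e'⟩ := r1 x hx
    exact ⟨ρ * g, x', hx', e.trans e', ((hE _ ez fun _ => n_comm.1).trans r1).top, ez.trans r2⟩
  · obtain ⟨ρ, r1, -, r2, r3⟩ := exists_rho d (ez.trans (Cj.of' pc_t_nz)).symm
    obtain ⟨x', hx', e'⟩ := (r1.trans r1) x hx
    exact ⟨ρ * ρ * g, x', hx', e.trans e', ((hE _ ez fun _ => pc_nz_comm).trans (r1.trans r1)).top,
      ez.trans (((r2.mul r3).cast n_z pc_nz_z).trans r2)⟩

theorem pc_step2 [IsSimpleGroup G] (d : MS ι ⊤) (e : Cj ι g (t k) (y k)) (a : Mp ι g (Cm zc_one (t k)) ⊤)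
    (ez : Cj ι g (z k) (z k)) : To ι (z k) g (τ k) (n k) := by
  obtain ⟨c1, c2, c3, c4, c5, c6, c7, c8, -, -, -, c9, -⟩ := pc_ct (k := k)
  obtain ⟨X, -, eX⟩ := a _ (mem_Cm_one.2 c1)
  obtain ⟨κ, -, eκ⟩ := a _ (mem_Cm_one.2 c2)
  obtain ⟨V, -, eV⟩ := a _ (mem_Cm_one.2 c3)
  obtain ⟨h1, w, r, h2, h3⟩ := pc_inv ((eX.comm d.inj e).1 c1) ((eκ.comm d.inj e).1 c2)
    ((((eX.mul eκ).mul eX).cast c4 rfl).uq d.inj eκ) (((eX.pow _).cast a_pow.1 rfl).uq d.inj ez)
  have eW := (eX.pow (2 ^ k)).cast rfl h3
  have ey := (eW.mul eV).cast c7 rfl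
  rcases pc_fin h2 h1 ((eV.comm d.inj e).1 c3) ((eV.comm d.inj eW).1 (Commute.pow_right c9 _).eq)
    ((eV.comm d.inj eκ).1 c5) (((eV.mul eV).cast c6 rfl).uq d.inj ez) with h | h
  · obtain ⟨g', e'⟩ := pc_n d h
    exact (not_y d (ey.trans e')).elim
  · exact ⟨_, h, (ey.mul e).cast c8 rfl⟩

/-- `t` or `τ` is conjugate to `n` modulo `z` in the centralizer of `z` -/
theorem t_or_τ [IsSimpleGroup G] (d : MS ι ⊤) : ∃ g, Cj ι g (z k) (z k) ∧
    (To ι (z k) g (t k) (n k) ∨ To ι (z k) g (τ k) (n k)) := by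
  obtain ⟨c1, -, -, -, -, -, -, -, c2, c3, c4, -⟩ := pc_ct (k := k)
  obtain ⟨g, x, hx, e, a, ez⟩ := pc_step1 d
  obtain ⟨X, -, eX⟩ := a _ (mem_Cm_one.2 c1)
  have x2 := (e.sq d.inj).1 c2
  rcases pc_invol (root_comm (((eX.pow _).cast a_pow.1 rfl).uq d.inj ez) hx x2
    ((e.comm d.inj eX).1 c1.symm)) x2 with rfl | rfl | rfl | rfl | ⟨c, h⟩
  · exact (e.ne_one d.inj c3 rfl).elim
  · exact (c4 ((e.eq_iff d.inj ez).2 rfl)).elim
  · exact ⟨g, ez, .inl (.of e)⟩
  · exact ⟨g, ez, .inl (.of' e)⟩
  · have ez' := ez.trans (Cj.of' (k := c) (by rw [zc.c, mul_inv_cancel_right]))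
    exact ⟨_, ez', .inr (pc_step2 d (e.trans (Cj.of' h)) (a.trans (Mp.of fun _ _ => trivial)) ez')⟩

theorem pc_to {θ : PM k →* PM k} {x : PM k} (hz : θ (z k) = z k) (hn : θ (n k) = n k)
    (e : To ι (z k) g (θ x) (n k)) : To (ι.comp θ) (z k) g x (n k) := by
  rcases e.cases with e | e
  exacts [.of (cj_comp.2 (by rwa [hn])), .of' (cj_comp.2 (by rwa [map_mul, hn, hz]))]

theorem pc_nf [IsSimpleGroup G] (d : MS ι ⊤) (h1 : Cj ι g (z k) (z k)) (h2 : To ι (z k) g (t k) (n k)) :
    ∃ ι' : PM k →* G, NF ι' := by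
  obtain ⟨g', hn⟩ := n_fuse d
  obtain ⟨μ, r, hδ⟩ := exists_δ d hn
  have a1 : Λ μ r (z k) = z k := by simp [z, Λ_mk, mul_comm μ, m2_mul_odd r]
  have a2 : Λ μ r (n k) = n k := by simp [n, Λ_mk]
  have a3 : Λ μ r (t k) = t k := by simp [t, Λ_mk]
  have d' := MS.comp d (Λ_inj r)
  exact ⟨_, d', exists_φ d' (n_fuse d') (cj_comp.2 (by rwa [a1])) (pc_to a1 a2 (by rwa [a3])), hδ⟩

/-- the normal form -/
theorem exists_nf [IsSimpleGroup G] (d : MS ι ⊤) : ∃ ι' : PM k →* G, NF ι' := by
  obtain ⟨g, h1, h2 | h2⟩ := t_or_τ d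
  · exact pc_nf d h1 h2
  · obtain ⟨Θ, i, a1, a2, a3⟩ := exists_Θ (k := k)
    exact pc_nf (MS.comp d i) (cj_comp.2 (by rwa [a1])) (pc_to a1 a2 (by rwa [a3]))

end Cfsg.Agent.L4F.P
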