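import Mathlib
import Cfsg.Agent.L4F.WK
import Cfsg.Agent.L4P.Defs
import Cfsg.Agent.W42.Data

/-! `WK k` is a Sylow 2-subgroup of `L₄(q)`, `q ≡ 3 (4)`. -/

set_option autoImplicit false
set_option linter.unusedSectionVars false

namespace Cfsg.Agent.L4F

open Subgroup Cfsg Cfsg.Agent.BF Cfsg.Agent.GHO Cfsg.Agent.P4T Cfsg.Agent.PLocal.Amb
open scoped MatrixGroups

variable {k : ℕ}

/-- the central involution -/
def wz (k : ℕ) : WK k := ⟨m2 k, m2 k, false, false, false⟩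

theorem wk_center {a : WK k} (h : ∀ b, b * a = a * b) : a = 1 ∨ a = wz k := by
  obtain ⟨u, v, e, f, s⟩ := a
  have h1 := h ⟨1, 0, false, false, false⟩
  have h2 := h ⟨0, 0, false, true, false⟩
  have h3 := h ⟨0, 0, false, false, true⟩
  have h5 := two_ne_zero' (k := k)
  cases e <;> cases f <;> cases s <;> simp [WK.mul_def] at h1 h2 h3
  · have : 2 * v = 0 := by linear_combination -h2
    rcases two_eq_zero.1 this with r | r
    · left; simp [WK.one_def, ← h3.1, r]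
    · right; simp [wz, ← h3.1, r]
  · exact absurd (by linear_combination h1) h5

theorem wk_inj {G : Type*} [Group G] (ι : WK k →* G) (h : ι (wz k) ≠ 1) :
    Function.Injective ι := by
  rw [← MonoidHom.ker_eq_bot_iff]
  by_contra r
  obtain ⟨⟨a, ha, hc⟩, h1⟩ := ne_bot_iff_exists_ne_one.1
    (PLocal.GN.inf_center_ne_bot (IsPGroup.of_card (p := 2) WK.card_eq) r)
  rcases wk_center (mem_center_iff.1 hc) with r | r
  · exact h1 (Subtype.ext r)
  · exact h (r ▸ ha)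

section lift

variable {G : Type*} [Group G]

/-- the defining relations -/
structure WRel (k : ℕ) (a b w t : G) : Prop where
  ha : a ^ 2 ^ (k + 2) = 1
  ab : a * b = b * a
  ta : t * a = b * t
  tt : t * t = 1
  ww : w * w = 1
  wa : w * a = a * w
  wb : w * b = b⁻¹ * w
  wt : t * w * t * w = w * (t * w * t)

variable {a b w t : G}

theorem WRel.rel (h : WRel k a b w t) : P4T.Rel k 1 1 w t :=
  ⟨by simp, rfl, by simp, by simp, h.ww, h.tt, by simp, by simp, h.wt⟩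

theorem WRel.ta' (h : WRel k a b w t) : t * a * t⁻¹ = b := mul_inv_eq_of_eq_mul h.ta

theorem WRel.hb (h : WRel k a b w t) : b ^ 2 ^ (k + 2) = 1 := by rw [← h.ta', conj_pow, h.ha]; simp

theorem WRel.tb (h : WRel k a b w t) : t * b * t⁻¹ = a := by
  rw [← h.ta', ← mul_assoc, ← mul_assoc, h.tt, mul_assoc, ← mul_inv_rev, h.tt]; simp

/-- the value on the abelian part -/
def bv (a b : G) (u v : R k) : G := a ^ u.val * b ^ v.val

theorem WRel.bv_add (h : WRel k a b w t) (u v u' v' : R k) :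
    bv a b (u + u') (v + v') = bv a b u v * bv a b u' v' := by
  rw [bv, bv, bv, pw_add h.ha, pw_add h.hb]
  exact (Commute.pow_pow h.ab _ _).mul_mul_mul_comm _ _

theorem WRel.bv_w (h : WRel k a b w t) (u v : R k) : w * bv a b u v = bv a b u (-v) * w := by
  rw [bv, bv, pw_neg h.hb, ← inv_pow]
  calc _ = (w * a * w⁻¹) ^ u.val * (w * b * w⁻¹) ^ v.val * w := by rw [conj_pow, conj_pow]; group
    _ = _ := by rw [mul_inv_eq_of_eq_mul h.wa, mul_inv_eq_of_eq_mul h.wb]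

theorem WRel.bv_t (h : WRel k a b w t) (u v : R k) : t * bv a b u v = bv a b v u * t := by
  rw [bv, bv, (Commute.pow_pow h.ab v.val u.val).eq]
  calc _ = (t * a * t⁻¹) ^ u.val * (t * b * t⁻¹) ^ v.val * t := by rw [conj_pow, conj_pow]; group
    _ = _ := by rw [h.ta', h.tb]

theorem WRel.bv_r (h : WRel k a b w t) (u v : R k) :
    t * w * t * bv a b u v = bv a b (-u) v * (t * w * t) := by
  rw [mul_assoc, h.bv_t, ← mul_assoc, mul_assoc t, h.bv_w, ← mul_assoc, h.bv_t]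
  simp only [mul_assoc]

theorem WRel.cj (h : WRel k a b w t) (e f s : Bool) (u v : R k) :
    dv w t e f s * bv a b u v = bv a b (sg e (cond s v u)) (sg f (cond s u v)) * dv w t e f s := by
  have h1 : cond s t 1 * bv a b u v = bv a b (cond s v u) (cond s u v) * cond s t 1 := by
    cases s
    exacts [by simp, h.bv_t u v]
  have h2 : cond f w 1 * bv a b (cond s v u) (cond s u v) =
      bv a b (cond s v u) (sg f (cond s u v)) * cond f w 1 := by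
    cases f
    exacts [by simp, h.bv_w _ _]
  have h3 : cond e (t * w * t) 1 * bv a b (cond s v u) (sg f (cond s u v)) =
      bv a b (sg e (cond s v u)) (sg f (cond s u v)) * cond e (t * w * t) 1 := by
    cases e
    exacts [by simp, h.bv_r _ _]
  rw [dv, mul_assoc, mul_assoc (cond f w 1), h1, ← mul_assoc (cond f w 1), h2, ← mul_assoc,
    ← mul_assoc, h3]
  simp only [mul_assoc]

/-- the homomorphism given by the relations -/
def WRel.lift (h : WRel k a b w t) : WK k →* G := MonoidHom.mk'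
  (fun g => bv a b g.u g.v * dv w t g.e g.f g.s) (by
    rintro ⟨u, v, e, f, s⟩ ⟨u', v', e', f', s'⟩
    simp only [WK.mul_def]
    rw [h.bv_add, h.rel.dv_mul, mul_assoc, mul_assoc, ← mul_assoc (dv w t e f s),
      h.cj e f s, mul_assoc])

theorem WRel.lift_z (h : WRel k a b w t) : h.lift (wz k) = (a * b) ^ 2 ^ (k + 1) := by
  have : (m2 k).val = 2 ^ (k + 1) := by
    have := ZMod.val_cast_of_lt (n := 2 ^ (k + 2)) (a := 2 ^ (k + 1))
      (Nat.pow_lt_pow_right (by omega) (by omega))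
    rwa [Nat.cast_pow, Nat.cast_ofNat] at this
  rw [Commute.mul_pow h.ab]
  simp [WRel.lift, wz, bv, dv, this]

end lift

section mat

open L4Q

variable {F : Type*} [Field F]

theorem hk_pow (x y : M2 F) (h) (n : ℕ) : ((⟨x, y, false, h⟩ : HK F) ^ n).a = x ^ n ∧
    ((⟨x, y, false, h⟩ : HK F) ^ n).b = y ^ n ∧ ((⟨x, y, false, h⟩ : HK F) ^ n).s = false := by
  induction n with
  | zero => simp
  | succ n ih => simp [pow_succ, ih.1, ih.2.1, ih.2.2]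

theorem exists_zeta [Fintype F] (h : Fintype.card F % 4 = 3) {m : ℕ} (hm : Odd m)
    (hq : Fintype.card F + 1 = 2 ^ (k + 2) * m) :
    ∃ ζ ζ' j : M2 F, ζ * ζ' = -1 ∧ ζ' * ζ = -1 ∧ ζ.det = -1 ∧ ζ'.det = -1 ∧ j.det = 1 ∧
      ζ ^ 2 ^ (k + 2) = -1 ∧ j * j = -1 ∧ j * ζ = ζ' * j := by
  have h2 : (2 : F) ≠ 0 := Inv.two_ne_zero_of_odd (Nat.odd_iff.2 (by omega))
  obtain ⟨x, y, e⟩ := exists_norm h2 (m := -1) (by simp) (-1 : F)
  have e1 : (!![x, y; -y, x] * !![x, -y; y, x] : M2 F) = -1 := by simp only [mm]; grind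
  have e2 : (!![x, -y; y, x] * !![x, y; -y, x] : M2 F) = -1 := by simp only [mm]; grind
  have c : Commute (!![x, y; -y, x] : M2 F) !![x, -y; y, x] := e1.trans e2.symm
  have d1 : (!![x, y; -y, x] : M2 F).det = -1 := by simp only [mm]; grind
  have d2 : (!![x, -y; y, x] : M2 F).det = -1 := by simp only [mm]; grind
  have fr : (!![x, y; -y, x] : M2 F) ^ Fintype.card F = !![x, -y; y, x] := by
    obtain ⟨n, hp, hn⟩ := FiniteField.card F (ringChar F)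
    haveI := Fact.mk hp
    have s1 : (!![x, y; -y, x] : M2 F) = x • 1 + y • jm := by
      ext i j; fin_cases i <;> fin_cases j <;> simp [jm]
    have j4 : (jm : M2 F) ^ 4 = 1 := by
      rw [show 4 = 2 * 2 from rfl, pow_mul, pow_two jm, jm_jm]; simp
    have jq : (jm : M2 F) ^ Fintype.card F = -jm := by
      rw [pow_eq_pow_mod _ j4, h, pow_succ, pow_two, jm_jm]; simp
    rw [s1, hn, add_pow_char_pow_of_commute _ _ (by simp [Commute, SemiconjBy, smul_comm y x]), ← hn, smul_pow,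
      smul_pow, one_pow, FiniteField.pow_card, FiniteField.pow_card, jq]
    ext i j; fin_cases i <;> fin_cases j <;> simp [jm]
  refine ⟨!![x, y; -y, x] ^ m, !![x, -y; y, x] ^ m, !![x, y; y, -x], ?_, ?_, ?_, ?_, ?_, ?_, ?_, ?_⟩
  · rw [← c.mul_pow, e1, hm.neg_one_pow]
  · rw [← c.symm.mul_pow, e2, hm.neg_one_pow]
  · rw [Matrix.det_pow, d1, hm.neg_one_pow]
  · rw [Matrix.det_pow, d2, hm.neg_one_pow]
  · simp only [mm]; grind
  · rw [← pow_mul, mul_comm m, ← hq, pow_succ, fr, e2]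
  · simp only [mm]; grind
  · exact (SemiconjBy.pow_right (a := (!![x, y; y, -x] : M2 F)) (x := !![x, y; -y, x])
      (y := !![x, -y; y, x]) (by simp only [SemiconjBy, mm]; grind) m).eq

theorem exists_wrel (h2 : (2 : F) ≠ 0) {ζ ζ' j : M2 F} (e1 : ζ * ζ' = -1) (e2 : ζ' * ζ = -1)
    (d1 : ζ.det = -1) (d2 : ζ'.det = -1) (d3 : j.det = 1) (hz : ζ ^ 2 ^ (k + 2) = -1)
    (jj : j * j = -1) (jz : j * ζ = ζ' * j) :
    ∃ a b w t : PSL(4, F), WRel k a b w t ∧ (a * b) ^ 2 ^ (k + 1) ≠ 1 := by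
  have ev : Even (2 ^ (k + 1)) := (Nat.even_pow' (by omega)).2 even_two
  obtain ⟨ι, hι⟩ : ∃ ι, ι = ζ ^ 2 ^ (k + 1) := ⟨_, rfl⟩
  have c : Commute ζ ζ' := e1.trans e2.symm
  have ii : ι * ι = -1 := by rw [hι, ← pow_add, ← two_mul, ← pow_succ', hz]
  have di : ι.det = 1 := by rw [hι, Matrix.det_pow, d1, ev.neg_one_pow]
  have iz : ι * ζ = ζ * ι := hι ▸ ((Commute.refl ζ).pow_left _).eq
  have iz' : ι * ζ' = ζ' * ι := hι ▸ (c.pow_left _).eq
  have ji : j * ι = -(ι * j) := by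
    have a1 : j * ι = ζ' ^ 2 ^ (k + 1) * j := hι ▸ (SemiconjBy.pow_right jz _).eq
    have a2 : ι * ζ' ^ 2 ^ (k + 1) = 1 := by rw [hι, ← c.mul_pow, e1, ev.neg_one_pow]
    have a3 : ζ' ^ 2 ^ (k + 1) = -ι := by
      calc _ = -(ι * ι) * ζ' ^ 2 ^ (k + 1) := by rw [ii]; simp
        _ = _ := by rw [neg_mul, mul_assoc, a2, mul_one]
    rw [a1, a3, neg_mul]
  have i1 : ι * (ι * j) = -j := by rw [← mul_assoc, ii]; simp
  have i2 : ι * j * ι = j := by rw [mul_assoc, ji, mul_neg, i1, neg_neg]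
  have i3 : ι * j * (ι * j) = -1 := by rw [← mul_assoc, i2, jj]
  have i4 : ι * j * ζ = ζ' * (ι * j) := by rw [mul_assoc, jz, ← mul_assoc, iz', mul_assoc]
  refine ⟨L4P.pr ⟨ζ, ζ, false, by simp [d1]⟩, L4P.pr ⟨ζ, ζ', false, by simp [d1, d2]⟩, L4P.pr ws,
    L4P.pr ⟨ι, ι * j, false, by simp [di, d3]⟩, ⟨?_, ?_, ?_, ?_, ?_, ?_, ?_, ?_⟩, ?_⟩
  · rw [← map_pow, ← map_one L4P.pr, L4P.pr_eq]
    obtain ⟨p1, p2, p3⟩ := hk_pow ζ ζ (by simp [d1]) (2 ^ (k + 2))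
    exact ⟨-1, by simp [p1, hz], by simp [p2, hz], p3⟩
  · rw [← map_mul, ← map_mul, L4P.pr_eq]
    exact ⟨1, by simp, by simp [c.eq], rfl⟩
  · rw [← map_mul, ← map_mul, L4P.pr_eq]
    exact ⟨1, by simp [iz], by simp [i4], rfl⟩
  · rw [← map_mul, ← map_one L4P.pr, L4P.pr_eq]
    exact ⟨-1, by simp [ii], by simp [i3], rfl⟩
  · rw [← map_mul, ← map_one L4P.pr, L4P.pr_eq]
    exact ⟨1, by simp, by simp, rfl⟩
  · rw [← map_mul, ← map_mul, L4P.pr_eq]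
    exact ⟨1, by simp, by simp, rfl⟩
  · rw [eq_inv_mul_iff_mul_eq, ← map_mul, ← map_mul, L4P.pr_eq]
    exact ⟨-1, by simp [e1], by simp [e2], rfl⟩
  · rw [← map_mul, ← map_mul, ← map_mul, ← map_mul, L4P.pr_eq]
    exact ⟨-1, by simp [i1, i2], by simp [i1, i2], rfl⟩
  · rw [← map_mul, ← map_pow, ← map_one L4P.pr, Ne, L4P.pr_eq]
    obtain ⟨p1, p2, p3⟩ := hk_pow (ζ * ζ) (ζ * ζ') (by simp [d1, d2]) (2 ^ (k + 1))
    have : (⟨ζ * ζ, ζ * ζ', false, by simp [d1, d2]⟩ : HK F) ^ 2 ^ (k + 1) = t0 := by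
      ext1
      · rw [p1, ← pow_two, ← pow_mul, ← pow_succ', hz, t0_a]
      · rw [p2, e1, ev.neg_one_pow, t0_b]
      · exact p3
    exact fun r => not_sc_t0 h2 (this ▸ r)

end mat

theorem le_of_dvdW {F : Type*} [Field F] [Fintype F] (h : Fintype.card F % 4 = 3) {m n : ℕ}
    (hm : Odd m) (hq : Fintype.card F + 1 = 2 ^ (k + 2) * m) (hn : 2 ^ n ∣ Nat.card PSL(4, F)) :
    n ≤ 2 * k + 7 := by
  have h1 := Class.gcd_mul_card_PSL (ι := Fin 4) (F := F)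
  have h2 := Class.card_units_mul_card_SL (ι := Fin 4) (R := F)
  rw [Matrix.card_GL_field, Nat.card_units, ← h1, Nat.card_eq_fintype_card (α := F)] at h2
  obtain ⟨r, hr⟩ : ∃ r, Fintype.card F = 4 * r + 3 := ⟨Fintype.card F / 4, by omega⟩
  rw [hr] at h2 hq
  have g : Nat.gcd (Fintype.card (Fin 4)) (4 * r + 3 - 1) = 2 := by
    rw [Fintype.card_fin, show 4 * r + 3 - 1 = 2 + r * 4 by omega, Nat.gcd_add_mul_right_right]
    rfl
  have e0 : (4 * r + 3) ^ 4 - (4 * r + 3) ^ 0 =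
      (4 * r + 2) * ((4 * r + 3 + 1) * (2 * (2 * (4 * r ^ 2 + 6 * r + 2) + 1))) :=
    Nat.sub_eq_of_eq_add (by ring)
  have e1 : (4 * r + 3) ^ 4 - (4 * r + 3) ^ 1 =
      (4 * r + 3) * (2 * (2 * r + 1) * (2 * (8 * r ^ 2 + 14 * r + 6) + 1)) :=
    Nat.sub_eq_of_eq_add (by ring)
  have e2 : (4 * r + 3) ^ 4 - (4 * r + 3) ^ 2 =
      (4 * r + 3) ^ 2 * (2 * (2 * r + 1) * (4 * r + 3 + 1)) :=
    Nat.sub_eq_of_eq_add (by ring)
  have e3 : (4 * r + 3) ^ 4 - (4 * r + 3) ^ 3 = (4 * r + 3) ^ 3 * (2 * (2 * r + 1)) :=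
    Nat.sub_eq_of_eq_add (by ring)
  rw [g, Fin.prod_univ_four] at h2
  simp only [Fin.val_zero, Fin.val_one, Fin.val_two, show ((3 : Fin 4) : ℕ) = 3 from rfl] at h2
  rw [e0, e1, e2, e3, hq, show 4 * r + 3 - 1 = 4 * r + 2 from rfl] at h2
  have h3 : Nat.card PSL(4, F) = 2 ^ (2 * k + 7) * (m ^ 2 * (2 * (4 * r ^ 2 + 6 * r + 2) + 1) *
      (2 * (8 * r ^ 2 + 14 * r + 6) + 1) * (2 * r + 1) ^ 3 * (4 * r + 3) ^ 6) := by
    apply Nat.eq_of_mul_eq_mul_left (show 0 < (4 * r + 2) * 2 by omega)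
    rw [mul_assoc, h2]; ring
  have h7 : Odd (m ^ 2 * (2 * (4 * r ^ 2 + 6 * r + 2) + 1) *
      (2 * (8 * r ^ 2 + 14 * r + 6) + 1) * (2 * r + 1) ^ 3 * (4 * r + 3) ^ 6) :=
    (((hm.pow.mul ⟨_, rfl⟩).mul ⟨_, rfl⟩).mul (Odd.pow ⟨_, rfl⟩)).mul
      (Odd.pow ⟨2 * r + 1, by ring⟩)
  rw [h3] at hn
  exact (Nat.pow_dvd_pow_iff_le_right one_lt_two).1
    ((Nat.Coprime.pow_left _ (Nat.coprime_two_left.2 h7)).dvd_of_dvd_mul_right hn)

instance instDecWK : DecidableEq (WK 0) := fun a b =>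
  decidable_of_iff (a.u = b.u ∧ a.v = b.v ∧ a.e = b.e ∧ a.f = b.f ∧ a.s = b.s) WK.ext_iff.symm

/-- the images of the generators -/
def gW (n : ℕ) : WK 0 :=
  [⟨2, 0, false, false, false⟩, ⟨0, 2, false, false, false⟩, ⟨0, 0, true, false, false⟩,
    ⟨0, 0, false, true, false⟩, ⟨1, 0, true, false, false⟩, ⟨0, 1, false, true, false⟩,
    ⟨0, 0, false, false, true⟩].getD n 1

/-- Pattern: `P4T/K` (`Rel`, `Rel.lift`, `inj_of_z`), `P4T/Syl` (`exists_ms`, `le_of_dvd`).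
Let `2 ^ (k + 2) ∥ q + 1`.  Relations for a hom `WK k →* G`, `⟨u, v, e, f, s⟩ ↦ a ^ u.val * b ^ v.val *
(t w t) ^ e * w ^ f * t ^ s`: `a ^ 2 ^ (k+2) = 1`, `t a t⁻¹ = b`, `t² = w² = 1`, `a b = b a`, `w a = a w`,
`w b w⁻¹ = b⁻¹`, `w (t w t) = (t w t) w`.  The hom is injective iff `(a b) ^ 2 ^ (k+1) ≠ 1` (the centre of
`WK k` is `⟨(m2, m2, 0, 0, 0)⟩`).
In `L₄(q)` (block matrices, `L4P.HK`, `L4P.pr`, `L4P.pr_eq`, or directly in `SL(4, F)` modulo `± 1`): take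
`ζ ∈ GL₂(F)` with `ζ ^ 2 ^ (k+2) = -1`, `det ζ = -1` and `j ∈ SL₂(F)`, `j² = -1`, `j ζ j⁻¹ = -ζ⁻¹`
(from `GHO.exists_quat`: `ζ₀ ∈ SL₂` of order `2 ^ (k+2)`, `j`; `trace ζ₀ - 2` is a nonzero square `r²` as
`trace ζ₀ + 2` is a nonsquare [else `ζ₀` is a square in `SL₂`, `L4P.Ln.exists_sqrt`] and `-1` is a nonsquare
and `(t-2)(t+2)` is a nonsquare; `ζ = r⁻¹ (ζ₀ - 1)` has `ζ² = ζ₀`, `det ζ = -1`; or use `L4P.exists_sy`'s
proof ideas, `exists_D_sy`, or any other construction, e.g. `ζ = x + y jm` with `x² + y² = -1`).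
`a = diag(ζ, ζ)`, `b = diag(ζ, -ζ⁻¹)`, `w = ` exchange of the blocks (`ws`), `ι = ζ ^ 2 ^ (k+1)`
(`ι² = -1`, `j ι j⁻¹ = ι⁻¹`), `t = diag(ι, ι j)`; `t w t⁻¹ = [[0, j], [-j, 0]]`.
Sylow: `|L₄(q)|₂ = 2 ^ (2 k + 7)` (`|SL₄| = q⁶ (q²-1)(q³-1)(q⁴-1)`, centre of order 2), `WK.card_eq`,
`IsSyl.of_card_ge`. -/
theorem exists_msW {F : Type*} [Field F] [Fintype F] (h : Fintype.card F % 4 = 3) :
    ∃ k, ∃ ι : WK k →* PSL(4, F), MS ι ⊤ ∧ (k ≠ 0 → Fintype.card F % 8 ≠ 3) := by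
  obtain ⟨k', m, hm, hq⟩ := Nat.exists_eq_two_pow_mul_odd (Nat.succ_ne_zero (Fintype.card F))
  obtain ⟨k, rfl⟩ : ∃ k, k' = k + 2 := by
    obtain ⟨r, rfl⟩ := hm
    rcases k' with _ | _ | k
    · omega
    · omega
    · exact ⟨k, rfl⟩
  have h2 : (2 : F) ≠ 0 := Inv.two_ne_zero_of_odd (Nat.odd_iff.2 (by omega))
  obtain ⟨ζ, ζ', j, e1, e2, d1, d2, d3, hz, jj, jz⟩ := exists_zeta h hm hq
  obtain ⟨a, b, w, t, r, r1⟩ := exists_wrel h2 e1 e2 d1 d2 d3 hz jj jz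
  have i := wk_inj r.lift (r.lift_z ▸ r1)
  have hc : Nat.card r.lift.range = 2 ^ (2 * k + 7) :=
    (Nat.card_congr (MonoidHom.ofInjective i).toEquiv).symm.trans WK.card_eq
  have hp : IsPGroup 2 r.lift.range := IsPGroup.of_card hc
  obtain ⟨T, hT, -⟩ := exists_isSyl_ge hp le_top
  refine ⟨k, r.lift, ⟨i, hT.of_card_ge hp le_top ?_⟩, fun k0 => ?_⟩
  · obtain ⟨n, hn⟩ := hT.pgrp.exists_card_eq
    rw [hn, hc]
    exact Nat.pow_le_pow_right two_pos (le_of_dvdW h hm hq (hn ▸ card_subgroup_dvd_card T))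
  · obtain ⟨k, rfl⟩ := Nat.exists_eq_succ_of_ne_zero k0
    have : 2 ^ (k.succ + 2) * m = 8 * (2 ^ k * m) := by rw [Nat.succ_eq_add_one]; ring
    omega

/-- `TG.exists_hom W42.chkR` with the generators `z1 = (2,0,0,0,0)`, `z2 = (0,2,0,0,0)`, `u1 = (0,0,1,0,0)`,
`u2 = (0,0,0,1,0)`, `v1 = (1,0,1,0,0)`, `v2 = (0,1,0,1,0)`, `t = (0,0,0,0,1)` (give `WK 0` a `DecidableEq`
instance via `WK.eqv`; check `KB.Valid` by `decide`); injective by `decide` or through the centre;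
both groups have order 128. -/
theorem exists_w42 : ∃ θ : W42.K →* WK 0, Function.Bijective θ := by
  obtain ⟨φ, -, h⟩ := SylT.TG.exists_hom W42.chkR gW (by
    simp only [Comp.KB.Valid]
    decide +kernel)
  refine ⟨φ, (Nat.bijective_iff_injective_and_card _).2 ⟨(injective_iff_map_eq_one φ).2 ?_,
    (SylT.TG.card_eq (b := 7)).trans (WK.card_eq (k := 0)).symm⟩⟩
  simp only [h]
  decide +kernel

end Cfsg.Agent.L4F
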