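import Mathlib
import Cfsg.Agent.L4F.WD

/-! Fusion on `WK k = D ≀ 2`: involutions, generators, the bottom level of the tower.
API: `L4F/Alp`, `L4F/Trk`, `BF/Base`; coordinates by `cases e <;> cases f <;> cases s <;> simp [mul_def, inv_def, ..]`,
`two_eq_zero`, `two_eq_m2`, `par`, `pr`, `linear_combination`.  Below `h = m2 k`, `q = q4 k` (even as `k ≠ 0`),
`A = {e = f = s = false}`, `U = ⟨z1, z2⟩`, `D × D = {s = false} = C(z1)`. -/

set_option autoImplicit false
set_option linter.unusedSectionVars false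

namespace Cfsg.Agent.L4F.W

open Subgroup Cfsg Cfsg.Agent.BF Cfsg.Agent.TT Cfsg.Agent.GHO Cfsg.Agent.P4T Cfsg.Agent.Gold
  Cfsg.Agent.PLocal.Amb WK

variable {k : ℕ} [NeZero k] {G : Type*} [Group G] [Finite G] {ι : WK k →* G} {g : G}
  {Good : Subgroup (WK k) → G → Prop}

/-- conjugacy classes of involutions.  `s = true`: `e = f`, conjugate by `u 0` (if `e = true`) and `(a, 0)`.
`(a, b, 1, 1, 0)`: conjugation by `(α, 0)` adds `2 α` to `a`; parity of `a + b`. -/
theorem invol {x : WK k} (h : x * x = 1) : x = 1 ∨ x = z k ∨ ∃ c, c * x * c⁻¹ = z1 k ∨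
    c * x * c⁻¹ = t k ∨ ∃ p, c * x * c⁻¹ = u p ∨ c * x * c⁻¹ = x4 p ∨ c * x * c⁻¹ = x5 p ∨
      c * x * c⁻¹ = x6 p := by
  obtain ⟨a, b, e, f, s⟩ := x
  cases e <;> cases f <;> cases s <;> simp [mul_def, one_def, ← two_mul] at h
  · rcases two_eq_zero.1 h.1 with rfl | rfl <;> rcases two_eq_zero.1 h.2 with rfl | rfl
    · exact .inl rfl
    · exact .inr (.inr ⟨t k, .inl (by simp [mul_def, inv_def, t, z1])⟩)
    · exact .inr (.inr ⟨1, .inl (by simp [z1])⟩)
    · exact .inr (.inl rfl)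
  · refine .inr (.inr ⟨⟨-a, 0, false, false, false⟩, .inr (.inl ?_)⟩)
    simp [mul_def, inv_def, t]
    linear_combination h.1
  · rcases two_eq_zero.1 h with rfl | rfl
    · exact .inr (.inr ⟨t k, .inr (.inr ⟨b, .inl (by simp [mul_def, inv_def, t, u])⟩)⟩)
    · exact .inr (.inr ⟨t k, .inr (.inr ⟨b - m2 k, .inr (.inr (.inr
        (by simp [mul_def, inv_def, t, x6])))⟩)⟩)
  · rcases two_eq_zero.1 h with rfl | rfl
    · exact .inr (.inr ⟨1, .inr (.inr ⟨a, .inl (by simp [u])⟩)⟩)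
    · exact .inr (.inr ⟨1, .inr (.inr ⟨a - m2 k, .inr (.inr (.inr (by simp [x6])))⟩)⟩)
  · rcases par (b + m2 k - a) with ⟨c, hc⟩ | ⟨c, hc⟩
    · refine .inr (.inr ⟨⟨c, 0, false, false, false⟩, .inr (.inr ⟨b, .inr (.inl ?_)⟩)⟩)
      simp [mul_def, inv_def, x4]
      linear_combination -hc
    · refine .inr (.inr ⟨⟨c, 0, false, false, false⟩, .inr (.inr ⟨b - 1, .inr (.inr (.inl ?_))⟩)⟩)
      simp [mul_def, inv_def, x5]
      linear_combination -hc
  · refine .inr (.inr ⟨u a, .inr (.inl ?_)⟩)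
    simp [mul_def, inv_def, t, u]
    linear_combination -h.1

theorem dec (a b : R k) (e f s : Bool) : (⟨a, b, e, f, s⟩ : WK k) =
    ⟨a, b, false, false, false⟩ * ⟨0, 0, e, f, false⟩ * ⟨0, 0, false, false, s⟩ := by
  cases e <;> cases f <;> cases s <;> simp [mul_def]

theorem mem_of_eq' {H : Subgroup (WK k)} {x y : WK k} (h : x ∈ H) (e : x = y) : y ∈ H := e ▸ h

theorem mem_sw {H : Subgroup (WK k)} (h : t k ∈ H) (s : Bool) :
    (⟨0, 0, false, false, s⟩ : WK k) ∈ H := by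
  cases s
  exacts [one_mem H, h]

/-- `Cm t = {e = f, a - b ∈ {0, h}}`; `(a, a) = a1 ^ a.val` (`pw_mk`), `z2 = I1' * I2`, `I1'⁻¹ = a1 ^ 2 ^ k`,
`t = I1' * J2`, `(0,0,1,1,0) = z * j1 * z1 * t` up to `z`. -/
theorem gen_φ : Gen (Cm zc (t k)) (lφ k) := by
  intro H hH
  simp only [lφ, List.mem_cons, List.not_mem_nil, or_false, forall_eq_or_imp, forall_eq] at hH
  obtain ⟨hz, ha, hj, hJ, hI⟩ := hH
  have hA : ∀ a : R k, (⟨a, a, false, false, false⟩ : WK k) ∈ H := fun a =>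
    mem_of_eq' (pow_mem ha a.val) (by simp [a1, WK.pw_mk])
  have hz2 : z2 k ∈ H := mem_of_eq' (mul_mem (hA (-q4 k)) hI) (by
    simp [mul_def, I2, z2]; linear_combination -two_q4 - two_m2 (k := k))
  have ht : t k ∈ H := mem_of_eq' (mul_mem (hA (-q4 k)) hJ) (by simp [mul_def, J2, t])
  have hw : (⟨0, 0, true, true, false⟩ : WK k) ∈ H :=
    mem_of_eq' (mul_mem (mul_mem hz hz2) (mul_mem hj ht)) (by simp [mul_def, j1, t, z, z2, m2_add])
  have hw' : ∀ e, (⟨0, 0, e, e, false⟩ : WK k) ∈ H := fun e => by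
    cases e
    exacts [one_mem H, hw]
  rintro ⟨a, b, e, f, s⟩ hy
  have : e = f ∧ (b = a ∨ b = a + m2 k) := by
    rw [mem_Cm] at hy
    cases e <;> cases f <;> cases s <;> simp [mul_def, inv_def, t, z] at hy ⊢ <;>
      exact hy.imp (fun r => by linear_combination r.2) (fun r => by linear_combination r.2)
  obtain ⟨rfl, h⟩ := this
  rw [dec]
  refine mul_mem (mul_mem ?_ (hw' e)) (mem_sw ht s)
  rcases h with rfl | rfl
  · exact hA _
  · exact mem_of_eq' (mul_mem (hA a) hz2) (by simp [mul_def, z2])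

/-- `Cm (x4 p) = {y | 2 a + sg e p - p = 2 b + sg f p - p ∈ {0, h}}` (any `s`); it is generated by
`I1', I2, u p, t`: multiply `y` by `t ^ s`, `u p`, `v p = t (u p) t` to get into `A`. -/
theorem gen_4 (p : R k) : Gen (Cm zc (x4 p)) (l4 p) := by
  intro H hH
  simp only [l4, List.mem_cons, List.not_mem_nil, or_false, forall_eq_or_imp, forall_eq] at hH
  obtain ⟨hz, -, h1, hJ, h2, hu⟩ := hH
  have hz2 : z2 k ∈ H := mem_of_eq' (mul_mem h1 h2) (by
    simp [mul_def, I1', I2, z2]; linear_combination -two_q4 - two_m2 (k := k))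
  have ht : t k ∈ H := mem_of_eq' (mul_mem h1 hJ) (by simp [mul_def, I1', J2, t])
  have hv : v p ∈ H := mem_of_eq' (mul_mem (mul_mem ht hu) ht) (by simp [mul_def, u, v, t])
  have hA : ∀ a b : R k, (2 * a = 0 ∧ 2 * b = 0) ∨ (2 * a = m2 k ∧ 2 * b = m2 k) →
      (⟨a, b, false, false, false⟩ : WK k) ∈ H := by
    rintro a b (⟨ha, hb⟩ | ⟨ha, hb⟩)
    · rcases two_eq_zero.1 ha with rfl | rfl <;> rcases two_eq_zero.1 hb with rfl | rfl
      exacts [one_mem H, hz2, mem_of_eq' (mul_mem hz hz2) (by simp [mul_def, z, z2, m2_add]), hz]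
    · rcases two_eq_m2.1 ha with rfl | rfl <;> rcases two_eq_m2.1 hb with rfl | rfl
      exacts [mem_of_eq' (inv_mem h1) (by simp [inv_def, I1']), h2,
        mem_of_eq' (inv_mem h2) (by simp [inv_def, I2]), h1]
  have hu' : ∀ e, (⟨cond e p 0, 0, e, false, false⟩ : WK k) ∈ H := fun e => by
    cases e
    exacts [one_mem H, hu]
  have hv' : ∀ e, (⟨0, cond e p 0, false, e, false⟩ : WK k) ∈ H := fun e => by
    cases e
    exacts [one_mem H, hv]
  rintro ⟨a, b, e, f, s⟩ hy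
  refine mem_of_eq' (mul_mem (mul_mem (mul_mem (hA (a - cond e p 0) (b - cond f p 0) ?_) (hu' e))
    (hv' f)) (mem_sw ht s)) (by cases e <;> cases f <;> cases s <;> simp [mul_def])
  have m := two_m2 (k := k)
  rw [mem_Cm] at hy
  cases s
  · cases e <;> cases f <;> simp [mul_def, inv_def, x4, z] at hy ⊢ <;>
      refine hy.imp (fun r => ⟨?_, ?_⟩) (fun r => ⟨?_, ?_⟩) <;>
      first
        | linear_combination r.1
        | linear_combination r.2
        | linear_combination r.1 + m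
        | linear_combination r.2 + m
        | linear_combination r.1 - m
        | linear_combination r.2 - m
  · cases e <;> cases f <;> simp [mul_def, inv_def, x4, z] at hy ⊢ <;>
      refine hy.symm.imp (fun r => ⟨?_, ?_⟩) (fun r => ⟨?_, ?_⟩) <;>
      first
        | linear_combination r.1
        | linear_combination r.2
        | linear_combination r.1 + m
        | linear_combination r.2 + m
        | linear_combination r.1 - m
        | linear_combination r.2 - m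

/-- `C(u p) = ⟨z1, u p⟩ × D₂`, `D₂ = ⟨v p, v (p + 1)⟩`, `v (p + 1) * v p = (0, 1, 0, 0, 0)`. -/
theorem gen_δ (p : R k) : Gen (Cm zc_one (u p)) (lδ p) := by
  intro H hH
  simp only [lδ, List.mem_cons, List.not_mem_nil, or_false, forall_eq_or_imp, forall_eq] at hH
  obtain ⟨hz, hu, hv, hv1, -⟩ := hH
  have h1 : (⟨0, 1, false, false, false⟩ : WK k) ∈ H :=
    mem_of_eq' (mul_mem hv1 hv) (by simp [mul_def, v])
  have hB : ∀ b : R k, (⟨0, b, false, false, false⟩ : WK k) ∈ H := fun b =>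
    mem_of_eq' (pow_mem h1 b.val) (by simp [WK.pw_mk])
  have hD : ∀ (b : R k) f, (⟨0, b, false, f, false⟩ : WK k) ∈ H := fun b f => by
    cases f
    exacts [hB b, mem_of_eq' (mul_mem (hB (b - p)) hv) (by simp [mul_def, v])]
  rintro ⟨a, b, e, f, s⟩ hy
  rw [mem_Cm_one] at hy
  have : s = false ∧ 2 * (a - cond e p 0) = 0 := by
    cases e <;> cases f <;> cases s <;> simp [mul_def, u] at hy ⊢ <;> linear_combination hy
  obtain ⟨rfl, h⟩ := this
  have h2 : (⟨a - cond e p 0, 0, false, false, false⟩ : WK k) ∈ H := by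
    rcases two_eq_zero.1 h with r | r <;> rw [r]
    exacts [one_mem H, hz]
  have hu' : (⟨cond e p 0, 0, e, false, false⟩ : WK k) ∈ H := by
    cases e
    exacts [one_mem H, hu]
  exact mem_of_eq' (mul_mem (mul_mem h2 hu') (hD b f)) (by cases e <;> simp [mul_def])

theorem cm_x6 (p : R k) : Cm zc_one (x6 p) = Cm zc_one (u p) := by
  have e : x6 p = u p * z k := by simp [mul_def, x6, u, z, neg_m2]
  ext y
  rw [mem_Cm_one, mem_Cm_one, e, ← mul_assoc, mul_assoc _ (z k), ← zc.c, ← mul_assoc, mul_left_inj]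

theorem cm_x5 (p : R k) : Cm zc_one (x5 p) ≤ Cm zc_one (u p) := by
  rintro ⟨a, b, e, f, s⟩ hy
  rw [mem_Cm_one] at hy ⊢
  have m := two_m2 (k := k)
  cases s
  · cases e <;> cases f <;> simp [mul_def, x5, u] at hy ⊢ <;>
      first
        | linear_combination hy.1
        | linear_combination hy.1 + m
  · exfalso
    have h : a + sg e (p + 1) = p + m2 k + -a := by
      have := congrArg WK.u hy
      simpa [mul_def, x5] using this
    have := congrArg (pr k) h
    simp only [map_add, pr_sg, map_neg, pr_m2, map_one] at this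
    revert this
    generalize pr k a = x
    generalize pr k p = y
    revert x y
    decide

theorem s_of_comm {x : WK k} (h : x * z1 k = z1 k * x) : x.s = false := by
  obtain ⟨a, b, e, f, s⟩ := x
  have := m2_ne (k := k)
  cases e <;> cases f <;> cases s <;> simp [mul_def, z1, this] at h ⊢

theorem sq_z {w : WK k} (hs : w.s = false) (h : w * w = z k) :
    ∃ a b, w = ⟨a, b, false, false, false⟩ ∧ 2 * a = m2 k ∧ 2 * b = m2 k := by
  obtain ⟨a, b, e, f, s⟩ := w
  have := (m2_ne (k := k)).symm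
  cases e <;> cases f <;> cases s <;> simp [mul_def, z, this, ← two_mul] at h hs
  exact ⟨a, b, rfl, h⟩

theorem cw {a b α β : R k} {e f s : Bool} (ha : 2 * a = m2 k) (hb : 2 * b = m2 k)
    (h : (⟨α, β, e, f, s⟩ : WK k) * ⟨a, b, false, false, false⟩ =
      ⟨a, b, false, false, false⟩ * ⟨α, β, e, f, s⟩) :
    (e = false ∧ f = false ∧ s = false) ∨ (s = true ∧ f = e ∧ sg e b = a) := by
  have m := m2_ne (k := k)
  cases e <;> cases f <;> cases s <;> simp [mul_def] at h ⊢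
  · linear_combination h.1
  · exact m (by linear_combination -h.2 - hb)
  · exact m (by linear_combination -h.1 - h.2 - ha)
  · exact m (by linear_combination -h.1 - ha)
  · exact m (by linear_combination -h.1 - h.2 - hb)
  · exact m (by linear_combination -h.1 - ha)
  · linear_combination h.1

theorem cw_comm {w x y : WK k} (hs : w.s = false) (h : w * w = z k) (hx : x * w = w * x)
    (hy : y * w = w * y) (h2 : (x * y * x⁻¹ * y⁻¹) * (x * y * x⁻¹ * y⁻¹) = 1) :
    x * y * x⁻¹ * y⁻¹ = 1 ∨ x * y * x⁻¹ * y⁻¹ = z k := by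
  obtain ⟨a, b, rfl, ha, hb⟩ := sq_z hs h
  obtain ⟨α, β, e, f, s⟩ := x
  obtain ⟨α', β', e', f', s'⟩ := y
  have key : ∀ (c c' : R k), (c' = c ∨ c' = -c) → (⟨c, c', false, false, false⟩ : WK k) *
      ⟨c, c', false, false, false⟩ = 1 → (⟨c, c', false, false, false⟩ : WK k) = 1 ∨
        (⟨c, c', false, false, false⟩ : WK k) = z k := by
    intro c c' h1 h2
    simp [mul_def, one_def, ← two_mul] at h2
    rcases two_eq_zero.1 h2.1 with rfl | rfl <;> rcases h1 with rfl | rfl <;>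
      simp [one_def, z, neg_m2]
  have m := m2_ne (k := k)
  rcases cw ha hb hx with ⟨rfl, rfl, rfl⟩ | ⟨rfl, rfl, r⟩ <;>
    rcases cw ha hb hy with ⟨rfl, rfl, rfl⟩ | ⟨rfl, rfl, r'⟩
  · exact .inl (by simp [mul_def, inv_def, one_def])
  · cases f' <;> simp only [mul_def, inv_def] at h2 ⊢
    · exact key _ _ (.inr (by simp; ring)) h2
    · exact key _ _ (.inl (by simp; ring)) h2
  · cases f <;> simp only [mul_def, inv_def] at h2 ⊢
    · exact key _ _ (.inr (by simp)) h2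
    · exact key _ _ (.inl (by simp; ring)) h2
  · cases f <;> cases f' <;> simp only [mul_def, inv_def] at h2 ⊢
    · exact key _ _ (.inr (by simp; ring)) h2
    · exact (m (by simp at r r'; linear_combination r - r' - hb)).elim
    · exact (m (by simp at r r'; linear_combination r' - r - hb)).elim
    · exact key _ _ (.inl (by simp; ring)) h2

/-- `MS.extr` gives `n : z1 ↦ z` defined on `C(z1) = D × D`.  `i1 = (q, 0)` is a square (`exists_c8`), so its
image `w` is a square, hence has `s = false`, and `w² = z` forces `w = (± q, ± q, 0, 0, 0)`.  The images of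
`i2 = (0, q)` and `v 0` commute with `w`, so lie in `A ⟨t⟩` (or `A ⟨u 0 * v 0 * t⟩`), where commutators
have the form `(c, -c)` (resp. `(c, c)`); their commutator, the image of `z2 = [i2, v 0]`, is an
involution, so it is `z`, the image of `z1`. -/
theorem not_z1 (d : MS ι ⊤) : ¬ Cj ι g (z1 k) (z k) := by
  intro e
  obtain ⟨n, -, e1, hn⟩ := d.extr zc.c (mem_top g) e
  obtain ⟨c, hc⟩ := exists_c8 (k := k)
  obtain ⟨c', ec⟩ := hn ⟨c, 0, false, false, false⟩ (by simp [mul_def, z1, add_comm])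
  obtain ⟨x, ex⟩ := hn ⟨0, q4 k, false, false, false⟩ (by simp [mul_def, z1])
  obtain ⟨y, ey⟩ := hn (v 0) (by simp [mul_def, z1, v])
  have ew : Cj ι n ⟨q4 k, 0, false, false, false⟩ (c' * c') :=
    (ec.mul ec).cast (by simp [mul_def, ← two_mul, hc]) rfl
  have hs : (c' * c').s = false := by
    obtain ⟨_, _, _, _, s⟩ := c'
    simp [mul_def]
  have hw : c' * c' * (c' * c') = z k :=
    ((ew.mul ew).cast (show _ = z1 k by simp [mul_def, ← two_mul, two_q4, z1]) rfl).uq d.inj e1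
  have ez : Cj ι n (z2 k) (x * y * x⁻¹ * y⁻¹) :=
    ((ex.conj ey).mul ey.inv).cast (by simp [mul_def, inv_def, ← two_mul, two_q4, z2, v]) rfl
  have m := m2_ne (k := k)
  rcases cw_comm hs hw ((ex.comm d.inj ew).1 (by simp [mul_def])) ((ey.comm d.inj ew).1
    (by simp [mul_def, v])) ((ez.sq d.inj).1 (by simp [mul_def, z2, one_def, m2_add])) with r | r
  · exact ez.ne_one d.inj (by simp [z2, one_def, m]) r
  · have := (ez.eq_iff d.inj e1).2 r
    simp [z1, z2, m] at this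

/-- the abelian subgroup `A` -/
def kA (k : ℕ) : Subgroup (WK k) where
  carrier := {x | ∃ a b, x = ⟨a, b, false, false, false⟩}
  one_mem' := ⟨0, 0, rfl⟩
  mul_mem' := by rintro _ _ ⟨_, _, rfl⟩ ⟨_, _, rfl⟩; exact ⟨_, _, rfl⟩
  inv_mem' := by rintro _ ⟨_, _, rfl⟩; exact ⟨_, _, rfl⟩

/-- the four-group `U` -/
def kU (k : ℕ) : Subgroup (WK k) where
  carrier := {x | ∃ a b, x = ⟨a, b, false, false, false⟩ ∧ 2 * a = 0 ∧ 2 * b = 0}
  one_mem' := ⟨0, 0, rfl, by simp, by simp⟩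
  mul_mem' := by
    rintro _ _ ⟨_, _, rfl, a, b⟩ ⟨_, _, rfl, c, d⟩
    exact ⟨_, _, rfl, by simp [mul_add, a, c], by simp [mul_add, b, d]⟩
  inv_mem' := by
    rintro _ ⟨_, _, rfl, a, b⟩
    exact ⟨_, _, rfl, by simp [a], by simp [b]⟩

theorem kU_cases {x : WK k} (h : x ∈ kU k) : x = 1 ∨ x = z k ∨ x = z1 k ∨ x = z1 k * z k := by
  obtain ⟨a, b, rfl, ha, hb⟩ := h
  rcases two_eq_zero.1 ha with rfl | rfl <;> rcases two_eq_zero.1 hb with rfl | rfl <;>
    simp [one_def, z, z1, mul_def, m2_add]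

theorem kA_comm {x y : WK k} (hx : x ∈ kA k) (hy : y ∈ kA k) : x * y = y * x := by
  obtain ⟨_, _, rfl⟩ := hx
  obtain ⟨_, _, rfl⟩ := hy
  simp [mul_def, add_comm]

theorem kA_conj (y : WK k) {x : WK k} (hx : x ∈ kA k) : y * x * y⁻¹ ∈ kA k := by
  obtain ⟨_, _, rfl⟩ := hx
  obtain ⟨a, b, e, f, s⟩ := y
  cases e <;> cases f <;> cases s <;> exact ⟨_, _, rfl⟩

theorem mem_kA {y w : WK k} (h1 : y * z1 k = z1 k * y) (h2 : y * w = w * y)
    (h3 : w * z1 k = z1 k * w) (h4 : w * w = z k) : y ∈ kA k := by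
  obtain ⟨a, b, rfl, ha, hb⟩ := sq_z (s_of_comm h3) h4
  have hs := s_of_comm h1
  obtain ⟨α, β, e, f, s⟩ := y
  rcases cw ha hb h2 with ⟨rfl, rfl, rfl⟩ | ⟨rfl, -⟩
  · exact ⟨_, _, rfl⟩
  · simp at hs

theorem comm_z1 {y y' : WK k} (e : Eqv (z k) y' (z1 k)) (h : y * y' = y' * y) :
    y * z1 k = z1 k * y := by
  rcases e with rfl | rfl
  · exact h
  · rwa [← mul_assoc, mul_assoc _ (z k), ← zc.c, ← mul_assoc, mul_left_inj] at h

/-- `alp` for `(lv1 d).ms`, `L₀ = (lv1 d).St` (elements fixing `z` and permuting `z1, z2 = z1 z`).  Let `P` be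
critical, `g` of odd order normalizing `P`.  `z, z1 ∈ P` (`Cr.mem_of_comm`, `Cr.rad2` as in `Lv.mem_cr`),
`U` is `L₀`-invariant.  `I₁ = (q, q) ∈ P` by `Cr.rad2` with `U` (`[I₁, x] ∈ U`).  For `g' ∈ L₀` normalizing
`P` the image of `I₁` has square `z` and commutes with `z1`, so it is `(± q, ± q, 0, 0, 0)`; hence
`A₁ = P ⊓ A = C_P(z1, I₁)` is invariant (`C(z1, (± q, ± q)) = A`).  `A ≤ P` by `le_of_norm` (an `s ∈ A`
normalizing `P` has `[s, P] ≤ A₁`, `[s, A₁] = 1`, `Cr.rad2`).  `g` fixes `z1` (`Cj.of_sq`), so `U`, so `A`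
(`cen_ab`), so `P` (`cen_sc`, `C(A) = A`); `GC.cen`. -/
theorem lev0 (d : MS ι ⊤) (c : GC ι Good) : All ι (lv1 d).St Good := by
  refine fun P g hg a => alp (lv1 d).ms c (fun P r _ g hg a o => c.cen fun x hx => ?_) P hg a
  have l0 : Lv ι (lv1 d).St (z k) (z1 k) := ⟨(lv1 d).ms, zc, fun g hg => cj_self.2 hg.1, z1_ww⟩
  obtain ⟨hz, hz1⟩ := l0.mem_cr r
  have zU : z k ∈ kU k := ⟨_, _, rfl, two_m2, two_m2⟩
  have z1U : z1 k ∈ kU k := ⟨_, _, rfl, two_m2, by simp⟩
  have UA : kU k ≤ kA k := fun _ ⟨_, _, e, _⟩ => ⟨_, _, e⟩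
  have UP : kU k ≤ P := fun y hy => by
    rcases kU_cases hy with rfl | rfl | rfl | rfl
    exacts [one_mem _, hz, hz1, mul_mem hz1 hz]
  have iU : ∀ g ∈ (lv1 d).St, Mp ι g (kU k) (kU k) := fun g hg y hy => by
    obtain ⟨w, w1, w2⟩ := hg.2
    have wU : w ∈ kU k := by
      rcases w1 with rfl | rfl
      exacts [z1U, mul_mem z1U zU]
    rcases kU_cases hy with rfl | rfl | rfl | rfl
    exacts [⟨1, one_mem _, Cj.one⟩, ⟨_, zU, l0.Lz g hg⟩, ⟨_, wU, w2⟩,
      ⟨_, mul_mem wU zU, w2.mul (l0.Lz g hg)⟩]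
  set I : WK k := ⟨q4 k, q4 k, false, false, false⟩ with hI
  have IA : I ∈ kA k := ⟨_, _, rfl⟩
  have II : I * I = z k := by simp [hI, mul_def, z, ← two_mul, two_q4]
  have IP : I ∈ P := by
    refine r.rad2 UP (fun g hg _ => iU g hg) ?_ fun y hy => kA_comm IA (UA hy)
    rintro ⟨α, β, e, f, s⟩ -
    have m : 2 * (2 * q4 k) = 0 := by rw [two_q4, two_m2]
    cases e <;> cases f <;> cases s <;> refine ⟨_, _, rfl, ?_, ?_⟩ <;> simp [hI, mul_def, inv_def] <;>
      linear_combination m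
  have iA : ∀ g ∈ (lv1 d).St, Mp ι g P P → Mp ι g (P ⊓ kA k) (P ⊓ kA k) := fun g hg a y hy => by
    obtain ⟨y', h1, e⟩ := a y hy.1
    obtain ⟨w, -, ew⟩ := a I IP
    obtain ⟨z', w1, w2⟩ := hg.2
    exact ⟨y', ⟨h1, mem_kA (comm_z1 w1 ((e.comm d.inj w2).1 (kA_comm hy.2 (UA z1U))))
      ((e.comm d.inj ew).1 (kA_comm hy.2 IA))
      (comm_z1 w1 ((ew.comm d.inj w2).1 (kA_comm IA (UA z1U))))
      ((ew.mul ew).uq d.inj ((l0.Lz g hg).cast II.symm rfl))⟩, e⟩
  have AP : kA k ≤ P := le_of_norm d (fun y _ h => kA_conj y h) fun s hs hn =>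
    r.rad2 inf_le_left iA (fun y hy => mem_inf.2 ⟨mul_mem (hn y hy) (inv_mem hy), by
      rw [show s * y * s⁻¹ * y⁻¹ = s * (y * s⁻¹ * y⁻¹) by group]
      exact mul_mem hs (kA_conj y (inv_mem hs))⟩) fun y hy => kA_comm hs hy.2
  have e1 : Cj ι g (z1 k) (z1 k) := by
    rcases hg.2.cases with e | e
    · exact e
    · exact Cj.of_sq o ((e.trans (e.mul (l0.Lz g hg))).cast rfl (by rw [mul_assoc, zc.sq, mul_one]))
  have mA : Mp ι g (kA k) (kA k) := (iA g hg a).mono (le_inf AP le_rfl) inf_le_right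
  have fA : ∀ y ∈ kA k, Cj ι g y y := fun y hy => cen_ab d o mA (fun _ h1 _ h2 => kA_comm h1 h2)
    (fun y hy h => by
      obtain ⟨α, β, rfl⟩ := hy
      have : (⟨α, β, false, false, false⟩ : WK k) ∈ kU k :=
        ⟨_, _, rfl, by simpa [mul_def, one_def, ← two_mul] using h⟩
      rcases kU_cases this with e | e | e | e <;> rw [e]
      exacts [Cj.one, l0.Lz g hg, e1, e1.mul (l0.Lz g hg)]) hy
  obtain ⟨y, -, e⟩ := a x hx
  exact cen_sc d o fA (fun y h => mem_kA (h _ (UA z1U)) (h _ IA) (kA_comm IA (UA z1U)) II) e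
    fun a ha => by simpa using kA_conj x⁻¹ ha

end Cfsg.Agent.L4F.W
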