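import Mathlib
import Cfsg.Agent.L4F.W0

/-! Fusion on `WK k`: the automorphisms of order 3 in `C(z)`.  Notation as in `L4F/W0`. -/

set_option autoImplicit false
set_option linter.unusedSectionVars false

namespace Cfsg.Agent.L4F.W

open Subgroup Cfsg Cfsg.Agent.BF Cfsg.Agent.TT Cfsg.Agent.GHO Cfsg.Agent.P4T Cfsg.Agent.Gold
  Cfsg.Agent.PLocal.Amb WK

variable {k : ℕ} [NeZero k] {G : Type*} [Group G] [Finite G] {ι : WK k →* G} {g : G}
  {Good : Subgroup (WK k) → G → Prop}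

theorem w2_sq_s (X : WK k) : (X * X).s = false := by
  obtain ⟨a, b, e, f, s⟩ := X
  cases s <;> rfl

theorem w2_sq_A {X : WK k} (h : X.s = false) : ∃ a b, X * X = ⟨a, b, false, false, false⟩ := by
  obtain ⟨a, b, e, f, s⟩ := X
  subst h
  cases e <;> cases f <;> exact ⟨_, _, rfl⟩

theorem w2_pow_k (X : WK k) : ∃ Y, X ^ 2 ^ k = Y * Y := by
  obtain ⟨j, hj⟩ := Nat.exists_eq_succ_of_ne_zero (NeZero.ne k)
  exact ⟨X ^ 2 ^ j, by rw [← pow_add, ← two_mul, ← pow_succ']; congr 2⟩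

theorem w2_a1_z : a1 k ^ 2 ^ (k + 1) = z k := by rw [a1, WK.pw_mk, mul_one, cast_m2, z]
theorem w2_a1_q : a1 k ^ 2 ^ k = ⟨q4 k, q4 k, false, false, false⟩ := by
  rw [a1, WK.pw_mk, mul_one, cast_q4]
theorem w2_z_ne : z k ≠ 1 := fun e => m2_ne (congrArg WK.u e)
theorem w2_z1z : z1 k * z k = z2 k := by simp [mul_def, z1, z, z2, m2_add]

theorem w2_U {a b : R k} (h : (⟨a, b, false, false, false⟩ : WK k) * ⟨a, b, false, false, false⟩ = 1) :
    (⟨a, b, false, false, false⟩ : WK k) = 1 ∨ (⟨a, b, false, false, false⟩ : WK k) = z1 k ∨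
    (⟨a, b, false, false, false⟩ : WK k) = z2 k ∨ (⟨a, b, false, false, false⟩ : WK k) = z k := by
  simp only [mul_def, one_def, sg_f, cond_false, WK.mk.injEq, ← two_mul] at h
  rcases two_eq_zero.1 h.1 with rfl | rfl <;> rcases two_eq_zero.1 h.2.1 with rfl | rfl <;>
    simp [one_def, z1, z2, z]

/-- an element with `s = false` and square `z` -/
theorem w2_sq_z {W : WK k} (h : W.s = false) (e : W * W = z k) :
    ∃ a b, W = ⟨a, b, false, false, false⟩ ∧ 2 * a = m2 k ∧ 2 * b = m2 k := by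
  obtain ⟨a, b, e', f, s⟩ := W
  subst h
  have := m2_ne (k := k)
  cases e' <;> cases f <;> simp [mul_def, z, this.symm, ← two_mul] at e
  exact ⟨a, b, rfl, e⟩

theorem w2_comm_q {y : WK k} {a b : R k} (h : y.s = false) (ha : 2 * a ≠ 0) (hb : 2 * b ≠ 0)
    (e : y * ⟨a, b, false, false, false⟩ = ⟨a, b, false, false, false⟩ * y) :
    ∃ c d, y = ⟨c, d, false, false, false⟩ := by
  obtain ⟨c, d, e', f, s⟩ := y
  subst h
  cases e' <;> cases f <;> simp only [mul_def, sg_f, sg_t, cond_false, WK.mk.injEq] at e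
  · exact ⟨c, d, rfl⟩
  · exact absurd (by linear_combination -e.2.1) hb
  · exact absurd (by linear_combination -e.1) ha
  · exact absurd (by linear_combination -e.1) ha

/-- `D × D` -/
def w2M (k : ℕ) : Subgroup (WK k) where
  carrier := {x | x.s = false}
  one_mem' := rfl
  mul_mem' := by rintro ⟨_, _, _, _, _⟩ ⟨_, _, _, _, _⟩ ⟨⟩ ⟨⟩; rfl
  inv_mem' := by rintro ⟨_, _, _, _, _⟩ ⟨⟩; rfl

/-- the cyclic group `⟨a1⟩` -/
def w2D (k : ℕ) : Subgroup (WK k) where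
  carrier := {x | ∃ a, x = ⟨a, a, false, false, false⟩}
  one_mem' := ⟨0, rfl⟩
  mul_mem' := by rintro _ _ ⟨_, rfl⟩ ⟨_, rfl⟩; exact ⟨_, rfl⟩
  inv_mem' := by rintro _ ⟨_, rfl⟩; exact ⟨_, rfl⟩

theorem w2_a1_pow (a : R k) : a1 k ^ a.val = ⟨a, a, false, false, false⟩ := by
  rw [a1, WK.pw_mk, mul_one, ZMod.natCast_zmod_val]

theorem w2_comm_z1 {X T : WK k} (hT : Eqv (z k) T (z1 k)) : X * T = T * X ↔ X.s = false := by
  obtain ⟨a, b, e, f, s⟩ := X
  have := m2_ne (k := k)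
  rw [Eqv, w2_z1z] at hT
  rcases hT with rfl | rfl <;> cases e <;> cases f <;> cases s <;>
    simp [mul_def, z1, z2, neg_m2, add_comm, this, this.symm]

theorem w2_odd {a : R k} (h : m2 k * a = m2 k) : pr k a = 1 :=
  (pr_cases a).resolve_left fun r => m2_ne (k := k) (by rw [← h, m2_mul_even r])

theorem w2_two_ne {a : R k} (h : pr k a = 1) : 2 * a ≠ 0 := fun r => by
  rw [even_of_two_eq_zero r] at h; exact absurd h (by decide)

theorem w2_X {X : WK k} (h : X.s = false) (e : X ^ 2 ^ (k + 1) = z k) :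
    ∃ a b, X = ⟨a, b, false, false, false⟩ ∧ pr k a = 1 ∧ pr k b = 1 := by
  obtain ⟨a, b, e', f, s⟩ := X
  subst h
  have := m2_ne (k := k)
  have e2 := e
  rw [pow_succ', pow_mul, sq] at e2
  cases e' <;> cases f
  · rw [WK.pw_mk, cast_m2, z, WK.mk.injEq] at e
    exact ⟨a, b, rfl, w2_odd e.1, w2_odd e.2.1⟩
  all_goals simp [mul_def, WK.pw_mk, z, this.symm] at e2

/-- the normalized data for the automorphism of order 3 -/
structure W2S (ι : WK k →* G) (g : G) (α d : R k) : Prop where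
  hz : Cj ι g (z k) (z k)
  odd : pr k α = 1
  ha : Cj ι g (a1 k) ⟨α, α, false, false, false⟩
  hj : Cj ι g (j1 k) ⟨d + m2 k, d, true, true, true⟩

theorem w2_final (d : MS ι ⊤) {α c : R k} (s : W2S ι g α c) (h1 : Cj ι g (J2 k) (I2 k))
    (h2 : Cj ι g (I2 k) (K2 k)) : ∃ g, Rz ι g (lφ k) := by
  have h3 : Cj ι g (K2 k) (J2 k) := (h1.mul h2).cast (by simp [mul_def, J2, I2, K2, ← two_mul, two_q4])
    (by simp [mul_def, J2, I2, K2]; linear_combination -two_q4 (k := k))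
  obtain ⟨n, o⟩ := exists_odd_pow g
  have mD : Mp ι g (w2D k) (w2D k) := by
    rintro _ ⟨a, rfl⟩
    exact ⟨_, ⟨_, WK.pw_mk α α a.val⟩, (s.ha.pow a.val).cast (w2_a1_pow a) rfl⟩
  have fD : ∀ x ∈ w2D k, Cj ι (g ^ 4 ^ n) x x := fun x hx =>
    cen_ab d o (mD.pow _) (by rintro _ ⟨a, rfl⟩ _ ⟨b, rfl⟩; simp [mul_def, add_comm]) (by
      rintro _ ⟨a, rfl⟩ r
      simp only [mul_def, one_def, sg_f, cond_false, WK.mk.injEq, ← two_mul] at r
      rcases two_eq_zero.1 r.1 with rfl | rfl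
      exacts [Cj.one, s.hz.gpow _]) hx
  have kj : ∀ m : ℕ, ∃ x ∈ w2D k, Cj ι (g ^ m) (j1 k) (x * j1 k) := fun m => by
    induction m with
    | zero => exact ⟨1, one_mem _, by simpa using Cj.refl _⟩
    | succ m ih =>
      obtain ⟨x, hx, e⟩ := ih
      obtain ⟨y, hy, e'⟩ := mD x hx
      refine ⟨y * ⟨c, c, false, false, false⟩, mul_mem hy ⟨c, rfl⟩, ?_⟩
      rw [pow_succ', mul_assoc]
      exact e.trans (e'.mul (s.hj.cast rfl (by simp [mul_def, j1])))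
  obtain ⟨x, hx, e⟩ := kj (4 ^ n)
  refine ⟨g ^ 4 ^ n, ?_⟩
  simp only [Rz, lφ, List.forall_mem_cons, List.not_mem_nil, false_imp_iff, imp_true_iff, and_true]
  exact ⟨s.hz.gpow _, fD _ ⟨1, rfl⟩, e.chain d o (fD x hx), h1.pow4 (by
    rw [mul_assoc]; exact (h2.trans h3).trans h1) n, h2.pow4 (by
    rw [mul_assoc]; exact (h3.trans h1).trans h2) n⟩

theorem w2_Q2 {W : WK k} {α c : R k} (o : pr k α = 1) (hs : W.s = true)
    (h1 : W * ⟨α, α, false, false, false⟩ = ⟨α, α, false, false, false⟩ * W)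
    (h2 : W * ⟨c + m2 k, c, true, true, true⟩ = ⟨c + m2 k, c, true, true, true⟩ * W) :
    ∃ a, W = ⟨a, m2 k - a, false, false, true⟩ := by
  obtain ⟨a, b, e, f, s⟩ := W
  subst hs
  have := w2_two_ne o
  cases e <;> cases f <;> simp only [mul_def, sg_f, sg_t, cond_false, cond_true, WK.mk.injEq] at h1 h2
  · exact ⟨a, by congr 1; linear_combination h2.1⟩
  · exact absurd (by linear_combination -h1.2.1) this
  · exact absurd (by linear_combination -h1.1) this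
  · exact absurd (by linear_combination -h1.1) this

theorem w2_mid (d : MS ι ⊤) {α c : R k} (s : W2S ι g α c) (ht : To ι (z k) g (t k) (z1 k))
    {P : WK k} (hP : Cj ι g (I2 k) P) : ∃ g, Rz ι g (lφ k) := by
  have i := d.inj
  obtain ⟨T, hT, ht⟩ := ht
  have hs : P.s = true := by
    rw [← Bool.not_eq_false, ← w2_comm_z1 hT, ← hP.comm i ht]
    simp [mul_def, I2, t, q4_ne_neg]
  obtain ⟨a, rfl⟩ := w2_Q2 s.odd hs ((hP.comm i s.ha).1 (by simp [mul_def, I2, a1, add_comm]))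
    ((hP.comm i s.hj).1 (by simp [mul_def, I2, j1, add_comm]))
  have hJ := ((s.ha.pow (2 ^ k)).mul ht).cast (x' := J2 k) (by simp [w2_a1_q, mul_def, t, J2]) rfl
  rw [WK.pw_mk, cast_q4] at hJ
  have hq : 2 * (q4 k * α) = m2 k := by rw [← mul_assoc, two_q4, m2_mul_odd s.odd]
  have hJ' : Cj ι g (J2 k) (I2 k) ∨ Cj ι g (J2 k) (I2 k)⁻¹ := by
    rw [Eqv, w2_z1z] at hT
    rcases two_eq_m2.1 hq with r | r <;> rw [r] at hJ <;> rcases hT with rfl | rfl
    · exact .inr (hJ.cast rfl (by simp [mul_def, inv_def, z1, I2, neg_q4]))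
    · exact .inl (hJ.cast rfl (by simp [mul_def, z2, I2, neg_q4]))
    · exact .inl (hJ.cast rfl (by simp [mul_def, z1, I2, neg_q4, add_assoc, m2_add]))
    · exact .inr (hJ.cast rfl (by simp [mul_def, inv_def, z2, I2, neg_q4, add_assoc, m2_add]))
  let C : WK k := ⟨-a, 0, false, false, false⟩
  have s1 : W2S ι (ι C * g) α (c - a) := ⟨s.hz.trans (Cj.of' (by rw [zc.c, mul_inv_cancel_right])),
    s.odd, s.ha.trans (Cj.of' (by simp [C, mul_def, inv_def])),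
    s.hj.trans (Cj.of' (by simp [C, mul_def, inv_def]; constructor <;> ring))⟩
  have p1 : Cj ι (ι C * g) (I2 k) (K2 k) := hP.trans (Cj.of' (by simp [C, mul_def, inv_def, K2]))
  have c1 : C * I2 k * C⁻¹ = I2 k := by simp [C, mul_def, inv_def, I2]
  rcases hJ' with hJ' | hJ'
  · exact w2_final d s1 (hJ'.trans (Cj.of' c1)) p1
  · refine w2_final d (g := ι (K2 k) * (ι C * g)) (α := α) (c := c - a)
      ⟨s1.hz.trans (Cj.of' (by rw [zc.c, mul_inv_cancel_right])), s.odd,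
        s1.ha.trans (Cj.of' (by simp [K2, mul_def, inv_def])),
        s1.hj.trans (Cj.of' ?_)⟩ ((hJ'.trans (Cj.of' c1).inv).trans (Cj.of' ?_))
      (p1.trans (Cj.of' (by simp)))
    · simp [K2, mul_def, inv_def, neg_m2]
      linear_combination two_m2 (k := k)
    · simp [K2, I2, mul_def, inv_def]

theorem w2_Y {Y : WK k} {α β : R k} (hs : Y.s = true) (h1 : Y * Y = z k)
    (h2 : Y * ⟨α, β, false, false, false⟩ * Y⁻¹ = (⟨α, β, false, false, false⟩ : WK k)⁻¹) :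
    (β = α ∧ ∃ c, Y = ⟨c + m2 k, c, true, true, true⟩) ∨
      (β = -α ∧ ∃ c, Y = ⟨c + m2 k, -c, false, false, true⟩) := by
  obtain ⟨a, b, e, f, s⟩ := Y
  subst hs
  cases e <;> cases f <;> simp [mul_def, inv_def, z] at h1 h2
  · exact .inr ⟨h2.1, -b, by rw [neg_neg]; congr 1; linear_combination h1.1⟩
  · exact .inl ⟨h2.1, b, by congr 1; linear_combination h1.1⟩

theorem w2_fix (h : Rz ι g (lφ k)) (a : R k) : Cj ι g ⟨a, a, false, false, false⟩ ⟨a, a, false, false, false⟩ ∧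
    Cj ι g ⟨a + m2 k, a, true, true, true⟩ ⟨a + m2 k, a, true, true, true⟩ := by
  have h1 : Cj ι g (a1 k) (a1 k) := h (a1 k, a1 k) (by simp [lφ])
  have h2 : Cj ι g (j1 k) (j1 k) := h (j1 k, j1 k) (by simp [lφ])
  have h3 := h1.pow a.val
  rw [w2_a1_pow] at h3
  exact ⟨h3, (h3.mul h2).cast (by simp [mul_def, j1]) (by simp [mul_def, j1])⟩

theorem w2_w {w : WK k} {p : R k} (h1 : w * I1' k * w⁻¹ = I2 k) (h2 : w * I2 k * w⁻¹ = I1' k)
    (h3 : w * K1 p * w⁻¹ = K2 k) (h4 : w * K2 k * w⁻¹ = K1 p) : w = u p ∨ w = z k * u p := by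
  obtain ⟨a, b, e, f, s⟩ := w
  have n1 := q4_ne_neg (k := k)
  cases e <;> cases f <;> cases s <;>
    simp [mul_def, inv_def, I1', I2, K1, K2, n1, n1.symm] at h1 h2 h3 h4
  have hb : 2 * b = 0 := by linear_combination h4.1 - h3.1
  have ha : a = p + b := by linear_combination h3.1
  rcases two_eq_zero.1 hb with rfl | rfl
  · exact .inl (by simp [ha, u])
  · exact .inr (by simp [ha, u, z, mul_def, add_comm])

theorem w2_cm (p : R k) : J1 p ∈ Cm zc (x4 p) ∧ I1' k ∈ Cm zc (x4 p) ∧ J2 k ∈ Cm zc (x4 p) ∧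
    I2 k ∈ Cm zc (x4 p) := by
  have h1 := two_q4 (k := k)
  have h2 := two_m2 (k := k)
  refine ⟨.inl ?_, .inr ?_, .inl ?_, .inr ?_⟩ <;>
    simp [mul_def, inv_def, x4, J1, I1', J2, I2, z] <;> grind

theorem w2_id (p : R k) : J1 p * J2 k = x4 p ∧ I1' k * I2 k = z1 k * z k ∧ J1 p * I1' k = K1 p ∧
    I1' k * K1 p = J1 p ∧ J2 k * I2 k = K2 k ∧ I2 k * K2 k = J2 k := by
  have h1 := two_q4 (k := k)
  have h2 := two_m2 (k := k)
  refine ⟨?_, ?_, ?_, ?_, ?_, ?_⟩ <;>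
    simp only [mul_def, x4, J1, I1', J2, I2, K1, K2, z, z1, sg_f, sg_t, cond_true, cond_false,
      WK.mk.injEq] <;> grind

/-- `thompson` (`idx_two`) for `M = {s = false}` and `x = t`: `g` is defined on `C(t) ∋ a1`, `t ↦ y ∈ M`.
`z = a1 ^ 2 ^ (k+1)`; a power `X ^ 2 ^ (k+1)` lies in `A` (`X ^ 4 ∈ A`), so the involution `g z ∈ U`,
and `g z = z` by `not_z1` (`z2 = t z1 t`).  `y` commutes with `g I₁` (`I₁ = a1 ^ 2 ^ k` is a square with
square `z`, so `g I₁ = (± q, ± q, 0, 0, 0)`), so `y ∈ A`, `y ∈ U`, `y ≠ 1, z`. -/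
theorem t_fuse [IsSimpleGroup G] (d : MS ι ⊤) :
    ∃ g, Cj ι g (z k) (z k) ∧ To ι (z k) g (t k) (z1 k) := by
  have i := d.inj
  obtain ⟨g, y, hy, e, m⟩ := thompson d (idx_two d (x := t k) (y := z1 k) (by
    simp [mul_def, t, z1, m2_ne, m2_ne.symm])) (w2M k) (t k) (fun a => by
      obtain ⟨a, b, e, f, s⟩ := a
      change Xor' (xor s true = false) (s = false)
      cases s <;> simp [Xor']) (x := t k) (by simp [mul_def, t, one_def])
  obtain ⟨X, -, eX⟩ := m (a1 k) (mem_Cm_one.2 (by simp [mul_def, t, a1]))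
  obtain ⟨Y, hY⟩ := w2_pow_k X
  have eI := eX.pow (2 ^ k)
  rw [w2_a1_q, hY] at eI
  have ez := (eI.mul eI).cast (x' := z k) (by simp [mul_def, z, ← two_mul, two_q4]) rfl
  obtain ⟨a, b, r⟩ := w2_sq_A (w2_sq_s Y)
  have hz : Y * Y * (Y * Y) = z k := by
    have h2 := (ez.sq i).1 zc.sq
    rw [r] at ez h2 ⊢
    rcases w2_U h2 with r | r | r | r
    · exact absurd r (ez.ne_one i w2_z_ne)
    · exact absurd (r ▸ ez).symm (not_z1 d)
    · exact absurd ((Cj.of' (k := t k) (by simp [mul_def, inv_def, t, z1, z2])).trans (r ▸ ez).symm)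
        (not_z1 d)
    · exact r
  rw [hz] at ez
  obtain ⟨a, b, r, ha, hb⟩ := w2_sq_z (w2_sq_s Y) hz
  rw [r] at eI
  obtain ⟨c, c', rfl⟩ := w2_comm_q hy (ha ▸ m2_ne) (hb ▸ m2_ne)
    ((e.comm i eI).1 (by simp [mul_def, t]))
  refine ⟨g, ez, ?_⟩
  rcases w2_U ((e.sq i).1 (by simp [mul_def, t, one_def])) with r | r | r | r
  · exact absurd r (e.ne_one i (by simp [t, one_def]))
  · exact .of (r ▸ e)
  · exact .of' (w2_z1z (k := k) ▸ r ▸ e)
  · exact absurd ((e.eq_iff i ez).2 r) (by simp [t, z])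

/-- `Lv.extr'` gives `ψ ∈ C(z)` on `Cm t = Q₁ ∘ ⟨I2, J2⟩` with `t ↦ z1` or `z2`.  `ψ a1 = X` commutes with `z1`
and `X ^ 2 ^ (k+1) = z`, so `X = (α, β, 0, 0, 0)` with `α, β` odd.  `ψ j1` inverts `X`, has square `z` and does
not commute with `ψ t` (`j1 t j1⁻¹ = t z`), so `s = true`, `e = f`.  Compose with `v 0` if necessary:
`e = f = true`, `α = β`, `ψ j1 = a1 ^ i * j1`.  `ψ I2` and `ψ J2` centralize `a1` (`unit_of_odd`) and `ψ j1`, so
lie in `Q₂ = {(a, -a, 0, 0, 0), (a, h - a, 0, 0, 1)}`; `ψ J2 = ψ I₁ ψ t = I2 ^ (± 1)` and `ψ I2 = (a, h - a, 0, 0, 1)`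
(`I2 t I2⁻¹ = t z`).  Compose with conjugation by `(c, 0, 0, 0, 0)` (adds `(c, -c)`; preserves `Q₁`, `A`) to get
`ψ I2 = K2`, then with `K2` (centralizes `Q₁`, inverts `I2`) to get `ψ J2 = I2`.  Then `ψ K2 = I2 K2 = J2`, `ψ³`
fixes `I2, K2`.  `g = ψ ^ 4 ^ n` of odd order (`exists_odd_pow`, `Cj.pow4`) normalizes `⟨a1⟩` and `Q₁`
(`Mp.pow`), so it fixes `a1` (`cen_cyc` or `cen_ab`) and `j1` (`Cj.chain`). -/
theorem exists_φ (d : MS ι ⊤) (h1 : Cj ι g (z k) (z k)) (h2 : To ι (z k) g (t k) (z1 k)) :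
    ∃ g, Rz ι g (lφ k) := by
  have i := d.inj
  obtain ⟨m, hm, ⟨T, hT, ht⟩, mp⟩ := (lv1 d).extr' (cj_self.1 h1) h2
  have hz := cj_self.2 hm
  obtain ⟨X, -, eX⟩ := mp (a1 k) (.inl (by simp [mul_def, inv_def, t, a1]))
  obtain ⟨Y, -, eY⟩ := mp (j1 k) (.inr (by simp [mul_def, inv_def, t, j1, z, neg_m2]))
  obtain ⟨P, -, eP⟩ := mp (I2 k) (.inr (by
    simp [mul_def, inv_def, t, I2, z]
    constructor
    · linear_combination two_q4 (k := k)
    · linear_combination -two_q4 (k := k) - two_m2 (k := k)))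
  obtain ⟨α, β, rfl, o, -⟩ := w2_X ((w2_comm_z1 hT).1 ((eX.comm i ht).1 (by simp [mul_def, t, a1])))
    (((eX.pow _).cast w2_a1_z rfl).uq i hz)
  have hs : Y.s = true := by
    rw [← Bool.not_eq_false, ← w2_comm_z1 hT, ← eY.comm i ht]
    simp [mul_def, j1, t, m2_ne]
  rcases w2_Y hs (((eY.mul eY).cast (by simp [mul_def, j1, z, neg_m2]) rfl).uq i hz)
    (((eY.conj eX).cast (by simp [mul_def, inv_def, j1, a1]) rfl).uq i eX.inv) with
    ⟨rfl, c, rfl⟩ | ⟨rfl, c, rfl⟩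
  · exact w2_mid d ⟨hz, o, eX, eY⟩ ⟨T, hT, ht⟩ eP
  · refine w2_mid d (g := ι (v 0) * m) (α := α) (c := c)
      ⟨hz.trans (Cj.of' (by rw [zc.c, mul_inv_cancel_right])), o,
        eX.trans (Cj.of' (by simp [v, mul_def, inv_def])), eY.trans (Cj.of' (by simp [v, mul_def, inv_def]))⟩
      ⟨T, hT, ht.trans (Cj.of' ?_)⟩ (eP.trans (Cj.of _ _))
    rw [(w2_comm_z1 hT).2 rfl, mul_inv_cancel_right]

/-- `φ' = ι (u p) φ (ι (u p))⁻¹` maps `J1 p ↦ I1' ↦ K1 p` and centralizes `Q₂ = (u p) Q₁ (u p)`; `φ` centralizes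
`Q₁ ∋ J1 p, K1 p, I1'` (`Fix`, powers of `a1` times `j1`).  `m = φ φ'` realizes the first five pairs, is defined
on `P₀ = closure {J1 p, I1', J2, I2} ≤ Cm (x4 p)` and maps `x4 p = J1 p * J2` to `z2 = z1 z`.  `Lv.ext` (with
`lev0 d (gc_sc d.inj)`) gives `ψ` agreeing with `m` on `P₀` and defined on `u p ↦ w`.  The action on `P₀`
commutes with conjugation by `u p` (it swaps `J1 p ↔ J2`, `I1' ↔ I2`, `K1 p ↔ K2`), so `w (u p)⁻¹` centralizes
`I1', I2, K1 p, K2` (`Cj.conj`, `Cj.uq`), hence is `1` or `z`.  `ψ ^ 4` (`Cj.pow4` with `n = 1`) works. -/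
theorem exists_l4 (d : MS ι ⊤) (h : ∃ g, Rz ι g (lφ k)) (p : R k) : ∃ g, Rz ι g (l4 p) := by
  have i := d.inj
  obtain ⟨φ, hφ⟩ := h
  have cj : ∀ {x y x' y' : WK k}, Cj ι φ x y → u p * x * (u p)⁻¹ = x' → u p * y * (u p)⁻¹ = y' →
      Cj ι (ι (u p) * (φ * (ι (u p))⁻¹)) x' y' := fun a b c => ((Cj.of' b).symm.trans a).trans (Cj.of' c)
  have uJ : u p * J2 k * (u p)⁻¹ = J1 p := by simp [mul_def, inv_def, u, J1, J2, sub_eq_add_neg]
  have uI : u p * I2 k * (u p)⁻¹ = I1' k := by simp [mul_def, inv_def, u, I1', I2]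
  have uK : u p * K2 k * (u p)⁻¹ = K1 p := by simp [mul_def, inv_def, u, K1, K2]
  have uJ' : u p * J1 p * (u p)⁻¹ = J2 k := by simp [mul_def, inv_def, u, J1, J2]
  have uI' : u p * I1' k * (u p)⁻¹ = I2 k := by simp [mul_def, inv_def, u, I1', I2]
  have uK' : u p * K1 p * (u p)⁻¹ = K2 k := by simp [mul_def, inv_def, u, K1, K2]
  have fz : Cj ι φ (z k) (z k) := hφ (z k, z k) (by simp [lφ])
  have fJ2 : Cj ι φ (J2 k) (I2 k) := hφ (J2 k, I2 k) (by simp [lφ])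
  have fI2 : Cj ι φ (I2 k) (K2 k) := hφ (I2 k, K2 k) (by simp [lφ])
  have fI : Cj ι φ (I1' k) (I1' k) := (w2_fix hφ _).1
  have fJ : Cj ι φ (J1 p) (J1 p) := by
    have : J1 p = ⟨q4 k + p + m2 k, q4 k + p, true, true, true⟩ := by
      rw [J1]; congr 1; linear_combination neg_q4 (k := k)
    rw [this]; exact (w2_fix hφ _).2
  have fK : Cj ι φ (K1 p) (K1 p) := by
    have : K1 p = ⟨m2 k + p + m2 k, m2 k + p, true, true, true⟩ := by
      rw [K1]; congr 1; linear_combination -two_m2 (k := k)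
    rw [this]; exact (w2_fix hφ _).2
  have uz : u p * z k * (u p)⁻¹ = z k := by rw [zc.c, mul_inv_cancel_right]
  have m0 := (cj fz uz uz).trans fz
  have m1 := (cj fJ2 uJ uI).trans fI
  have m2' := (cj fI2 uI uK).trans fK
  have m3 := (cj fJ uJ' uJ').trans fJ2
  have m4 := (cj fI uI' uI').trans fI2
  let s0 : List (WK k × WK k) := [(J1 p, I1' k), (I1' k, K1 p), (J2 k, I2 k), (I2 k, K2 k)]
  let P : Subgroup (WK k) := closure {J1 p, I1' k, J2 k, I2 k}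
  have gP : Gen P s0 := fun H hH => (closure_le H).2 (by
    rintro _ (rfl | rfl | rfl | rfl)
    exacts [hH (J1 p, I1' k) (by simp [s0]), hH (I1' k, K1 p) (by simp [s0]),
      hH (J2 k, I2 k) (by simp [s0]), hH (I2 k, K2 k) (by simp [s0])])
  have rz : Rz ι (φ * (ι (u p) * (φ * (ι (u p))⁻¹))) s0 := by
    simp only [Rz, s0, List.forall_mem_cons, List.not_mem_nil, false_imp_iff, imp_true_iff, and_true]
    exact ⟨m1, m2', m3, m4⟩
  have hP : P ≤ Cm zc (x4 p) := (closure_le _).2 (by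
    rintro _ (rfl | rfl | rfl | rfl)
    exacts [(w2_cm p).1, (w2_cm p).2.1, (w2_cm p).2.2.1, (w2_cm p).2.2.2])
  obtain ⟨n, hn, mp, ag⟩ := (lv1 d).ext (lev0 d (gc_sc i)) (cj_self.1 m0) (x := x4 p)
    (.of' ((m1.mul m3).cast (w2_id p).1 (w2_id p).2.1))
    hP (rz.top gP)
  have n0 := cj_self.2 hn
  have n1 := ag _ (subset_closure (by simp)) _ m1
  have n2 := ag _ (subset_closure (by simp)) _ m2'
  have n3 := ag _ (subset_closure (by simp)) _ m3
  have n4 := ag _ (subset_closure (by simp)) _ m4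
  have n5 : Cj ι n (K1 p) (J1 p) := (n1.mul n2).cast (w2_id p).2.2.1 (w2_id p).2.2.2.1
  have n6 : Cj ι n (K2 k) (J2 k) := (n3.mul n4).cast (w2_id p).2.2.2.2.1 (w2_id p).2.2.2.2.2
  obtain ⟨w, -, ew⟩ := mp (u p) (.inl (by simp [mul_def, inv_def, x4, u, neg_m2, add_comm]))
  have n7 : Cj ι (n * n) (u p) (u p) := by
    rcases w2_w (((ew.conj n1).cast uJ' rfl).uq i n3) (((ew.conj n3).cast uJ rfl).uq i n1)
      (((ew.conj n2).cast uI' rfl).uq i n4) (((ew.conj n4).cast uI rfl).uq i n2) with rfl | rfl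
    · exact ew.trans ew
    · exact (ew.trans (n0.mul ew)).cast rfl (by rw [← mul_assoc, zc.sq, one_mul])
  refine ⟨n ^ 4 ^ 1, ?_⟩
  simp only [Rz, l4, List.forall_mem_cons, List.not_mem_nil, false_imp_iff, imp_true_iff, and_true]
  refine ⟨n0.gpow _, n1.pow4 ?_ 1, n2.pow4 ?_ 1, n3.pow4 ?_ 1, n4.pow4 ?_ 1, ?_⟩
  · rw [mul_assoc]; exact (n2.trans n5).trans n1
  · rw [mul_assoc]; exact (n5.trans n1).trans n2
  · rw [mul_assoc]; exact (n4.trans n6).trans n3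
  · rw [mul_assoc]; exact (n6.trans n3).trans n4
  · rw [show n ^ 4 ^ 1 = (n * n) ^ 2 by rw [← sq, ← pow_mul]; rfl]
    exact n7.gpow 2

end Cfsg.Agent.L4F.W
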