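import Mathlib
import Cfsg.Agent.L4F.W2

/-! Fusion on `WK k`: the upper levels of the tower.  Notation as in `L4F/W0`. -/

set_option autoImplicit false
set_option linter.unusedSectionVars false

namespace Cfsg.Agent.L4F.W

open Subgroup Cfsg Cfsg.Agent.BF Cfsg.Agent.TT Cfsg.Agent.GHO Cfsg.Agent.P4T Cfsg.Agent.Gold
  Cfsg.Agent.PLocal.Amb WK

variable {k : ℕ} [NeZero k] {G : Type*} [Group G] [Finite G] {ι : WK k →* G} {g : G}
  {Good : Subgroup (WK k) → G → Prop}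

theorem W1.z1z : z1 k * z k = z2 k := by simp [mul_def, z, z1, z2, m2_add]

theorem W1.z2z : z2 k * z k = z1 k := by simp [mul_def, z, z1, z2, m2_add]

theorem W1.II : I1' k * I2 k = z1 k * z k := by
  simp only [mul_def, I1', I2, z, z1, WK.mk.injEq, sg_f, cond_false]
  exact ⟨by linear_combination -two_m2 (k := k), by linear_combination -two_q4 - two_m2 (k := k),
    by simp⟩

theorem W1.rδ {p : R k} (r : Rz ι g (lδ p)) : Cj ι g (z1 k) (z1 k * u p) ∧ Cj ι g (u p) (u p) ∧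
    Cj ι g (v (p + 1)) (v (p + 1)) ∧ Cj ι g (z2 k) (z2 k) :=
  ⟨r (z1 k, z1 k * u p) (by simp [lδ]), r (u p, u p) (by simp [lδ]),
    r (v (p + 1), v (p + 1)) (by simp [lδ]), r (z2 k, z2 k) (by simp [lδ])⟩

theorem W1.tφ (r : Rz ι g (lφ k)) : Cj ι g (t k) (z1 k * z k) := by
  have h1 : Cj ι g (a1 k) (a1 k) := r (a1 k, a1 k) (by simp [lφ])
  have h2 : Cj ι g (J2 k) (I2 k) := r (J2 k, I2 k) (by simp [lφ])
  have e : (a1 k ^ 2 ^ k)⁻¹ = I1' k := by simp [a1, WK.pw_mk, inv_def, I1', q4]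
  exact (((h1.pow (2 ^ k)).inv.cast e e).mul h2).cast (by simp [mul_def, I1', J2, t]) W1.II

theorem W1.x4l {p : R k} (r : Rz ι g (l4 p)) : Cj ι g (x4 p) (z1 k * z k) := by
  have h1 : Cj ι g (J1 p) (I1' k) := r (J1 p, I1' k) (by simp [l4])
  have h2 : Cj ι g (J2 k) (I2 k) := r (J2 k, I2 k) (by simp [l4])
  refine (h1.mul h2).cast ?_ W1.II
  simp only [mul_def, J1, J2, x4, WK.mk.injEq, sg_t, cond_true]
  exact ⟨by linear_combination -two_q4 - two_m2 (k := k), by ring, rfl, rfl, rfl⟩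

/-- `Cm (u p) = ⟨z1, u p⟩ × D₂ ∋ i2 = (0, q)`; the only involution which is a square in it is `z2`; so `g` fixes
`z2 = i2²` and `z`, hence `z1` and `z2`. -/
theorem no_u (d : MS ι ⊤) (p : R k) : No (lv1 d) (u p) :=
  fun g hg a b => by
  have hz : Cj ι g (z k) (z k) := cj_self.2 hg
  have hm := m2_ne (k := k)
  obtain ⟨⟨x, y, e, f, s⟩, hy, r⟩ := a ⟨0, q4 k, false, false, false⟩
    (.inl (by simp [mul_def, inv_def, u]))
  have h1 := (r.mul r).cast (y' := ⟨0, y + sg f y, false, false, false⟩) (x' := z2 k)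
    (by simp [mul_def, z2, q4_add]) (by
      rcases hy with hy | hy <;> cases e <;> cases f <;> cases s <;>
        simp [mul_def, inv_def, u, z, hm.symm] at hy ⊢ <;> linear_combination hy)
  generalize y + sg f y = c at h1
  have h2 := (h1.sq d.inj).1 (by simp [mul_def, z2, one_def, m2_add])
  have h3 := h1.ne_one d.inj (by simp [z2, one_def, hm])
  simp only [mul_def, one_def, WK.mk.injEq, sg_f, cond_false, ← two_mul, two_eq_zero, ne_eq] at h2 h3
  obtain rfl : c = m2 k := h2.2.1.resolve_left (by simpa using h3)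
  have h4 : Cj ι g (z2 k) (z2 k) := h1
  rcases b.cases with b | b
  · simpa [u, z1] using (b.eq_iff d.inj ((h4.mul hz).cast W1.z2z W1.z2z)).2 rfl
  · simpa [u, z2] using (b.eq_iff d.inj h4).2 W1.z1z

/-- `P = Cm (x5 p) ≤ {s = false}` (parity); `z1 = y₀²` for `y₀ = (q, q + p + 1, 0, 1, 0) ∈ P`; so the preimage
of `z1` (`Mp.inv`) is a square in `P`, lies in `A`, and so does the preimage of `z1 z`. -/
theorem no_x5 (d : MS ι ⊤) (p : R k) : No (lv1 d) (x5 p) :=
  fun g hg a b => by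
  have hz : Cj ι g (z k) (z k) := cj_self.2 hg
  obtain ⟨⟨x, y, e, f, s⟩, hy, r⟩ := a.inv ⟨q4 k, q4 k + p + 1, false, true, false⟩ (.inr (by
    simp only [mul_def, inv_def, x5, z, WK.mk.injEq, sg_f, sg_t, cond_false, Bool.false_xor,
      Bool.xor_true, Bool.not_true, Bool.not_false]
    exact ⟨by linear_combination two_q4 + two_m2 (k := k), by linear_combination two_q4 + two_m2 (k := k),
      by simp⟩))
  obtain rfl : s = false := by
    cases s
    · rfl
    have o : (1 : ZMod 2) ≠ 0 := by decide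
    have o2 : (2 : ZMod 2) = 0 := rfl
    rcases hy with hy | hy <;> cases e <;> cases f <;>
      simp only [mul_def, inv_def, x5, z, WK.mk.injEq, sg_f, sg_t, cond_false, cond_true, Bool.false_xor,
        Bool.xor_true, Bool.not_true, Bool.not_false, Bool.true_xor] at hy <;>
      have := congrArg (pr k) hy.1 <;>
      simp only [map_add, map_neg, map_one, pr_m2, ZMod.neg_eq_self_mod_two] at this <;>
      exact absurd (by linear_combination this - (pr k x) * o2) o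
  have h1 := (r.mul r).cast (x' := z1 k) (by simp [mul_def, z1, q4_add]) rfl
  rcases b.cases with b | b
  · simpa [mul_def, x5] using congrArg WK.e (b.symm.uq d.inj h1)
  · simpa [mul_def, x5, z] using congrArg WK.e (b.symm.uq d.inj (h1.mul hz.symm))

/-- `Lv.trick` with `lev0`; `x` is an involution `≠ 1, z`; `invol`, `Mv.conj`, `No.conj`, `No.ex`; `mv_self`;
`t ↦ z2 = z1 z` under `lφ` (`t = I1' J2`, `I1' = (a1 ^ 2 ^ k)⁻¹`), `x4 p ↦ z2` under `l4 p` (`Rz.top`, `gen_φ`,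
`gen_4`); `x6 p = u p * z` up to the shift `p + h` (`No.eqv`). -/
theorem lev1 (d : MS ι ⊤) (c : GC ι Good) (hφ : Gd ι Good (Cm zc (t k)) (lφ k))
    (h4 : ∀ p : R k, Gd ι Good (Cm zc (x4 p)) (l4 p)) : All ι 𝐜[ι (z k)] Good :=
  (lv1 d).trick c (lev0 d c) fun x g hg b => by
  have hz : Cj ι g (z k) (z k) := cj_self.2 hg
  have hm := m2_ne (k := k)
  obtain ⟨w, h1, b⟩ := b
  have h2 : w * w = 1 ∧ w ≠ 1 ∧ w ≠ z k := by
    rcases h1 with rfl | rfl <;> simp [mul_def, one_def, z, z1, m2_add, hm, hm.symm]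
  rcases invol ((b.sq d.inj).2 h2.1) with rfl | rfl | ⟨y, e | e | ⟨p, e | e | e | e⟩⟩
  · exact (h2.2.1 (b.uq d.inj Cj.one)).elim
  · exact (h2.2.2 (b.uq d.inj hz)).elim
  · exact .inl (Mv.conj c y e (mv_self c))
  · obtain ⟨m, r, gd⟩ := hφ
    exact .inl (Mv.conj c y e ⟨m, cj_self.1 (r (z k, z k) (by simp [lφ])), r.top gen_φ, gd,
      .of' (W1.tφ r)⟩)
  · exact .inr (No.conj y e (no_u d p)).ex
  · obtain ⟨m, r, gd⟩ := h4 p
    exact .inl (Mv.conj c y e ⟨m, cj_self.1 (r (z k, z k) (by simp [l4])), r.top (gen_4 p), gd,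
      .of' (W1.x4l r)⟩)
  · exact .inr (No.conj y e (no_x5 d p)).ex
  · exact .inr (No.conj y e (No.eqv (.inr (by simp [mul_def, x6, u, z, neg_m2])) (no_u d p))).ex

/-- `Lv.trick` for `lv_one d zc` (`All.one`).  `z1, t, x4 p, u p` are conjugate to `z1` (`t, x4 p ↦ z2`;
`lδ (p + h)` maps `z1` to `u p`), so not to `z` (`not_z1`).  `lδ p` maps `x6 p = z1 * u p * z2` to `z` (`cm_x6`)
and `x5 p = z1 * u p * v (p + 1)` to `z1 * v (p + 1)` (`cm_x5`, `Mv.of_le`), which is conjugate by `t` to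
`x6 (p + 1 + h)`. -/
theorem lev2 (n : NF ι) (c : GC ι Good) (h1 : All ι 𝐜[ι (z k)] Good)
    (hδ : ∀ p : R k, Gd ι Good (Cm zc_one (u p)) (lδ p)) : All ι ⊤ Good :=
  (lv_one n.toMS zc).trick c (All.one (d := n.toMS) (hz := zc) h1) fun x g _ b => by
  have hm := m2_ne (k := k)
  rw [to_one] at b
  have k1 : ∀ y w m, y * x * y⁻¹ = w → Cj ι m w (z1 k * z k) → False := fun y w m e r =>
    not_z1 n.toMS ((((Cj.of' (k := t k) (by simp [mul_def, inv_def, t, z, z1, m2_add])).trans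
      r.symm).trans (Cj.of' e).symm).trans b)
  have k6 : ∀ p : R k, Mv (lv_one n.toMS zc) Good (x6 p) := fun p => by
    obtain ⟨m, r, gd⟩ := hδ p
    rw [← cm_x6] at gd
    refine ⟨m, trivial, cm_x6 p ▸ r.top (gen_δ p), gd, .of ?_⟩
    obtain ⟨e1, e2, -, e3⟩ := W1.rδ r
    exact ((e1.mul e2).mul e3).cast (by simp [mul_def, x6, u, z1, z2, add_comm])
      (by simp [mul_def, u, z1, z2, z])
  rcases invol ((b.sq n.inj).2 zc.sq) with rfl | rfl | ⟨y, e | e | ⟨p, e | e | e | e⟩⟩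
  · exact absurd (b.uq n.inj Cj.one) (by simp [z, one_def, hm])
  · exact .inl (mv_self c)
  · exact (not_z1 n.toMS ((Cj.of' e).symm.trans b)).elim
  · exact n.φ.elim fun m r => (k1 y _ m e (W1.tφ r)).elim
  · obtain ⟨m, r⟩ := n.δ (p + m2 k)
    refine (not_z1 n.toMS ((((W1.rδ r).1.cast rfl ?_).trans (Cj.of' e).symm).trans b)).elim
    simp only [mul_def, u, z1, WK.mk.injEq, sg_f, cond_false]
    exact ⟨by linear_combination two_m2 (k := k), by simp⟩
  · exact (exists_l4 n.toMS n.φ p).elim fun m r => (k1 y _ m e (W1.x4l r)).elim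
  · obtain ⟨m, r, gd⟩ := hδ p
    obtain ⟨e1, e2, e3, -⟩ := W1.rδ r
    refine .inl (Mv.conj c y e (Mv.of_le c trivial (cm_x5 p) (r.top (gen_δ p)) gd
      (((e1.mul e2).mul e3).cast (by simp [mul_def, x5, u, z1, v, add_comm]) rfl)
      (Mv.conj c (t k) ?_ (k6 (p + 1 + m2 k)))))
    simp [mul_def, inv_def, t, x6, u, z1, v, add_assoc, m2_add]
  · exact .inl (Mv.conj c y e (k6 p))

/-- `All.sim`, `gc_re`, `gd_re`, `exists_l4`. -/
theorem NF.sim {G₀ : Type*} [Group G₀] [Finite G₀] {ι₀ : WK k →* G₀} (n : NF ι) (n₀ : NF ι₀) :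
    Sim ι ι₀ :=
  All.sim (lev2 n (gc_re n.inj ι₀) (lev1 n.toMS (gc_re n.inj ι₀) (gd_re n.inj n.φ n₀.φ gen_φ)
    fun p => gd_re n.inj (exists_l4 n.toMS n.φ p) (exists_l4 n₀.toMS n₀.φ p) (gen_4 p))
    fun p => gd_re n.inj (n.δ p) (n₀.δ p) (gen_δ p))

end Cfsg.Agent.L4F.W
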