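import Mathlib
import Cfsg.Agent.L4F.W1

/-! Fusion on `WK k`: the normal form.  Notation as in `L4F/W0`. -/

set_option autoImplicit false
set_option linter.unusedSectionVars false

namespace Cfsg.Agent.L4F.W

open Subgroup Cfsg Cfsg.Agent.BF Cfsg.Agent.TT Cfsg.Agent.GHO Cfsg.Agent.P4T Cfsg.Agent.Gold
  Cfsg.Agent.PLocal.Amb WK

variable {k : ℕ} [NeZero k] {G : Type*} [Group G] [Finite G] {ι : WK k →* G} {g : G}
  {Good : Subgroup (WK k) → G → Prop}

/-- `u p` is mapped to `w`, extremally -/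
def Fu (ι : WK k →* G) (p : R k) (w : WK k) : Prop :=
  ∃ g, Cj ι g (u p) w ∧ Cj ι g (z2 k) (z2 k) ∧ Mp ι g (Cm zc_one (u p)) ⊤

namespace W3

theorem inv_A {x : WK k} (e : x.e = false) (f : x.f = false) (s : x.s = false) (h : x * x = 1) :
    x = 1 ∨ x = z1 k ∨ x = z2 k ∨ x = z k := by
  obtain ⟨a, b, _, _, _⟩ := x
  subst e f s
  simp only [mul_def, one_def, WK.mk.injEq, sg_f, cond_false, ← two_mul, two_eq_zero] at h
  rcases h with ⟨rfl | rfl, rfl | rfl, -⟩ <;> simp [z, z1, z2, one_def]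

theorem pw_A (x : WK k) : ∃ a b, x ^ 2 ^ (k + 1) = ⟨a, b, false, false, false⟩ := by
  obtain ⟨j, hj⟩ := Nat.exists_eq_succ_of_ne_zero (NeZero.ne k)
  obtain ⟨a, b, h⟩ : ∃ a b, x ^ 4 = ⟨a, b, false, false, false⟩ := by
    obtain ⟨a, b, e, f, s⟩ := x
    rw [show 4 = 2 * 2 from rfl, pow_mul, sq, sq]
    cases e <;> cases f <;> cases s <;> exact ⟨_, _, rfl⟩
  exact ⟨_, _, by rw [show 2 ^ (k + 1) = 4 * 2 ^ j by rw [hj, pow_succ, pow_succ]; ring, pow_mul, h, WK.pw_mk]⟩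

theorem sq_z2 {x : WK k} (h : x * x = z2 k) : x.s = false ∧ x.f = false ∧ 2 * x.v = m2 k := by
  obtain ⟨a, b, e, f, s⟩ := x
  have := m2_ne (k := k)
  cases e <;> cases f <;> cases s <;> simp [mul_def, z2, two_mul, this.symm] at h ⊢
  · exact h.2
  · exact this (by linear_combination h.1 - h.2)
  · exact h
  · exact this (by linear_combination -h.1 - h.2)

theorem comm_z2 {x : WK k} : x * z2 k = z2 k * x ↔ x.s = false := by
  obtain ⟨a, b, e, f, s⟩ := x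
  have := m2_ne (k := k)
  cases e <;> cases f <;> cases s <;> simp [mul_def, z2, neg_m2, add_comm, this]

theorem comm_z1 {x : WK k} : x * z1 k = z1 k * x ↔ x.s = false := by
  obtain ⟨a, b, e, f, s⟩ := x
  have := m2_ne (k := k)
  cases e <;> cases f <;> cases s <;> simp [mul_def, z1, neg_m2, add_comm, this]

theorem comm_u {x : WK k} {p : R k} (h : x * u p = u p * x) : x.s = false := by
  obtain ⟨a, b, e, f, s⟩ := x
  cases e <;> cases f <;> cases s <;> simp [mul_def, u] at h ⊢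

theorem comm_i {x y : WK k} (h : y * y = z2 k) (s : x.s = false) (c : x * y = y * x) : x.f = false := by
  obtain ⟨h1, h2, h3⟩ := sq_z2 h
  obtain ⟨a, b, e, f, _⟩ := x
  obtain ⟨a', b', e', _, _⟩ := y
  subst s h1 h2
  cases f
  · rfl
  · simp only [mul_def, WK.mk.injEq, sg_f, sg_t, cond_false] at c h3
    exact (m2_ne (k := k) (by linear_combination -c.2.1 - h3)).elim

theorem u_sq (p : R k) : u p * u p = 1 := by simp [u, mul_def, one_def]

theorem t_z1 : t k * z1 k * (t k)⁻¹ = z2 k := by simp [t, z1, z2, mul_def, inv_def]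

theorem t_z2 : t k * z2 k * (t k)⁻¹ = z1 k := by simp [t, z1, z2, mul_def, inv_def]

/-- the image of `i2` -/
theorem im_i2 (d : MS ι ⊤) {p : R k} (b : Cj ι g (z2 k) (z2 k)) (m : Mp ι g (Cm zc_one (u p)) ⊤) {x y : WK k}
    (a : Cj ι g x y) (f : x.f = false) (s : x.s = false) : y.f = false ∧ y.s = false := by
  obtain ⟨Y, -, c⟩ := m ⟨0, q4 k, false, false, false⟩ (mem_Cm_one.2 (by simp [u, mul_def]))
  have s' := comm_z2.1 ((a.comm d.inj b).1 (comm_z2.2 s))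
  refine ⟨comm_i (((c.mul c).cast (by simp [mul_def, z2, q4_add]) rfl).uq d.inj b) s' ((a.comm d.inj c).1 ?_), s'⟩
  obtain ⟨a, b, e, _, _⟩ := x
  subst f s
  cases e <;> simp [mul_def, add_comm]

theorem fu_aux (d : MS ι ⊤) {p : R k} {y : WK k} (hy : y.e = y.f) (a : Cj ι g (u p) y) (b : Cj ι g (z2 k) (z2 k))
    (m : Mp ι g (Cm zc_one (u p)) ⊤) : Fu ι p (z1 k) ∨ Fu ι p (z k) := by
  obtain ⟨f, s⟩ := im_i2 d b m a rfl rfl
  rcases inv_A (hy.trans f) f s ((a.sq d.inj).1 (u_sq p)) with c | c | c | c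
  · exact (a.ne_one d.inj (by simp [u, one_def]) c).elim
  · exact .inl ⟨g, c ▸ a, b, m⟩
  · exact absurd ((a.eq_iff d.inj b).2 c) (by simp [u, z2])
  · exact .inr ⟨g, c ▸ a, b, m⟩

/-- the subgroup `e = f` -/
def kM (k : ℕ) : Subgroup (WK k) where
  carrier := {x | x.e = x.f}
  one_mem' := rfl
  mul_mem' := by
    rintro ⟨_, _, e, _, s⟩ ⟨_, _, e', _, _⟩ (rfl : e = _) (rfl : e' = _)
    cases s <;> rfl
  inv_mem' := by
    rintro ⟨_, _, e, _, s⟩ (rfl : e = _)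
    cases s <;> rfl

/-- the twisting automorphisms -/
def th {ε δ : R k} (h1 : 2 * ε = 0) (h2 : 2 * δ = 0) : WK k →* WK k :=
  MonoidHom.mk' (fun x => ⟨x.u + cond x.f ε 0 + δ * x.v, x.v + cond x.e ε 0 + δ * x.u, x.e, x.f, x.s⟩) (by
    rintro ⟨a, b, e, f, s⟩ ⟨a', b', e', f', s'⟩
    cases e <;> cases f <;> cases s <;> cases e' <;> cases f' <;> simp [mul_def] <;> grind)

theorem th_mk {ε δ : R k} (h1 : 2 * ε = 0) (h2 : 2 * δ = 0) (a b : R k) (e f s : Bool) :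
    th h1 h2 ⟨a, b, e, f, s⟩ = ⟨a + cond f ε 0 + δ * b, b + cond e ε 0 + δ * a, e, f, s⟩ := rfl

theorem mul_ev {δ x : R k} (h : 2 * δ = 0) (e : 2 * x = 0) : δ * x = 0 := by
  rcases two_eq_zero.1 h with rfl | rfl
  exacts [zero_mul _, m2_mul_even (even_of_two_eq_zero e)]

theorem th_inj {ε δ : R k} (h1 : 2 * ε = 0) (h2 : 2 * δ = 0) : Function.Injective (th h1 h2) :=
  (injective_iff_map_eq_one _).2 (by
    rintro ⟨a, b, e, f, s⟩ h
    simp only [th_mk, one_def, WK.mk.injEq] at h ⊢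
    obtain ⟨r1, r2, rfl, rfl, rfl⟩ := h
    have := mul_ev h2 h2
    simp only [cond_false, add_zero] at r1 r2
    exact ⟨by linear_combination r1 - δ * r2 + a * this, by linear_combination r2 - δ * r1 + b * this, rfl, rfl, rfl⟩)

theorem fu_th {ε δ c p : R k} (h1 : 2 * ε = 0) (h2 : 2 * δ = 0) (hc : 2 * c = 0) (e : ε + δ * p = c)
    (F : Fu ι p ⟨m2 k, c, false, false, false⟩) : Fu (ι.comp (th h1 h2)) p (z1 k) := by
  obtain ⟨g, a, b, m⟩ := F
  have hm := mul_ev h2 (two_m2 (k := k))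
  have e2 : th h1 h2 (z2 k) = z2 k := by simp [z2, th_mk, hm]
  have e3 : th h1 h2 (u p) = u p * ⟨0, c, false, false, false⟩ := by simp [u, th_mk, mul_def, e]
  have b' : Cj ι g ⟨0, c, false, false, false⟩ ⟨0, c, false, false, false⟩ := by
    rcases two_eq_zero.1 hc with rfl | rfl
    exacts [Cj.one, b]
  refine ⟨g, cj_comp.2 ((a.mul b').cast e3.symm (by simp [z1, th_mk, mul_def, hm, ← two_mul, hc])),
    cj_comp.2 (e2.symm ▸ b), fun x hx => ?_⟩
  have c1 := congrArg (th h1 h2) (mem_Cm_one.1 hx)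
  have c2 : (th h1 h2 x).s = false := comm_u (x := x) (mem_Cm_one.1 hx)
  rw [map_mul, map_mul, e3] at c1
  have c3 : th h1 h2 x * ⟨0, c, false, false, false⟩ = ⟨0, c, false, false, false⟩ * th h1 h2 x := by
    rcases two_eq_zero.1 hc with rfl | rfl
    exacts [(mul_one _).trans (one_mul _).symm, comm_z2.2 c2]
  obtain ⟨y, -, r⟩ := m (th h1 h2 x) (mem_Cm_one.2 (by
    rwa [mul_assoc, ← c3, ← mul_assoc, ← mul_assoc, mul_left_inj] at c1))
  obtain ⟨y, rfl⟩ := Finite.injective_iff_surjective.1 (th_inj h1 h2) y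
  exact ⟨y, trivial, r⟩

theorem fu_shift (d : MS ι ⊤) {p : R k} {w : WK k} (F : Fu ι p w) (c : R k) : Fu ι (2 * c + p) w := by
  obtain ⟨g, a, b, m⟩ := F
  have e : Cj ι (ι ⟨-c, 0, false, false, false⟩) (u (2 * c + p)) (u p) :=
    Cj.of' (by simp [u, mul_def, inv_def]; ring)
  exact ⟨_, e.trans a, (Cj.of' (by simp [z2, mul_def, inv_def])).trans b,
    ((Mp.of fun _ _ => mem_top _).cm d.inj Cj.one le_rfl e).trans m⟩

end W3

open W3

/-- `thompson` for `M = {e = f}` and `x = u p`: `g` is defined on `C(u p) = ⟨z1, u p⟩ × D₂`, `u p ↦ y ∈ M`.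
`z2 = r2 ^ 2 ^ (k+1)`, `r2 = (0, 1)`, so `g z2 ∈ U`, `≠ z` (`not_z1`); compose with `t` if necessary:
`g z2 = z2`, so all images have `s = false`.  `g i2` (`i2 = (0, q)`) has square `z2`, so it is
`(α, ± q, e, false, false)`; `y` commutes with it, so `f(y) = false = e(y)`, `y ∈ U`, `y ≠ 1, z2`. -/
theorem fu_or [IsSimpleGroup G] (d : MS ι ⊤) (p : R k) : Fu ι p (z1 k) ∨ Fu ι p (z k) := by
  obtain ⟨g, y, hy, a, m⟩ := thompson d (idx_two d (x := t k) (y := u 0) (by simp [t, u, mul_def])) (kM k) (u 0)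
    (by
      rintro ⟨a, b, e, f, s⟩
      change Xor' (xor e (cond s false true) = xor f (cond s true false)) (e = f)
      cases e <;> cases f <;> cases s <;> simp [Xor']) (u_sq p)
  obtain ⟨X, -, c⟩ := m ⟨0, 1, false, false, false⟩ (mem_Cm_one.2 (by simp [u, mul_def]))
  obtain ⟨α, β, e⟩ := pw_A X
  have b := (c.pow (2 ^ (k + 1))).cast (x' := z2 k) (by rw [WK.pw_mk, cast_m2]; simp [z2]) e
  rcases inv_A rfl rfl rfl ((b.sq d.inj).1 (by simp [z2, mul_def, one_def, m2_add])) with r | r | r | r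
  · exact (b.ne_one d.inj (by simp [z2, one_def, m2_ne]) r).elim
  · refine fu_aux d ?_ (a.trans (Cj.of (t k) y)) ((r ▸ b).trans (Cj.of' t_z1)) (m.trans (Mp.of fun _ _ => trivial))
    exact mul_mem (mul_mem (show t k ∈ kM k from rfl) hy) (inv_mem (show t k ∈ kM k from rfl))
  · exact fu_aux d hy a (r ▸ b) m
  · exact (not_z1 d ((Cj.of' t_z1).trans (r ▸ b))).elim

/-- Twist by the automorphisms `θu (a, b, e, f, s) = (a + f h, b + e h, e, f, s)` (`u p ↦ u p * z2`) and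
`θr (a, b, e, f, s) = (a + h b, b + h a, e, f, s)` (`u 0 ↦ u 0`, `u 1 ↦ u 1 * z2`); both are involutions, fix
`z1, z2` and preserve `C(u p)`; `MS.comp`, `cj_comp`; if `u p ↦ z` then `u p * z2 ↦ z1`.  From `p = 0, 1` to all
`p`: conjugation by `(c, c, 0, 0, 0)` maps `u p` to `u (p + 2 c)` (`par`). -/
theorem exists_fu [IsSimpleGroup G] (d : MS ι ⊤) :
    ∃ ι' : WK k →* G, MS ι' ⊤ ∧ ∀ p, Fu ι' p (z1 k) := by
  have h : ∀ p, ∃ c, 2 * c = 0 ∧ Fu ι p ⟨m2 k, c, false, false, false⟩ := fun p =>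
    (fu_or d p).elim (fun r => ⟨0, mul_zero _, r⟩) fun r => ⟨_, two_m2, r⟩
  obtain ⟨c, c2, F⟩ := h 0
  obtain ⟨c', c2', F'⟩ := h 1
  have h2 : 2 * (c + c') = 0 := by rw [mul_add, c2, c2', add_zero]
  have d' := MS.comp d (th_inj c2 h2)
  refine ⟨_, d', fun p => ?_⟩
  rcases par p with ⟨b, rfl⟩ | ⟨b, rfl⟩
  · simpa using fu_shift d' (fu_th c2 h2 c2 (by simp) F) b
  · exact fu_shift d' (fu_th c2 h2 c2' (by linear_combination c2) F') b

/-- the transvection with centre `u p` -/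
def Dl (ι : WK k →* G) (p : R k) (δ : G) : Prop :=
  (∀ y ∈ Cm zc_one (u p), Cj ι δ y y ∨ Cj ι δ y (y * u p)) ∧ Cj ι δ (z1 k) (z1 k * u p) ∧
    Cj ι δ (u p) (u p) ∧ Cj ι δ (z2 k) (z2 k)

/-- `δ = g⁻¹ ι(i1) g`, `i1 = (q, 0)`: for `y ∈ C(u p)` the image `y'` commutes with `z1 = g (u p)`, so
`s(y') = false` and `i1 y' i1⁻¹ = y'` or `y' z1` according to `e(y')`.  For `y = z1`: `y'` is an involution
commuting with `g i2 = (α, ± q, e, false, false)`, so `f(y') = false`; if `e(y') = false` then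
`y' ∈ U = g ⟨u p, z2⟩`, impossible. -/
theorem Fu.dl (d : MS ι ⊤) {p : R k} (h : Fu ι p (z1 k)) : ∃ δ, Dl ι p δ := by
  obtain ⟨g, a, b, m⟩ := h
  let i : WK k := ⟨q4 k, 0, false, false, false⟩
  have key : ∀ y : WK k, y.s = false → (y.e = false → i * y * i⁻¹ = y) ∧ (y.e = true → i * y * i⁻¹ = y * z1 k) := by
    rintro ⟨a, b, e, f, _⟩ rfl
    cases e <;> cases f <;> simp [i, mul_def, inv_def, z1] <;> grind [two_q4, two_m2]
  have k1 : ∀ {y y'}, Cj ι g y y' → y'.s = false → y'.e = false → Cj ι (g⁻¹ * (ι i * g)) y y := fun r s e =>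
    (r.trans (Cj.of' ((key _ s).1 e))).trans r.symm
  have k2 : ∀ {y y'}, Cj ι g y y' → y'.s = false → y'.e = true → Cj ι (g⁻¹ * (ι i * g)) y (y * u p) := fun r s e =>
    (r.trans (Cj.of' ((key _ s).2 e))).trans (r.mul a).symm
  refine ⟨g⁻¹ * (ι i * g), fun y hy => ?_, ?_, k1 a rfl rfl, k1 b rfl rfl⟩
  · obtain ⟨y', -, r⟩ := m y hy
    have s := W3.comm_z1.1 ((r.comm d.inj a).1 (mem_Cm_one.1 hy))
    cases e : y'.e
    exacts [.inl (k1 r s e), .inr (k2 r s e)]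
  · obtain ⟨y', -, r⟩ := m (z1 k) (mem_Cm_one.2 (W3.comm_z1.2 rfl).symm)
    obtain ⟨f, s⟩ := im_i2 d b m r rfl rfl
    refine k2 r s (Bool.of_not_eq_false fun e => ?_)
    rcases inv_A e f s ((r.sq d.inj).1 (by simp [z1, mul_def, one_def, m2_add])) with c | c | c | c
    · exact r.ne_one d.inj (by simp [z1, one_def, m2_ne]) c
    · exact absurd ((r.eq_iff d.inj a).2 c) (by simp [u, z1])
    · exact absurd ((r.eq_iff d.inj b).2 c) (by simp [z1, z2, m2_ne])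
    · exact not_z1 d (c ▸ r)

namespace W3

/-- the parity character -/
def ch (k : ℕ) : WK k →* Multiplicative (ZMod 2) :=
  MonoidHom.mk' (fun x => Multiplicative.ofAdd (pr k (x.u + x.v))) (by
    rintro ⟨a, b, e, f, s⟩ ⟨a', b', e', f', s'⟩
    rw [← ofAdd_add, mul_def]
    cases s <;> simp only [map_add, pr_sg, cond_true, cond_false] <;> congr 1 <;> ring)

theorem ch_eq {x y : WK k} : ch k x = ch k y ↔ pr k (x.u + x.v) = pr k (y.u + y.v) := Iff.rfl

theorem ch_fn (d : MS ι ⊤) (h : ∃ g, Rz ι g (lφ k)) {x y : WK k} (a : Cj ι g (z k) (z k)) (b : Cj ι g x y) :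
    ch k y = ch k x :=
  All.fn (lev1 d (gc_fn d.inj fun a b => by simp) (gd_fn d.inj (ch k) h (by
    simp [lφ, ch_eq, J2, I2, K2]) gen_φ) fun p => gd_fn d.inj (ch k) (exists_l4 d h p) (by
    simp [l4, ch_eq, J1, I1', K1, J2, I2, K2, CharTwo.add_self_eq_zero]) (gen_4 p)) (cj_self.1 a) b

end W3

/-- `exists_fu`, `t_fuse`, `exists_φ`, `exists_l4` for the twisted `ι`; `δ = δ_p` from `Fu.dl`.  All
`(c, h, 1, 0, 0) = u c * z2` are conjugate to `z` and all `u c`, `v c` to `z1` (`Fu`).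
(1) `δ (v p) = v p * u p`: otherwise `z1 * v p ↦ z1 * u p * v p = x4 p ~ z2` (`l4 p`), but `z1 * v p ~ u p * z2 ~ z`.
(2) `δ` fixes `v (p + 1)`.  Otherwise `v (p + 1) ↦ v (p + 1) * u p = (p, p + 1, 1, 1, 0)`, which is thus conjugate
to `z1`.  Let `δ' = ι t * δ_{p+1} * (ι t)⁻¹`; it acts on `C(v (p + 1)) ∋ z1, z2, u p`, fixes `z1, v (p + 1)`,
`z2 ↦ z2 * v (p + 1)`, and `u p ↦ u p` or `u p * v (p + 1)`.  In the first case `u p * z2 ↦ (p, p + 1 + h, 1, 1, 0)`,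
conjugate in `S` to `(p, p + 1, 1, 1, 0)`, so `z ~ z1`.  In the second case `γ = δ'⁻¹ δ δ'` fixes `z`
(`z ↦ z * v (p + 1) ↦ z * v (p + 1) ↦ z`) and maps `z1` to `z1 * u p * v (p + 1)`.  This contradicts
`All.fn (lev1 d (gc_fn ..) (gd_fn ..) ..)` for the character
`f : WK k →* Multiplicative (ZMod 2)`, `(a, b, e, f, s) ↦ pr k (a + b)`, which is preserved by `lφ` and `l4 p`. -/
theorem exists_nf [IsSimpleGroup G] (d : MS ι ⊤) : ∃ ι' : WK k →* G, NF ι' := by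
  obtain ⟨ι, d, F⟩ := exists_fu d
  obtain ⟨g, g1, g2⟩ := t_fuse d
  have hφ := exists_φ d g1 g2
  refine ⟨ι, d, hφ, fun p => ?_⟩
  have nz : ∀ {x g g'}, Cj ι g x (z1 k) → Cj ι g' x (z k) → False := fun a b => not_z1 d (a.symm.trans b)
  have tv : ∀ c : R k, t k * v c * (t k)⁻¹ = u c := fun c => by simp [t, u, v, mul_def, inv_def]
  have tu : ∀ c : R k, t k * u c * (t k)⁻¹ = v c := fun c => by simp [t, u, v, mul_def, inv_def]
  have cv : ∀ c c' : R k, v c ∈ Cm zc_one (u c') := fun c c' => mem_Cm_one.2 (by simp [u, v, mul_def])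
  obtain ⟨g₀, Z⟩ : ∃ g, Cj ι g (z1 k * v p) (z k) := by
    obtain ⟨g, a, b, -⟩ := F p
    exact ⟨_, (Cj.of' (k := t k) (by simp [t, u, v, z1, z2, mul_def, inv_def])).trans
      ((a.mul b).cast rfl (by simp [z, z1, z2, mul_def]))⟩
  obtain ⟨δ, h0, h1, h2, h3⟩ := (F p).dl d
  have h4 : Cj ι δ (v p) (v p * u p) := (h0 _ (cv p p)).resolve_left fun r => by
    obtain ⟨m, l⟩ := exists_l4 d hφ p
    have := (l (J1 p, I1' k) (by simp [l4])).mul (l (J2 k, I2 k) (by simp [l4]))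
    refine nz (((h1.mul r).trans (this.cast ?_ ?_)).trans (Cj.of' t_z2)) Z
    · simp [J1, J2, z1, u, v, mul_def, ← q4_add]; grind [two_q4, two_m2]
    · simp [I1', I2, z2, mul_def, ← neg_add, q4_add, neg_m2]
  have h5 : Cj ι δ (v (p + 1)) (v (p + 1)) := (h0 _ (cv _ p)).resolve_right fun r => by
    obtain ⟨δ', k0, k1, k2, k3⟩ := (F (p + 1)).dl d
    rcases k0 _ (cv p _) with k4 | k4
    · obtain ⟨g, a, -⟩ := F (p + 1)
      refine nz ((((k1.mul k4).trans (Cj.of' (k := ⟨0, q4 k, false, false, true⟩) ?_)).trans r.symm).trans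
        ((Cj.of' (tv _)).trans a)) Z
      simp [z1, u, v, mul_def, inv_def]; grind [two_q4, two_m2]
    · have tt : ∀ {x y}, Cj ι δ' x y → Cj ι (ι (t k) * (δ' * (ι (t k))⁻¹)) (t k * x * (t k)⁻¹) (t k * y * (t k)⁻¹) :=
        fun a => ((Cj.of _ _).symm.trans a).trans (Cj.of _ _)
      have a1 := (tt k3).cast t_z2 t_z2
      have a2 := (tt k1).cast t_z1 ((conj_mul (b := t k)).symm.trans (congrArg₂ _ t_z1 (tu _)))
      have a3 := (tt k2).cast (tu _) (tu _)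
      have a4 := (tt k4).cast (tv _) ((conj_mul (b := t k)).symm.trans (congrArg₂ _ (tv _) (tu _)))
      have e : z1 k * z2 k = z k := by simp [z, z1, z2, mul_def]
      have := ch_fn d hφ ((((a1.mul a2).trans ((h1.mul (h3.mul r)).cast rfl ?_)).trans (a1.mul a2).symm).cast e e)
        ((a1.trans h1).trans (((a1.mul (a4.mul a3)).cast rfl ?_).symm))
      · simp [ch_eq, z1, u, v, mul_def, ← add_assoc, CharTwo.add_self_eq_zero] at this
      · simp [z1, z2, u, v, mul_def]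
      · simp [z1, u, v, mul_def]
  exact ⟨δ, by simp only [lδ, Rz, List.forall_mem_cons]; exact ⟨h1, h2, h4, h5, h3, by simp⟩⟩

end Cfsg.Agent.L4F.W
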